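import Mathlib
import Cfsg.Agent.H487.SchurPerfect
import Cfsg.Agent.H67.PCov
set_option linter.all false

/-!
# The Schur multiplier of a central quotient of a perfect group with trivial multiplier

`hasSchurMultiplier_of_cover`: `G` finite, perfect, with trivial Schur multiplier, `π : G → Q` surjective with central
kernel isomorphic to `A`: the Schur multiplier of `Q` is `A`.
-/

set_option autoImplicit false

namespace Cfsg.Agent.H60.CoverMult

open Function

universe u v w

/-- A lift of a surjection to a stem extension of a perfect group is surjective. -/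
theorem surjective_of_comp {G : Type u} {Q : Type v} {Γ : Type w} [Group G] [Group Q] [Group Γ]
    (hG : commutator G = ⊤) {π : G →* Q} (hπ : Surjective π) {σ : Γ →* Q} (hσ : Cfsg.IsStemExtension σ)
    {η : G →* Γ} (hη : σ.comp η = π) : Surjective η := by
  have hQ : commutator Q = ⊤ := KFacts.MulDef.commutator_top_of_surj π hπ hG
  have hΓ : commutator Γ = ⊤ := H67.perf_of_stem hQ hσ
  have h1 := H487.commutator_eq_map_of_central hσ.2.1 (φ := η) (by rw [hη]; exact hπ)
  rw [hΓ, hG, ← MonoidHom.range_eq_map] at h1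
  exact MonoidHom.range_eq_top.1 h1.symm

/-- **The Schur multiplier of a central quotient of a perfect group with trivial multiplier.** -/
theorem hasSchurMultiplier_of_cover {G Q : Type u} [Group G] [Finite G] [Group Q] (hG : commutator G = ⊤)
    (hM : Cfsg.HasCyclicSchurMultiplier G 1) {π : G →* Q} (hπ : Surjective π) (hker : π.ker ≤ Subgroup.center G)
    {A : Type v} [CommGroup A] (e : π.ker ≃* A) : Cfsg.HasSchurMultiplier Q A := by
  refine ⟨⟨G, inferInstance, inferInstance, π, ⟨hπ, hker, ?_⟩, ⟨e⟩⟩, ?_⟩
  · rw [hG]; exact le_top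
  · intro Γ _ _ σ hσ
    obtain ⟨η, hη⟩ := H487.exists_lift_of_trivial (P := G) ⟨hG⟩ hM π hσ.1 hσ.2.1
    have hs := surjective_of_comp hG hπ hσ hη
    have hmem : ∀ x : π.ker, η x ∈ σ.ker := by
      intro x
      rw [MonoidHom.mem_ker, ← MonoidHom.comp_apply, hη]
      exact x.2
    let f : π.ker →* σ.ker := (η.comp π.ker.subtype).codRestrict σ.ker hmem
    refine ⟨f.comp e.symm.toMonoidHom, ?_⟩
    have hf : Surjective f := by
      rintro ⟨y, hy⟩
      obtain ⟨x, rfl⟩ := hs y
      refine ⟨⟨x, ?_⟩, Subtype.ext rfl⟩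
      rw [MonoidHom.mem_ker, ← hη]
      exact hy
    intro y
    obtain ⟨x, rfl⟩ := hf y
    exact ⟨e x, by simp⟩

end Cfsg.Agent.H60.CoverMult
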