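import Mathlib
import Cfsg.Agent.KFacts.Mult.TypeA
import Cfsg.Agent.KFacts.Mult.LacedRGD
import Cfsg.Agent.KFacts.SLRow.Psl
import Cfsg.Agent.Nodes.CommA
import Cfsg.Agent.KFacts.MulOdd.TypeA
import Cfsg.Agent.H67.PCov
set_option linter.all false

/-!
# `SL(n, q)`, `q` even: no perfect double covers

`noPCov_SL_two`: `F` a finite field of characteristic 2 with `q` elements, `n ≥ 2`, `(n, q)` not `(2, 2)`, `(2, 4)`,
`(3, 2)`, `(3, 4)`, `(4, 2)`.

(The case `q = 2` repeats `KFacts.Mult.LacedA` of `OddHalf.D9.MultAll` with a small import closure.)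
-/

set_option autoImplicit false
set_option linter.unusedSectionVars false

namespace Cfsg.Agent.H60.EvenA

open Matrix CoxeterSystem Cfsg.Agent.ChevalleyStructure.CoxeterGeom Cfsg.Agent.Tits.Roots Cfsg.Agent.Tits.Core
  Cfsg.Agent.Nodes.Reps Cfsg.Agent.Nodes.BNOf Cfsg.Agent.Nodes.RGDLib Cfsg.Agent.Nodes.RootsA
  Cfsg.Agent.Nodes.RGDTypeA Cfsg.Agent.KFacts.ChevTwo Cfsg.Agent.KFacts.SLRow.TypeA Cfsg.Agent.KFacts.SLRow.Def
  Cfsg.Agent.KFacts.SLRow.Psl Cfsg.Agent.OddHalf.SL.Index Cfsg.Agent.KFacts.Mult.Laced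
  Cfsg.Agent.KFacts.Mult.LacedEnd Cfsg.Agent.KFacts.MulDef Cfsg.Agent.KFacts.Mult.LacedRGD
open Cfsg.Agent.LieRecognition.BNCox (cA cA_apply)

section laced

variable {n : ℕ} {W : Type*} [Group W] (cs : CoxeterSystem (cA n) W) {A : Fin n → Fin n → ℤ}
  (h : IsCartan (cA n) A)

include cs h in
theorem bf_rtA (a b : Fin (n + 1)) {c d : Fin (n + 1)} (hcd : c ≠ d) :
    Bf A (rtA a b) (rtA c d) = (if a = c then 1 else 0) - (if a = d then 1 else 0) - (if b = c then 1 else 0) +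
      (if b = d then 1 else 0) := by
  have : Finite W := finite_W cs h
  rw [bf_eq_cpr (cs := cs) (h := h) (fun i j => (cA_ne i j).1) (fun i j => (cA_ne i j).2) _ (isRoot_rtA cs h hcd),
    Cfsg.Agent.Nodes.CommA.cpr_rtA cs h a b hcd]
  ring

theorem Q_rtA (hn : 4 ≤ n) {a b : Fin (n + 1)} (hab : a ≠ b) : Q cs h (rtA a b) := by
  intro s hs h0
  obtain ⟨c, d, hcd, rfl⟩ := exists_of_isRoot cs h hs
  rw [bf_rtA cs h a b hcd] at h0
  have h1 : a ≠ c ∧ a ≠ d ∧ b ≠ c ∧ b ≠ d := by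
    refine ⟨?_, ?_, ?_, ?_⟩ <;> (rintro rfl; split_ifs at h0 <;> simp_all)
  obtain ⟨e, he⟩ : ∃ e : Fin (n + 1), e ∉ ({a, b, c, d} : Finset (Fin (n + 1))) := by
    by_contra hcon
    push Not at hcon
    have h2 : (Finset.univ : Finset (Fin (n + 1))) ⊆ {a, b, c, d} := fun e _ => hcon e
    have h3 := Finset.card_le_card h2
    rw [Finset.card_univ, Fintype.card_fin] at h3
    have h4 : ({a, b, c, d} : Finset (Fin (n + 1))).card ≤ 4 := Finset.card_le_four
    omega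
  simp only [Finset.mem_insert, Finset.mem_singleton, not_or] at he
  obtain ⟨ha, hb, hc, hd⟩ := he
  refine ⟨rtA c e, isRoot_rtA cs h (Ne.symm hc), ?_, ?_⟩
  · rw [bf_rtA cs h c e hcd, if_pos rfl, if_neg hcd, if_neg hc, if_neg hd]; norm_num
  · rw [bf_rtA cs h c e hab, if_neg (Ne.symm h1.1), if_neg (Ne.symm h1.2.2.1), if_neg ha, if_neg hb]; norm_num

/-- **`PSL_m(q)`, `m ≥ 5`, `q` even, has no perfect double cover.** -/
theorem noDouble_PSL {m : ℕ} (hm : 5 ≤ m) {F : Type*} [Field F] [Finite F] (h2 : (2 : F) = 0) :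
    NoDouble (ProjectiveSpecialLinearGroup (Fin m) F) := by
  obtain ⟨n, rfl⟩ : ∃ n, m = n + 1 := ⟨m - 1, by omega⟩
  have : Fact (Nat.Prime 2) := ⟨Nat.prime_two⟩
  have : CharP F 2 := charP_two h2
  have two : ∀ t : F, t + t = 0 := CharTwo.add_self_eq_zero
  let cs : CoxeterSystem (cA n) (cA n).Group := (cA n).toCoxeterSystem
  have hW : Finite (cA n).Group := finite_W cs (isCartan n)
  have D := data_PSL (F := F) two cs (isCartan n)
  have h01 : (⟨0, by omega⟩ : Fin (n + 1)) ≠ ⟨1, by omega⟩ := by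
    intro e
    exact absurd (congrArg Fin.val e) (by norm_num)
  refine noDouble_of_root (rgd_psl (F := F) cs (isCartan n)) (sys (fun i j => (cA_ne i j).1) (fun i j => (cA_ne i j).2) D)
    h2 D.inj ?_ (fun i j => (cA_ne i j).1) (fun i j => (cA_ne i j).2) conn_cA (by rw [Fintype.card_fin]; omega)
    (G1_psl_eq_top _ _) (isRoot_rtA cs (isCartan n) h01) (Q_rtA cs (isCartan n) (by omega) h01)
  intro x hx g
  constructor
  · rintro ⟨k, hk, rfl⟩
    obtain ⟨t, rfl⟩ := (mem_X_iff cs (isCartan n) hx k).1 hk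
    exact ⟨t, rfl⟩
  · rintro ⟨t, rfl⟩
    exact ⟨_, (mem_X_iff cs (isCartan n) hx _).2 ⟨t, rfl⟩, rfl⟩

end laced

/-- The centre of `SL_n` over a finite field. -/
theorem card_center_SL {K : Type*} [Field K] [Fintype K] {n : ℕ} (hn : 1 ≤ n) :
    Nat.card (Subgroup.center (Matrix.SpecialLinearGroup (Fin n) K)) =
      Nat.gcd n (Fintype.card K - 1) := by
  have : Nonempty (Fin n) := ⟨⟨0, by omega⟩⟩
  rw [Nat.card_congr (Matrix.SpecialLinearGroup.center_equiv_rootsOfUnity'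
      (n := Fin n) (R := K) ⟨0, by omega⟩).toEquiv, rootsOfUnity_eq_ker,
      IsCyclic.card_powMonoidHom_ker, Nat.card_units, Nat.card_eq_fintype_card, Fintype.card_fin,
      Nat.gcd_comm]

/-- **`SL_n(q)`, `q` even, has no perfect double cover**, exceptions. -/
theorem noPCov_SL_two {n : ℕ} (hn : 2 ≤ n) {F : Type*} [Field F] [Finite F] [CharP F 2]
    (h : (4 ≤ n ∧ 2 < Nat.card F) ∨ 4 < Nat.card F ∨ (5 ≤ n ∧ Nat.card F = 2)) :
    H67.NoPCov 2 (SpecialLinearGroup (Fin n) F) := by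
  apply H67.NoPCov.of_noDouble
  obtain ⟨m, rfl⟩ : ∃ m, n = m + 1 := ⟨n - 1, by omega⟩
  rcases h with h | h | ⟨h, hF⟩
  · exact KFacts.Mult.TypeA.noDouble_SL F (Or.inl ⟨by omega, h.2⟩)
  · exact KFacts.Mult.TypeA.noDouble_SL F (Or.inr h)
  · have h2 : (2 : F) = 0 := by
      have := CharP.cast_eq_zero F 2
      simpa using this
    have h1 := noDouble_PSL h h2
    have hcen : Subgroup.center (SpecialLinearGroup (Fin (m + 1)) F) = ⊥ := by
      have : Fintype F := Fintype.ofFinite F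
      have h3 := card_center_SL (K := F) (n := m + 1) (by omega)
      rw [← Nat.card_eq_fintype_card, hF, Nat.gcd_one_right] at h3
      exact Subgroup.card_eq_one.1 h3
    refine h1.congr (MulEquiv.ofBijective (pr m F) ⟨?_, pr_surjective⟩).symm
    rw [← MonoidHom.ker_eq_bot_iff, ker_pr, hcen]

end Cfsg.Agent.H60.EvenA
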