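import Mathlib
import Cfsg.Agent.H967.CopChev
import Cfsg.Agent.H70.SzAutThm
import Cfsg.Agent.S2126
import Cfsg.Agent.H71.FldAut
import Cfsg.Agent.H716.CopRow
import Cfsg.Agent.ChevalleyStructure.TwF4.TorusFix
import Cfsg.Agent.ChevalleyStructure.TwF4.OrderCls
import Cfsg.Agent.Prune
set_option linter.all false

section
prune_inst 0x7f00000000000000000000000000000000000000000000000000000000000000000000000000000000000000000000000000000000000000000000000000000000000000000000000000000000000000003fffffffffffffffffffffffffffbeffbdffffffff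

-- part: H967/CopSz
section
set_option linter.all false
open scoped Cfsg.Agent.FastGrp

/-!
# Coprime automorphisms of `Sz(q)`, `²G₂(q)`, `²F₄(q)`
-/

set_option autoImplicit false

open scoped Pointwise

namespace Cfsg.Agent.H967.CopSz

open Cfsg.Lie Cfsg.Agent.H967.CopMat Cfsg.Agent.H967.CopRow Cfsg.Agent.H967.CopChev

/-- The row of a group all of whose automorphisms are inner times field automorphisms. -/
theorem row_of_conj_field {ι : Type*} [Fintype ι] [DecidableEq ι] {F : Type*} [Field F] {G : Subgroup (GL ι F)}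
    (hG : Stab G) [Fintype F] {p n : ℕ} [Fact p.Prime] [CharP F p] (hn : 1 ≤ n) (hF : Fintype.card F = p ^ n)
    (hOut : Nat.card (Cfsg.Out ↥G) = n)
    (h : ∀ ψ : MulAut ↥G, ∃ (g : ↥G) (σ : F ≃+* F), ψ = MulAut.conj g * fieldAut hG σ) : Row G := by
  let f : (F ≃+* F) →* Cfsg.Out ↥G := (QuotientGroup.mk' (Cfsg.Inn ↥G)).comp (fieldAut hG)
  have hs : Function.Surjective f := by
    intro x
    obtain ⟨ψ, rfl⟩ := QuotientGroup.mk'_surjective _ x
    obtain ⟨g, σ, rfl⟩ := h ψ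
    refine ⟨σ, ?_⟩
    have h1 : QuotientGroup.mk' (Cfsg.Inn ↥G) (MulAut.conj g) = 1 :=
      (QuotientGroup.eq_one_iff _).2 ⟨g, rfl⟩
    rw [map_mul, h1, one_mul]
    rfl
  have hfin : Finite (F ≃+* F) := Finite.of_injective (fun f : F ≃+* F => (f : F → F)) DFunLike.coe_injective
  have hc : Nat.card (F ≃+* F) = n := Cfsg.Agent.Lib.FieldAutCard.card_ringAut hn hF
  have hfO : Finite (Cfsg.Out ↥G) := Finite.of_surjective f hs
  have hinj : Function.Injective f := by
    have := (Nat.bijective_iff_surjective_and_card f).2 ⟨hs, by rw [hc, hOut]⟩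
    exact this.1
  obtain ⟨τ, hτ⟩ := exists_ringAut p n hF
  have hcyc : IsCyclic (F ≃+* F) := isCyclic_of_orderOf_eq_card τ (by rw [hτ, hc])
  have hsol : Group.IsSolvable (Cfsg.Out ↥G) := by
    have h1 : IsCyclic (Cfsg.Out ↥G) := isCyclic_of_surjective f hs
    exact Group.isSolvable_of_comm fun a b => mul_comm' a b
  refine Row.of_out hG ?_ hsol τ hτ ?_
  · intro σ ρ hσρ
    apply hinj
    show QuotientGroup.mk' (Cfsg.Inn ↥G) (fieldAut hG σ) = QuotientGroup.mk' (Cfsg.Inn ↥G) (fieldAut hG ρ)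
    rw [hσρ]
  · intro q _ _ k hk
    rwa [hOut] at hk

theorem two_prime : Fact (Nat.Prime 2) := ⟨Nat.prime_two⟩

theorem three_prime : Fact (Nat.Prime 3) := ⟨Nat.prime_three⟩

theorem charP_of_card {F : Type*} [Field F] [Fintype F] {p n : ℕ} (hp : p.Prime) (hF : Fintype.card F = p ^ n) :
    CharP F p := by
  obtain ⟨q, hq⟩ := CharP.exists F
  obtain ⟨k, hqp, hk⟩ := FiniteField.card F q
  have h1 : q ∣ p ^ n := by rw [← hF, hk]; exact dvd_pow_self q k.pos.ne'
  rwa [← (Nat.prime_dvd_prime_iff_eq hqp hp).1 (hqp.dvd_of_dvd_pow h1)]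

/-! ### Suzuki groups -/

section Sz

open Cfsg.Agent.LieRecognition.SzMatrix Cfsg.Agent.H70.SzOut

variable {F : Type*} [Field F] [Fintype F] {m : ℕ}

theorem stab_sz (hF : Fintype.card F = 2 ^ (2 * m + 1)) : Stab (Cfsg.Lie.Sz F (2 ^ (m + 1))) := fun σ _ hg =>
  map_mem_Sz (good hF) (σ : F →+* F) hg

theorem row_sz (hm : 1 ≤ m) (hF : Fintype.card F = 2 ^ (2 * m + 1)) : Row (Cfsg.Lie.Sz F (2 ^ (m + 1))) := by
  have := two_prime
  have hc : CharP F 2 := charP_of_card Nat.prime_two hF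
  refine row_of_conj_field (stab_sz hF) (p := 2) (by omega) hF (S2126.result hm hF) ?_
  intro ψ
  obtain ⟨g, σ, h⟩ := Cfsg.Agent.H70.SzAutThm.exists_conj_field hm hF ψ
  exact ⟨g, σ, h⟩

end Sz

/-! ### Ree groups -/

section Ree

variable {K : Type*} [Field K]

theorem stab_g2 (e : ℕ) : Stab (twistedG2 K e) := by
  refine stab_genSubgroup chevG2 ?_
  rintro σ w ⟨t, u, v, h⟩
  refine ⟨σ t, σ u, σ v, ?_⟩
  rcases h with rfl | rfl
  · left; simp [reeWordU]
  · right; simp [reeWordV, reeWordU, ChevalleyDatum.negWord]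

theorem stab_f4 (e : ℕ) : Stab (twistedF4 K e) := by
  refine stab_genSubgroup chevF4 ?_
  rintro σ w (⟨t, h⟩ | ⟨t, u, h⟩)
  · left
    refine ⟨σ t, ?_⟩
    rcases h with rfl | rfl
    · left; simp [f4PairWord]
    · right; simp [f4PairWord]
  · right
    refine ⟨σ t, σ u, ?_⟩
    rcases h with rfl | rfl
    · left; simp [b2ClassWord]
    · right; simp [b2ClassWord]

variable [Fintype K] {m : ℕ}

theorem row_ree (hm : 1 ≤ m) (hK : Fintype.card K = 3 ^ (2 * m + 1)) : Row (twistedG2 K (3 ^ m)) := by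
  have := three_prime
  have hc : CharP K 3 := charP_of_card Nat.prime_three hK
  refine row_of_conj_field (stab_g2 _) (p := 3) (by omega) hK (S2127.result hm hK) ?_
  intro ψ
  obtain ⟨g, σ, h⟩ := Cfsg.Agent.H71.FldAut.ree_aut hm hK ψ
  exact ⟨g, σ, h⟩

theorem row_tf4 (hm : 1 ≤ m) (hK : Fintype.card K = 2 ^ (2 * m + 1)) : Row (twistedF4 K (2 ^ m)) := by
  have := two_prime
  have hc : CharP K 2 := charP_of_card Nat.prime_two hK
  refine row_of_conj_field (stab_f4 _) (p := 2) (by omega) hK (S2128.result hm hK) ?_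
  intro ψ
  obtain ⟨g, σ, h⟩ := Cfsg.Agent.H71.FldAut.twF4_aut hm hK ψ
  exact ⟨g, σ, h⟩

end Ree

end Cfsg.Agent.H967.CopSz
end

-- part: H60/TRowTwF4
section
set_option linter.all false
open scoped Cfsg.Agent.FastGrp

/-!
# `TRow 2` for the groups `²F₄(q)`

A coprime automorphism is a field automorphism `σ` up to an isomorphism; `e = T (t^(2e), t^(2e), t^2, t)`-type torus
element which centralises the involution `x_{p₁}(1) x_{p₄}(1)`, `t` a generator of the multiplicative group.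
-/

set_option autoImplicit false

namespace Cfsg.Agent.H60.TRowTwF4

open Cfsg Cfsg.Lie Cfsg.Agent.H716.CopRow Cfsg.Agent.H967.CopMat Cfsg.Agent.H967.CopRow Cfsg.Agent.H967.CopSz
open Cfsg.Agent.ChevalleyStructure Cfsg.Agent.ChevalleyStructure.TwF4.Torus
  Cfsg.Agent.ChevalleyStructure.TwF4.TwGen Cfsg.Agent.ChevalleyStructure.TwF4.TorusFix
  Cfsg.Agent.ChevalleyStructure.TwF4.Tables
open Cfsg.Agent.ChevalleyStructure.TwF4.Rel hiding cm

variable {K : Type*} [Field K]

/-- check: the two root elements commute and are involutions -/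
theorem chk_sq : chkWord [(33, 0, 0), (24, 0, 0), (33, 0, 0), (24, 0, 0)] [] = true := by decide +kernel

theorem u_sq [CharP K 2] : (X 33 1 * X 24 1 : GL chevF4.Idx K) * (X 33 1 * X 24 1) = 1 := by
  have h := W_eq_of_chkWord _ _ chk_sq (1 : K) 1
  have e1 : W (wordK (1 : K) 1 [(33, 0, 0), (24, 0, 0), (33, 0, 0), (24, 0, 0)]) =
      (X 33 1 * X 24 1) * (X 33 1 * X 24 1) := by
    simp [wordK, W_cons, mul_assoc]
  rw [e1] at h
  rw [h]
  simp [wordK]

theorem u_ne [CharP K 2] (a : Kˣ) (ha : a ≠ 1) : (X 33 1 * X 24 1 : GL chevF4.Idx K) ≠ 1 := by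
  intro h
  have h1 : (X 33 1 : GL chevF4.Idx K) = X 24 1 := by
    rw [mul_eq_one_iff_eq_inv, X_inv] at h
    exact h
  have h2 := T_conj_X (![1, 1, a⁻¹, 1] : Fin 4 → Kˣ) (r := 33) (by norm_num) (1 : K)
  have h3 := T_conj_X (![1, 1, a⁻¹, 1] : Fin 4 → Kˣ) (r := 24) (by norm_num) (1 : K)
  rw [h1, h3, chi33, chi24] at h2
  simp only [mul_one] at h2
  have h4 : (X 24 (a : K) : GL chevF4.Idx K) = X 24 1 := by
    rw [← h1]
    simpa using h2
  have h5 := TwF4.OrderCls.X_inj ⟨le_rfl, by norm_num⟩ h4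
  exact ha (Units.ext h5)

/-- the action of an automorphism of the field on a torus element -/
theorem map_T (σ : K ≃+* K) (c : Fin 4 → Kˣ) :
    Matrix.GeneralLinearGroup.map (σ : K →+* K) (T c) = T (fun i => Units.map (σ : K →* K) (c i)) := by
  apply Units.ext
  ext i j
  rw [map_apply, coe_T, coe_T]
  by_cases hij : i = j
  · subst hij
    rw [Matrix.diagonal_apply_eq, Matrix.diagonal_apply_eq]
    rcases i with i | s
    · rw [chiIdx_inl, chiIdx_inl]; simp
    · rw [chiIdx_inr, chiIdx_inr, chi_def, chi_def]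
      simp
  · rw [Matrix.diagonal_apply_ne _ hij, Matrix.diagonal_apply_ne _ hij, map_zero]

/-- the elements `e` and `u` -/
theorem exists_eu [Fintype K] {m : ℕ} (hm : 1 ≤ m) (hK : Fintype.card K = 2 ^ (2 * m + 1)) (σ : K ≃+* K)
    (hσ : σ ≠ 1) : ∃ e u : ↥(twistedF4 K (2 ^ m)), Commute e u ∧ 2 ∣ orderOf u ∧
      (orderOf e).Coprime (orderOf u) ∧ fieldAut (stab_f4 (K := K) (2 ^ m)) σ e ∈ Subgroup.zpowers e ∧
      fieldAut (stab_f4 (K := K) (2 ^ m)) σ e ≠ e := by
  classical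
  have : CharP K 2 := F4Fixed.charP_two hK
  obtain ⟨g, hg⟩ := IsCyclic.exists_generator (α := Kˣ)
  have hg1 : g ≠ 1 := by
    rintro rfl
    apply hσ
    ext x
    by_cases hx : x = 0
    · rw [hx, map_zero]; rfl
    · obtain ⟨k, hk⟩ := hg (Units.mk0 x hx)
      have : x = 1 := by
        have := congrArg Units.val hk
        simpa using this.symm
      rw [this, map_one]; rfl
  -- the torus element
  have hemem : T (tc (2 ^ m) (g ^ 2) g) ∈ twistedF4 K (2 ^ m) := (T_mem_iff hK _).2 ⟨_, _, rfl⟩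
  have humem : (X 33 1 * X 24 1 : GL chevF4.Idx K) ∈ twistedF4 K (2 ^ m) := by
    have := pair_mem (K := K) (2 ^ m) 1
    rwa [one_pow] at this
  have hpow : ∀ k : ℤ, T (tc (2 ^ m) (g ^ 2) g) ^ k = T (tc (2 ^ m) ((g ^ k) ^ 2) (g ^ k)) := by
    intro k
    rw [← map_zpow]
    congr 1
    funext i
    fin_cases i
    · show (g ^ 2 ^ m) ^ k = (g ^ k) ^ 2 ^ m
      rw [← zpow_natCast, ← zpow_natCast, ← zpow_mul, ← zpow_mul, mul_comm]
    · show ((g ^ 2) ^ 2 ^ m) ^ k = ((g ^ k) ^ 2) ^ 2 ^ m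
      rw [← pow_mul, ← pow_mul, ← zpow_natCast, ← zpow_natCast, ← zpow_mul, ← zpow_mul, mul_comm]
    · show (g ^ 2) ^ k = (g ^ k) ^ 2
      rw [← zpow_natCast, ← zpow_natCast, ← zpow_mul, ← zpow_mul, mul_comm]
    · rfl
  have hsig : Matrix.GeneralLinearGroup.map (σ : K →+* K) (T (tc (2 ^ m) (g ^ 2) g)) =
      T (tc (2 ^ m) ((Units.map (σ : K →* K) g) ^ 2) (Units.map (σ : K →* K) g)) := by
    rw [map_T]
    congr 1
    funext i
    fin_cases i
    · show Units.map (σ : K →* K) (g ^ 2 ^ m) = _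
      rw [map_pow]; rfl
    · show Units.map (σ : K →* K) ((g ^ 2) ^ 2 ^ m) = _
      rw [map_pow, map_pow]; rfl
    · show Units.map (σ : K →* K) (g ^ 2) = _
      rw [map_pow]; rfl
    · rfl
  have h24 : chi (tc (2 ^ m) (g ^ 2) g) 24 = 1 := by rw [chi_tc_24, inv_mul_cancel]
  have h33 : chi (tc (2 ^ m) (g ^ 2) g) 33 = 1 := by rw [chi_tc_33, h24, one_pow]
  have hu2 : orderOf (⟨_, humem⟩ : ↥(twistedF4 K (2 ^ m))) = 2 := by
    have : Fact (Nat.Prime 2) := ⟨Nat.prime_two⟩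
    refine orderOf_eq_prime ?_ ?_
    · rw [pow_two]
      exact Subtype.ext u_sq
    · intro h
      exact u_ne g hg1 (congrArg Subtype.val h)
  refine ⟨⟨_, hemem⟩, ⟨_, humem⟩, ?_, ?_, ?_, ?_, ?_⟩
  · apply Subtype.ext
    show T (tc (2 ^ m) (g ^ 2) g) * (X 33 1 * X 24 1) = (X 33 1 * X 24 1) * T (tc (2 ^ m) (g ^ 2) g)
    have h1 := T_conj_X (tc (2 ^ m) (g ^ 2) g) (r := 33) (by norm_num) (1 : K)
    have h2 := T_conj_X (tc (2 ^ m) (g ^ 2) g) (r := 24) (by norm_num) (1 : K)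
    rw [h33] at h1
    rw [h24] at h2
    simp only [Units.val_one, mul_one] at h1 h2
    rw [mul_inv_eq_iff_eq_mul] at h1 h2
    rw [← mul_assoc, h1, mul_assoc, h2, mul_assoc]
  · rw [hu2]
  · rw [hu2]
    have h1 : (⟨_, hemem⟩ : ↥(twistedF4 K (2 ^ m))) ^ (Fintype.card K - 1) = 1 := by
      apply Subtype.ext
      show T (tc (2 ^ m) (g ^ 2) g) ^ (Fintype.card K - 1) = 1
      have h2 := hpow ((Fintype.card K - 1 : ℕ) : ℤ)
      have h3 : g ^ (Fintype.card K - 1) = 1 := by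
        rw [← Fintype.card_units]
        exact pow_card_eq_one
      rw [zpow_natCast, zpow_natCast, h3] at h2
      rw [h2]
      have h4 : tc (2 ^ m) ((1 : Kˣ) ^ 2) 1 = 1 := by
        funext i
        fin_cases i <;> simp [tc]
      rw [h4, map_one]
    have h2 : (orderOf (⟨_, hemem⟩ : ↥(twistedF4 K (2 ^ m)))) ∣ Fintype.card K - 1 :=
      orderOf_dvd_of_pow_eq_one h1
    refine Nat.Coprime.coprime_dvd_left h2 ?_
    rw [hK, Nat.coprime_comm, Nat.prime_two.coprime_iff_not_dvd]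
    have h3 : 2 ∣ 2 ^ (2 * m + 1) := dvd_pow_self 2 (by omega)
    have h4 : 0 < 2 ^ (2 * m + 1) := by positivity
    omega
  · obtain ⟨k, hk⟩ := hg (Units.map (σ : K →* K) g)
    refine ⟨k, Subtype.ext ?_⟩
    show T (tc (2 ^ m) (g ^ 2) g) ^ k = _
    rw [coe_fieldAut, hsig, hpow]
    have hk' : g ^ k = Units.map (σ : K →* K) g := hk
    rw [hk']
  · intro h
    apply hσ
    have h1 := congrArg Subtype.val h
    rw [coe_fieldAut] at h1
    have h2 : T (tc (2 ^ m) ((Units.map (σ : K →* K) g) ^ 2) (Units.map (σ : K →* K) g)) =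
        T (tc (2 ^ m) (g ^ 2) g) := hsig.symm.trans h1
    have h3 := congrFun (T_injective h2) 3
    have h4 : σ (g : K) = g := congrArg Units.val h3
    ext x
    by_cases hx : x = 0
    · rw [hx, map_zero]; rfl
    · obtain ⟨k, hk⟩ := hg (Units.mk0 x hx)
      have h5 : x = (g : K) ^ k := by
        have := congrArg Units.val hk
        simpa using this.symm
      rw [h5, map_zpow₀, h4]; rfl

/-- **The row of `²F₄(q)`.** -/
theorem tRow_tf4 {K : Type*} [Group K] [Finite K] [IsSimpleGroup K] (h : Cfsg.Lie.Iso2F4 K) :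
    Cfsg.Agent.H716.CopRow.TRow 2 K := by
  obtain ⟨F, _, _, m, hm, hF, ⟨e⟩⟩ := h
  intro p hp hpK α hα
  obtain ⟨e', σ, h1, h2⟩ := (row_tf4 hm hF).exists_equiv_one e α
    (by rw [hα]; exact (hp.coprime_iff_not_dvd).2 hpK)
  have hσ : σ ≠ 1 := by
    rintro rfl
    rw [orderOf_one, hα] at h2
    exact hp.one_lt.ne h2
  obtain ⟨x, u, hc, hu, hcop, hz, hne⟩ := exists_eu hm hF σ hσ
  have key : ∀ y, α (e'.symm y) = e'.symm (fieldAut (row_tf4 hm hF).stab σ y) := by
    intro y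
    apply e'.injective
    rw [h1, e'.apply_symm_apply, e'.apply_symm_apply]
  refine ⟨e'.symm x, e'.symm u, hc.map e'.symm, by rwa [MulEquiv.orderOf_eq],
    by rwa [MulEquiv.orderOf_eq, MulEquiv.orderOf_eq], ?_, ?_⟩
  · rw [key]
    obtain ⟨k, hk⟩ := hz
    refine ⟨k, ?_⟩
    show e'.symm x ^ k = _
    rw [← map_zpow]
    exact congrArg e'.symm hk
  · rw [key]
    exact fun h => hne (e'.symm.injective h)

end Cfsg.Agent.H60.TRowTwF4
end
end
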