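import Cfsg.Agent.H659.HerAlt
import Cfsg.Agent.H50.HerDefs
import Cfsg.Agent.H603.SporElim
import Cfsg.Agent.H489.OutSpor
import Cfsg.Agent.H481.TBound
import Cfsg.Agent.H379.J2Spec
import Cfsg.Agent.H389.JFacts
import Cfsg.Agent.H50.HerConj_m3
import Cfsg.Agent.OrdDiv.Table
import Cfsg.Agent.S0255
import Cfsg.Agent.S0256
import Cfsg.Agent.S2148
import Cfsg.Agent.FastGrp
import Cfsg.Agent.Prune
set_option linter.all false

section
prune_inst 0x7fbeeefbeff829dfffff7e7fa6fccffdfdfcbffff6dff9cbffe063ffabdf6b02cbe5fb8f0fe858fe1ed6e03c10f87b43ffffeeffe36fdc7ffffd5ff45ffbff9fffffbd0d71f6bc3e0fbc6ffff3f0778e7f3fffffffffffffffffffffffffffbeffbfffffffff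

-- part: H60/HerSpor
section
prune_inst 0x4101001000d2200000000058001002020240000000000000000000100080080000002000000000000008000800000000001000000020000000a000000000400000001000010100c00300000000000000000000000000000000000000000000000000000000
set_option linter.all false
open scoped Cfsg.Agent.FastGrp

-- part: H50/HerSporNum
section
/-!
# Hering's theorem: the numerical elimination of the sporadic groups and the Tits group (helper50)
-/

set_option autoImplicit false
set_option maxRecDepth 100000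

namespace Cfsg.Agent.H50.Her

private theorem cop {p : ℕ} (h : maybePrime p = true) (h43 : 43 < p) : Nat.gcd p 13082761331670030 = 1 := by
  rw [maybePrime, Bool.and_eq_true, List.all_eq_true] at h
  have h0 : ∀ t ∈ [2, 3, 5, 7, 11, 13, 17, 19, 23, 29, 31, 37, 41, 43], t.Prime ∧ t ≤ 43 := by decide +kernel
  have h1 : ∀ t ∈ [2, 3, 5, 7, 11, 13, 17, 19, 23, 29, 31, 37, 41, 43], Nat.Coprime p t := fun t ht => by
    rcases Bool.or_eq_true_iff.1 (h.2 t ht) with h2 | h2
    · exact absurd ((Nat.le_of_ble_eq_true h2).trans (h0 t ht).2) h43.not_ge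
    · refine ((Nat.Prime.coprime_iff_not_dvd (h0 t ht).1).2 fun hd => ?_).symm
      rw [Nat.mod_eq_zero_of_dvd hd] at h2
      exact Bool.noConfusion h2
  exact (by decide +kernel : [2, 3, 5, 7, 11, 13, 17, 19, 23, 29, 31, 37, 41, 43].prod = 13082761331670030) ▸
    Nat.coprime_list_prod_right_iff.2 h1

private noncomputable def aN (f : ℕ → Bool) (n : ℕ) : Bool := Nat.rec true (fun k ih => Bool.rec false ih (f k)) n

private theorem aN_eq : allBelow = aN := by
  funext f n
  induction n with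
  | zero => rfl
  | succ n ih => rw [allBelow, ih]; change _ = (Bool.rec false (aN f n) (f n) : Bool); cases f n <;> rfl

private noncomputable def tF (m n d p : ℕ) : Bool :=
  Nat.rec (testP m n d 0) (fun p _ => Bool.rec (Bool.rec (testP m n d (Nat.succ p)) true (aN (fun b => Bool.rec (Bool.rec true
    (Bool.rec true false (Nat.beq (Nat.mod (Nat.mul (Nat.sub (Nat.pow (Nat.succ p) b) 1) m) (Nat.sub (Nat.pow (Nat.succ p) d) 1)) 0))
    (Nat.beq (Nat.mod d b) 0)) true (Nat.beq b 0)) d)) true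
    (Bool.rec (Nat.ble 43 p) false (Nat.beq (Nat.gcd (Nat.succ p) 13082761331670030) 1))) p

private theorem tF_eq : testP = tF := by
  funext m n d p
  cases p with
  | zero => rfl
  | succ p =>
    change _ = (Bool.rec (Bool.rec (testP m n d (p + 1)) true (aN (fun b => Bool.rec (Bool.rec true
      (Bool.rec true false (Nat.beq (((p + 1) ^ b - 1) * m % ((p + 1) ^ d - 1)) 0)) (Nat.beq (d % b) 0)) true (Nat.beq b 0)) d)) true
      (Bool.rec (Nat.ble 43 p) false (Nat.beq (Nat.gcd (p + 1) 13082761331670030) 1)) : Bool)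
    cases h1 : (Bool.rec (Nat.ble 43 p) false (Nat.beq (Nat.gcd (p + 1) 13082761331670030) 1) : Bool)
    · cases h2 : aN _ d
      · rfl
      · rw [← aN_eq] at h2
        delta testP
        rw [List.all_eq_true.2 fun b hb => ?_, Bool.or_true, Bool.true_or]
        have h3 := allBelow_spec h2 (List.mem_range.1 hb)
        revert h3
        cases Nat.beq b 0 <;> cases Nat.beq (d % b) 0 <;> cases Nat.beq (((p + 1) ^ b - 1) * m % ((p + 1) ^ d - 1)) 0 <;> exact id
    · cases h2 : maybePrime (p + 1)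
      · delta testP; rw [h2]; rfl
      · cases h3 : Nat.beq (Nat.gcd (p + 1) 13082761331670030) 1
        · rw [h3] at h1
          rw [cop h2 (Nat.lt_succ_of_le (Nat.le_of_ble_eq_true h1))] at h3
          exact Bool.noConfusion h3
        · rw [h3] at h1
          exact Bool.noConfusion h1

/-- `M11` -/
theorem num_m11 {p d b r R m' : ℕ} (hp : p.Prime) (hd : 3 ≤ d) (hL : Large p d r R) (hr : r ∣ 7920)
    (hm' : m' ∣ 15840) (hb : 0 < b) (hbd : b ∣ d) (hlt : b < d)
    (h3 : p ^ d - 1 ∣ (p ^ b - 1) * m') (h4 : 7920 ∣ glCard p d) : (p, d) ∈ ([] : List (ℕ × ℕ)) :=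
  no_of_check (fs := [(2, 5), (3, 2), (5, 1), (11, 1)])
    (xs := [(5, 3)]) (ex := [])
    (by decide +kernel) (by decide +kernel) (by decide +kernel) (by decide +kernel) (by delta testD; rewrite [tF_eq, aN_eq]; decide +kernel)
    hp hd hL hr (by norm_num) hm' hb hbd hlt h3 h4

/-- `M12` -/
theorem num_m12 {p d b r R m' : ℕ} (hp : p.Prime) (hd : 3 ≤ d) (hL : Large p d r R) (hr : r ∣ 95040)
    (hm' : m' ∣ 190080) (hb : 0 < b) (hbd : b ∣ d) (hlt : b < d)
    (h3 : p ^ d - 1 ∣ (p ^ b - 1) * m') (h4 : 95040 ∣ glCard p d) : (p, d) ∈ ([] : List (ℕ × ℕ)) :=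
  no_of_check (fs := [(2, 7), (3, 3), (5, 1), (11, 1)])
    (xs := [(5, 3)]) (ex := [])
    (by decide +kernel) (by decide +kernel) (by decide +kernel) (by decide +kernel) (by delta testD; rewrite [tF_eq, aN_eq]; decide +kernel)
    hp hd hL hr (by norm_num) hm' hb hbd hlt h3 h4

/-- `M22` -/
theorem num_m22 {p d b r R m' : ℕ} (hp : p.Prime) (hd : 3 ≤ d) (hL : Large p d r R) (hr : r ∣ 443520)
    (hm' : m' ∣ 887040) (hb : 0 < b) (hbd : b ∣ d) (hlt : b < d)
    (h3 : p ^ d - 1 ∣ (p ^ b - 1) * m') (h4 : 443520 ∣ glCard p d) : (p, d) ∈ ([] : List (ℕ × ℕ)) :=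
  no_of_check (fs := [(2, 8), (3, 2), (5, 1), (7, 1), (11, 1)])
    (xs := [(3, 5), (5, 3)]) (ex := [])
    (by decide +kernel) (by decide +kernel) (by decide +kernel) (by decide +kernel) (by delta testD; rewrite [tF_eq, aN_eq]; decide +kernel)
    hp hd hL hr (by norm_num) hm' hb hbd hlt h3 h4

/-- `M23` -/
theorem num_m23 {p d b r R m' : ℕ} (hp : p.Prime) (hd : 3 ≤ d) (hL : Large p d r R) (hr : r ∣ 10200960)
    (hm' : m' ∣ 20401920) (hb : 0 < b) (hbd : b ∣ d) (hlt : b < d)
    (h3 : p ^ d - 1 ∣ (p ^ b - 1) * m') (h4 : 10200960 ∣ glCard p d) : (p, d) ∈ ([] : List (ℕ × ℕ)) :=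
  no_of_check (fs := [(2, 8), (3, 2), (5, 1), (7, 1), (11, 1), (23, 1)])
    (xs := [(3, 5), (5, 3), (11, 2)]) (ex := [])
    (by decide +kernel) (by decide +kernel) (by decide +kernel) (by decide +kernel) (by delta testD; rewrite [tF_eq, aN_eq]; decide +kernel)
    hp hd hL hr (by norm_num) hm' hb hbd hlt h3 h4

/-- `M24` -/
theorem num_m24 {p d b r R m' : ℕ} (hp : p.Prime) (hd : 3 ≤ d) (hL : Large p d r R) (hr : r ∣ 244823040)
    (hm' : m' ∣ 489646080) (hb : 0 < b) (hbd : b ∣ d) (hlt : b < d)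
    (h3 : p ^ d - 1 ∣ (p ^ b - 1) * m') (h4 : 244823040 ∣ glCard p d) : (p, d) ∈ ([] : List (ℕ × ℕ)) :=
  no_of_check (fs := [(2, 11), (3, 3), (5, 1), (7, 1), (11, 1), (23, 1)])
    (xs := [(3, 5), (5, 3), (11, 2)]) (ex := [])
    (by decide +kernel) (by decide +kernel) (by decide +kernel) (by decide +kernel) (by delta testD; rewrite [tF_eq, aN_eq]; decide +kernel)
    hp hd hL hr (by norm_num) hm' hb hbd hlt h3 h4

/-- `J1` -/
theorem num_j1 {p d b r R m' : ℕ} (hp : p.Prime) (hd : 3 ≤ d) (hL : Large p d r R) (hr : r ∣ 175560)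
    (hm' : m' ∣ 351120) (hb : 0 < b) (hbd : b ∣ d) (hlt : b < d)
    (h3 : p ^ d - 1 ∣ (p ^ b - 1) * m') (h4 : 175560 ∣ glCard p d) : (p, d) ∈ ([(11, 3)] : List (ℕ × ℕ)) :=
  no_of_check (fs := [(2, 4), (3, 1), (5, 1), (7, 1), (11, 1), (19, 1)])
    (xs := [(3, 20), (5, 3), (6, 29), (9, 3)]) (ex := [(11, 3)])
    (by decide +kernel) (by decide +kernel) (by decide +kernel) (by decide +kernel) (by delta testD; rewrite [tF_eq, aN_eq]; decide +kernel)
    hp hd hL hr (by norm_num) hm' hb hbd hlt h3 h4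

/-- `J2` -/
theorem num_j2 {p d b r R m' : ℕ} (hp : p.Prime) (hd : 3 ≤ d) (hL : Large p d r R) (hr : r ∣ 604800)
    (hm' : m' ∣ 1209600) (hb : 0 < b) (hbd : b ∣ d) (hlt : b < d)
    (h3 : p ^ d - 1 ∣ (p ^ b - 1) * m') (h4 : 604800 ∣ glCard p d) : (p, d) ∈ ([(7, 4)] : List (ℕ × ℕ)) :=
  no_of_check (fs := [(2, 8), (3, 3), (5, 2), (7, 1)])
    (xs := [(3, 5), (4, 11)]) (ex := [(7, 4)])
    (by decide +kernel) (by decide +kernel) (by decide +kernel) (by decide +kernel) (by delta testD; rewrite [tF_eq, aN_eq]; decide +kernel)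
    hp hd hL hr (by norm_num) hm' hb hbd hlt h3 h4

/-- `J3` -/
theorem num_j3 {p d b r R m' : ℕ} (hp : p.Prime) (hd : 3 ≤ d) (hL : Large p d r R) (hr : r ∣ 50232960)
    (hm' : m' ∣ 100465920) (hb : 0 < b) (hbd : b ∣ d) (hlt : b < d)
    (h3 : p ^ d - 1 ∣ (p ^ b - 1) * m') (h4 : 50232960 ∣ glCard p d) : (p, d) ∈ ([] : List (ℕ × ℕ)) :=
  no_of_check (fs := [(2, 8), (3, 5), (5, 1), (17, 1), (19, 1)])
    (xs := [(3, 8), (4, 19), (6, 11), (8, 4), (9, 3)]) (ex := [])
    (by decide +kernel) (by decide +kernel) (by decide +kernel) (by decide +kernel) (by delta testD; rewrite [tF_eq, aN_eq]; decide +kernel)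
    hp hd hL hr (by norm_num) hm' hb hbd hlt h3 h4

/-- `HS` -/
theorem num_hs {p d b r R m' : ℕ} (hp : p.Prime) (hd : 3 ≤ d) (hL : Large p d r R) (hr : r ∣ 44352000)
    (hm' : m' ∣ 88704000) (hb : 0 < b) (hbd : b ∣ d) (hlt : b < d)
    (h3 : p ^ d - 1 ∣ (p ^ b - 1) * m') (h4 : 44352000 ∣ glCard p d) : (p, d) ∈ ([] : List (ℕ × ℕ)) :=
  no_of_check (fs := [(2, 10), (3, 2), (5, 3), (7, 1), (11, 1)])
    (xs := [(3, 5), (4, 23), (5, 3)]) (ex := [])
    (by decide +kernel) (by decide +kernel) (by decide +kernel) (by decide +kernel) (by delta testD; rewrite [tF_eq, aN_eq]; decide +kernel)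
    hp hd hL hr (by norm_num) hm' hb hbd hlt h3 h4

/-- `McL` -/
theorem num_mcl {p d b r R m' : ℕ} (hp : p.Prime) (hd : 3 ≤ d) (hL : Large p d r R) (hr : r ∣ 898128000)
    (hm' : m' ∣ 1796256000) (hb : 0 < b) (hbd : b ∣ d) (hlt : b < d)
    (h3 : p ^ d - 1 ∣ (p ^ b - 1) * m') (h4 : 898128000 ∣ glCard p d) : (p, d) ∈ ([] : List (ℕ × ℕ)) :=
  no_of_check (fs := [(2, 8), (3, 6), (5, 3), (7, 1), (11, 1)])
    (xs := [(3, 5), (4, 23), (5, 3)]) (ex := [])
    (by decide +kernel) (by decide +kernel) (by decide +kernel) (by decide +kernel) (by delta testD; rewrite [tF_eq, aN_eq]; decide +kernel)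
    hp hd hL hr (by norm_num) hm' hb hbd hlt h3 h4

/-- `He` -/
theorem num_he {p d b r R m' : ℕ} (hp : p.Prime) (hd : 3 ≤ d) (hL : Large p d r R) (hr : r ∣ 4030387200)
    (hm' : m' ∣ 8060774400) (hb : 0 < b) (hbd : b ∣ d) (hlt : b < d)
    (h3 : p ^ d - 1 ∣ (p ^ b - 1) * m') (h4 : 4030387200 ∣ glCard p d) : (p, d) ∈ ([] : List (ℕ × ℕ)) :=
  no_of_check (fs := [(2, 11), (3, 3), (5, 2), (7, 3), (17, 1)])
    (xs := [(3, 33), (4, 42), (6, 46), (8, 4)]) (ex := [])
    (by decide +kernel) (by decide +kernel) (by decide +kernel) (by decide +kernel) (by delta testD; rewrite [tF_eq, aN_eq]; decide +kernel)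
    hp hd hL hr (by norm_num) hm' hb hbd hlt h3 h4

/-- `Ru` -/
theorem num_ru {p d b r R m' : ℕ} (hp : p.Prime) (hd : 3 ≤ d) (hL : Large p d r R) (hr : r ∣ 145926144000)
    (hm' : m' ∣ 291852288000) (hb : 0 < b) (hbd : b ∣ d) (hlt : b < d)
    (h3 : p ^ d - 1 ∣ (p ^ b - 1) * m') (h4 : 145926144000 ∣ glCard p d) : (p, d) ∈ ([] : List (ℕ × ℕ)) :=
  no_of_check (fs := [(2, 15), (3, 3), (5, 3), (7, 1), (13, 1), (29, 1)])
    (xs := [(3, 17), (4, 435), (6, 24), (7, 3), (14, 3)]) (ex := [])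
    (by decide +kernel) (by decide +kernel) (by decide +kernel) (by decide +kernel) (by delta testD; rewrite [tF_eq, aN_eq]; decide +kernel)
    hp hd hL hr (by norm_num) hm' hb hbd hlt h3 h4

/-- `Suz` -/
theorem num_suz {p d b r R m' : ℕ} (hp : p.Prime) (hd : 3 ≤ d) (hL : Large p d r R) (hr : r ∣ 448345497600)
    (hm' : m' ∣ 896690995200) (hb : 0 < b) (hbd : b ∣ d) (hlt : b < d)
    (h3 : p ^ d - 1 ∣ (p ^ b - 1) * m') (h4 : 448345497600 ∣ glCard p d) : (p, d) ∈ ([] : List (ℕ × ℕ)) :=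
  no_of_check (fs := [(2, 14), (3, 7), (5, 2), (7, 1), (11, 1), (13, 1)])
    (xs := [(3, 17), (4, 37), (5, 3), (6, 24)]) (ex := [])
    (by decide +kernel) (by decide +kernel) (by decide +kernel) (by decide +kernel) (by delta testD; rewrite [tF_eq, aN_eq]; decide +kernel)
    hp hd hL hr (by norm_num) hm' hb hbd hlt h3 h4

/-- `ON` -/
theorem num_on {p d b r R m' : ℕ} (hp : p.Prime) (hd : 3 ≤ d) (hL : Large p d r R) (hr : r ∣ 460815505920)
    (hm' : m' ∣ 921631011840) (hb : 0 < b) (hbd : b ∣ d) (hlt : b < d)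
    (h3 : p ^ d - 1 ∣ (p ^ b - 1) * m') (h4 : 460815505920 ∣ glCard p d) : (p, d) ∈ ([] : List (ℕ × ℕ)) :=
  no_of_check (fs := [(2, 10), (3, 4), (5, 1), (7, 3), (11, 1), (19, 1), (31, 1)])
    (xs := [(3, 779), (5, 7), (6, 1101), (9, 3), (10, 8), (15, 3)]) (ex := [])
    (by decide +kernel) (by decide +kernel) (by decide +kernel) (by decide +kernel) (by delta testD; rewrite [tF_eq, aN_eq]; decide +kernel)
    hp hd hL hr (by norm_num) hm' hb hbd hlt h3 h4

/-- `Co3` -/
theorem num_co3 {p d b r R m' : ℕ} (hp : p.Prime) (hd : 3 ≤ d) (hL : Large p d r R) (hr : r ∣ 495766656000)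
    (hm' : m' ∣ 991533312000) (hb : 0 < b) (hbd : b ∣ d) (hlt : b < d)
    (h3 : p ^ d - 1 ∣ (p ^ b - 1) * m') (h4 : 495766656000 ∣ glCard p d) : (p, d) ∈ ([] : List (ℕ × ℕ)) :=
  no_of_check (fs := [(2, 11), (3, 7), (5, 3), (7, 1), (11, 1), (23, 1)])
    (xs := [(3, 5), (4, 23), (5, 3), (11, 2)]) (ex := [])
    (by decide +kernel) (by decide +kernel) (by decide +kernel) (by decide +kernel) (by delta testD; rewrite [tF_eq, aN_eq]; decide +kernel)
    hp hd hL hr (by norm_num) hm' hb hbd hlt h3 h4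

/-- `Co2` -/
theorem num_co2 {p d b r R m' : ℕ} (hp : p.Prime) (hd : 3 ≤ d) (hL : Large p d r R) (hr : r ∣ 42305421312000)
    (hm' : m' ∣ 84610842624000) (hb : 0 < b) (hbd : b ∣ d) (hlt : b < d)
    (h3 : p ^ d - 1 ∣ (p ^ b - 1) * m') (h4 : 42305421312000 ∣ glCard p d) : (p, d) ∈ ([] : List (ℕ × ℕ)) :=
  no_of_check (fs := [(2, 19), (3, 6), (5, 3), (7, 1), (11, 1), (23, 1)])
    (xs := [(3, 5), (4, 23), (5, 3), (11, 2)]) (ex := [])
    (by decide +kernel) (by decide +kernel) (by decide +kernel) (by decide +kernel) (by delta testD; rewrite [tF_eq, aN_eq]; decide +kernel)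
    hp hd hL hr (by norm_num) hm' hb hbd hlt h3 h4

/-- `Fi22` -/
theorem num_fi22 {p d b r R m' : ℕ} (hp : p.Prime) (hd : 3 ≤ d) (hL : Large p d r R) (hr : r ∣ 64561751654400)
    (hm' : m' ∣ 129123503308800) (hb : 0 < b) (hbd : b ∣ d) (hlt : b < d)
    (h3 : p ^ d - 1 ∣ (p ^ b - 1) * m') (h4 : 64561751654400 ∣ glCard p d) : (p, d) ∈ ([] : List (ℕ × ℕ)) :=
  no_of_check (fs := [(2, 18), (3, 9), (5, 2), (7, 1), (11, 1), (13, 1)])
    (xs := [(3, 17), (4, 37), (5, 3), (6, 24)]) (ex := [])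
    (by decide +kernel) (by decide +kernel) (by decide +kernel) (by decide +kernel) (by delta testD; rewrite [tF_eq, aN_eq]; decide +kernel)
    hp hd hL hr (by norm_num) hm' hb hbd hlt h3 h4

/-- `HN` -/
theorem num_hn {p d b r R m' : ℕ} (hp : p.Prime) (hd : 3 ≤ d) (hL : Large p d r R) (hr : r ∣ 273030912000000)
    (hm' : m' ∣ 546061824000000) (hb : 0 < b) (hbd : b ∣ d) (hlt : b < d)
    (h3 : p ^ d - 1 ∣ (p ^ b - 1) * m') (h4 : 273030912000000 ∣ glCard p d) : (p, d) ∈ ([] : List (ℕ × ℕ)) :=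
  no_of_check (fs := [(2, 15), (3, 6), (5, 6), (7, 1), (11, 1), (19, 1)])
    (xs := [(3, 20), (4, 251), (5, 3), (6, 29), (9, 3)]) (ex := [])
    (by decide +kernel) (by decide +kernel) (by decide +kernel) (by decide +kernel) (by delta testD; rewrite [tF_eq, aN_eq]; decide +kernel)
    hp hd hL hr (by norm_num) hm' hb hbd hlt h3 h4

/-- `Ly` -/
theorem num_ly {p d b r R m' : ℕ} (hp : p.Prime) (hd : 3 ≤ d) (hL : Large p d r R) (hr : r ∣ 51765179004000000)
    (hm' : m' ∣ 103530358008000000) (hb : 0 < b) (hbd : b ∣ d) (hlt : b < d)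
    (h3 : p ^ d - 1 ∣ (p ^ b - 1) * m') (h4 : 51765179004000000 ∣ glCard p d) : (p, d) ∈ ([] : List (ℕ × ℕ)) :=
  no_of_check (fs := [(2, 9), (3, 7), (5, 6), (7, 1), (11, 1), (31, 1), (37, 1), (67, 1)])
    (xs := [(3, 1271), (4, 1521), (5, 7), (6, 1797), (9, 3), (10, 8), (11, 2), (12, 5), (15, 3), (18, 3), (22, 3), (33, 2)]) (ex := [])
    (by decide +kernel) (by decide +kernel) (by decide +kernel) (by decide +kernel) (by delta testD; rewrite [tF_eq, aN_eq]; decide +kernel)
    hp hd hL hr (by norm_num) hm' hb hbd hlt h3 h4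

/-- `Th` -/
theorem num_th {p d b r R m' : ℕ} (hp : p.Prime) (hd : 3 ≤ d) (hL : Large p d r R) (hr : r ∣ 90745943887872000)
    (hm' : m' ∣ 181491887775744000) (hb : 0 < b) (hbd : b ∣ d) (hlt : b < d)
    (h3 : p ^ d - 1 ∣ (p ^ b - 1) * m') (h4 : 90745943887872000 ∣ glCard p d) : (p, d) ∈ ([] : List (ℕ × ℕ)) :=
  no_of_check (fs := [(2, 16), (3, 10), (5, 3), (7, 2), (13, 1), (19, 1), (31, 1)])
    (xs := [(3, 1061), (4, 81), (5, 4), (6, 1501), (9, 3), (10, 5), (15, 3)]) (ex := [])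
    (by decide +kernel) (by decide +kernel) (by decide +kernel) (by decide +kernel) (by delta testD; rewrite [tF_eq, aN_eq]; decide +kernel)
    hp hd hL hr (by norm_num) hm' hb hbd hlt h3 h4

/-- `Fi23` -/
theorem num_fi23 {p d b r R m' : ℕ} (hp : p.Prime) (hd : 3 ≤ d) (hL : Large p d r R) (hr : r ∣ 4089470473293004800)
    (hm' : m' ∣ 8178940946586009600) (hb : 0 < b) (hbd : b ∣ d) (hlt : b < d)
    (h3 : p ^ d - 1 ∣ (p ^ b - 1) * m') (h4 : 4089470473293004800 ∣ glCard p d) : (p, d) ∈ ([] : List (ℕ × ℕ)) :=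
  no_of_check (fs := [(2, 19), (3, 13), (5, 2), (7, 1), (11, 1), (13, 1), (17, 1), (23, 1)])
    (xs := [(3, 17), (4, 149), (5, 3), (6, 24), (8, 4), (11, 2)]) (ex := [])
    (by decide +kernel) (by decide +kernel) (by decide +kernel) (by decide +kernel) (by delta testD; rewrite [tF_eq, aN_eq]; decide +kernel)
    hp hd hL hr (by norm_num) hm' hb hbd hlt h3 h4

/-- `Co1` -/
theorem num_co1 {p d b r R m' : ℕ} (hp : p.Prime) (hd : 3 ≤ d) (hL : Large p d r R) (hr : r ∣ 4157776806543360000)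
    (hm' : m' ∣ 8315553613086720000) (hb : 0 < b) (hbd : b ∣ d) (hlt : b < d)
    (h3 : p ^ d - 1 ∣ (p ^ b - 1) * m') (h4 : 4157776806543360000 ∣ glCard p d) : (p, d) ∈ ([] : List (ℕ × ℕ)) :=
  no_of_check (fs := [(2, 22), (3, 9), (5, 4), (7, 2), (11, 1), (13, 1), (23, 1)])
    (xs := [(3, 44), (4, 181), (5, 3), (6, 62), (11, 2)]) (ex := [])
    (by decide +kernel) (by decide +kernel) (by decide +kernel) (by decide +kernel) (by delta testD; rewrite [tF_eq, aN_eq]; decide +kernel)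
    hp hd hL hr (by norm_num) hm' hb hbd hlt h3 h4

/-- `J4` -/
theorem num_j4 {p d b r R m' : ℕ} (hp : p.Prime) (hd : 3 ≤ d) (hL : Large p d r R) (hr : r ∣ 86775571046077562880)
    (hm' : m' ∣ 173551142092155125760) (hb : 0 < b) (hbd : b ∣ d) (hlt : b < d)
    (h3 : p ^ d - 1 ∣ (p ^ b - 1) * m') (h4 : 86775571046077562880 ∣ glCard p d) : (p, d) ∈ ([] : List (ℕ × ℕ)) :=
  no_of_check (fs := [(2, 22), (3, 3), (5, 1), (7, 1), (11, 3), (23, 1), (29, 1), (31, 1), (37, 1), (43, 1)])
    (xs := [(3, 1018), (4, 147), (5, 22), (6, 1440), (7, 5), (9, 3), (10, 26), (11, 2), (12, 5), (14, 6), (15, 3), (18, 3), (21, 2)]) (ex := [])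
    (by decide +kernel) (by decide +kernel) (by decide +kernel) (by decide +kernel) (by delta testD; rewrite [tF_eq, aN_eq]; decide +kernel)
    hp hd hL hr (by norm_num) hm' hb hbd hlt h3 h4

/-- `Fi24p` -/
theorem num_fi24 {p d b r R m' : ℕ} (hp : p.Prime) (hd : 3 ≤ d) (hL : Large p d r R) (hr : r ∣ 1255205709190661721292800)
    (hm' : m' ∣ 2510411418381323442585600) (hb : 0 < b) (hbd : b ∣ d) (hlt : b < d)
    (h3 : p ^ d - 1 ∣ (p ^ b - 1) * m') (h4 : 1255205709190661721292800 ∣ glCard p d) : (p, d) ∈ ([] : List (ℕ × ℕ)) :=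
  no_of_check (fs := [(2, 22), (3, 16), (5, 2), (7, 3), (11, 1), (13, 1), (17, 1), (23, 1), (29, 1)])
    (xs := [(3, 116), (4, 801), (5, 3), (6, 164), (7, 3), (8, 4), (11, 2), (14, 3)]) (ex := [])
    (by decide +kernel) (by decide +kernel) (by decide +kernel) (by decide +kernel) (by delta testD; rewrite [tF_eq, aN_eq]; decide +kernel)
    hp hd hL hr (by norm_num) hm' hb hbd hlt h3 h4

/-- `Tits` -/
theorem num_tits {p d b r R m' : ℕ} (hp : p.Prime) (hd : 3 ≤ d) (hL : Large p d r R) (hr : r ∣ 17971200)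
    (hm' : m' ∣ 35942400) (hb : 0 < b) (hbd : b ∣ d) (hlt : b < d)
    (h3 : p ^ d - 1 ∣ (p ^ b - 1) * m') (h4 : 17971200 ∣ glCard p d) : (p, d) ∈ ([] : List (ℕ × ℕ)) :=
  no_of_check (fs := [(2, 12), (3, 3), (5, 2), (13, 1)])
    (xs := [(3, 7), (4, 37), (6, 9)]) (ex := [])
    (by decide +kernel) (by decide +kernel) (by decide +kernel) (by decide +kernel) (by delta testD; rewrite [tF_eq, aN_eq]; decide +kernel)
    hp hd hL hr (by norm_num) hm' hb hbd hlt h3 h4

/-- `B` -/
theorem num_b {p d b r R m' : ℕ} (hp : p.Prime) (hd : 3 ≤ d) (hL : Large p d r R) (hr : r ∣ 4154781481226426191177580544000000)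
    (hm' : m' ∣ 8309562962452852382355161088000000) (hb : 0 < b) (hbd : b ∣ d) (hlt : b < d)
    (h3 : p ^ d - 1 ∣ (p ^ b - 1) * m') (h4 : 4154781481226426191177580544000000 ∣ glCard p d) : (p, d) ∈ ([] : List (ℕ × ℕ)) :=
  no_of_check (fs := [(2, 42), (3, 13), (5, 6), (7, 2), (11, 1), (13, 1), (17, 1), (19, 1), (23, 1), (31, 1), (47, 1)])
    (xs := [(3, 1061), (4, 3717), (5, 7), (6, 1501), (8, 4), (9, 3), (10, 8), (11, 2), (15, 3), (23, 2)]) (ex := [])
    (by decide +kernel) (by decide +kernel) (by decide +kernel) (by decide +kernel) (by delta testD; rewrite [tF_eq, aN_eq]; decide +kernel)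
    hp hd hL hr (by norm_num) hm' hb hbd hlt h3 h4

end Cfsg.Agent.H50.Her
end

-- part: H50/HerSporNumM
section
/-!
# Hering's theorem: the numerical elimination of the Monster (helper50)
-/

set_option autoImplicit false
set_option maxRecDepth 100000

namespace Cfsg.Agent.H50.Her

theorem pm23 : ∀ x : ZMod 23, ∀ i ∈ Finset.Icc 1 6, x ^ i = 1 → x = 1 ∨ x = 22 := by decide +kernel
theorem pm47 : ∀ x : ZMod 47, ∀ i ∈ Finset.Icc 1 6, x ^ i = 1 → x = 1 ∨ x = 46 := by decide +kernel
theorem pm59 : ∀ x : ZMod 59, ∀ i ∈ Finset.Icc 1 6, x ^ i = 1 → x = 1 ∨ x = 58 := by decide +kernel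

/-- residues `± 1` -/
theorem res_of {t s p i d : ℕ} (ht : 1 < t) (hs : s < t)
    (h : ∀ x : ZMod t, ∀ i ∈ Finset.Icc 1 6, x ^ i = 1 → x = 1 ∨ x = s) (hp : 1 ≤ p) (hd : d ≤ 6)
    (h1 : 1 ≤ i) (h2 : i ≤ d) (h3 : t ∣ p ^ i - 1) : p % t = 1 ∨ p % t = s := by
  have h4 : (p : ZMod t) ^ i = 1 := by
    have h2 : ((p ^ i - 1 : ℕ) : ZMod t) = 0 := (ZMod.natCast_eq_zero_iff _ _).2 h3
    rw [Nat.cast_sub (Nat.one_le_pow _ _ hp), Nat.cast_pow, Nat.cast_one, sub_eq_zero] at h2
    exact h2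
  rcases h p i (Finset.mem_Icc.2 ⟨h1, h2.trans hd⟩) h4 with h5 | h5
  · left
    have h6 : (p : ZMod t) = ((1 : ℕ) : ZMod t) := by rw [h5, Nat.cast_one]
    have h7 := (ZMod.natCast_eq_natCast_iff' _ _ _).1 h6
    rw [h7, Nat.mod_eq_of_lt ht]
  · right
    have h7 := (ZMod.natCast_eq_natCast_iff' _ _ _).1 h5
    rw [h7, Nat.mod_eq_of_lt hs]

/-- the residue classes modulo `23 · 47 · 59` -/
def rsM : List ℕ := [1, 3244, 21713, 24956, 38823, 42066, 60535, 63778]

theorem crt {p ρ : ℕ} (h1 : p % 23 = ρ % 23) (h2 : p % 47 = ρ % 47) (h3 : p % 59 = ρ % 59) (hρ : ρ < 63779) :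
    p % 63779 = ρ := by
  have e1 : p ≡ ρ [MOD 23 * 47] := (Nat.modEq_and_modEq_iff_modEq_mul (by norm_num)).1 ⟨h1, h2⟩
  have e2 : p ≡ ρ [MOD 23 * 47 * 59] := (Nat.modEq_and_modEq_iff_modEq_mul (by norm_num)).1 ⟨e1, h3⟩
  have e3 : p % 63779 = ρ % 63779 := e2
  rw [e3, Nat.mod_eq_of_lt hρ]

theorem mem_rsM {p : ℕ} (h1 : p % 23 = 1 ∨ p % 23 = 22) (h2 : p % 47 = 1 ∨ p % 47 = 46)
    (h3 : p % 59 = 1 ∨ p % 59 = 58) : p % 63779 ∈ rsM := by
  rcases h1 with h1 | h1 <;> rcases h2 with h2 | h2 <;> rcases h3 with h3 | h3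
  · rw [crt (ρ := 1) (by rw [h1]) (by rw [h2]) (by rw [h3]) (by norm_num)]; decide
  · rw [crt (ρ := 3244) (by rw [h1]) (by rw [h2]) (by rw [h3]) (by norm_num)]; decide
  · rw [crt (ρ := 21713) (by rw [h1]) (by rw [h2]) (by rw [h3]) (by norm_num)]; decide
  · rw [crt (ρ := 24956) (by rw [h1]) (by rw [h2]) (by rw [h3]) (by norm_num)]; decide
  · rw [crt (ρ := 38823) (by rw [h1]) (by rw [h2]) (by rw [h3]) (by norm_num)]; decide
  · rw [crt (ρ := 42066) (by rw [h1]) (by rw [h2]) (by rw [h3]) (by norm_num)]; decide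
  · rw [crt (ρ := 60535) (by rw [h1]) (by rw [h2]) (by rw [h3]) (by norm_num)]; decide
  · rw [crt (ρ := 63778) (by rw [h1]) (by rw [h2]) (by rw [h3]) (by norm_num)]; decide

theorem sieveM {p d : ℕ} (hp : p.Prime) (hd : d ≤ 6) (h : 808017424794512875886459904961710757005754368000000000 ∣ glCard p d) :
    p ∈ [23, 47, 59] ∨ p % 63779 ∈ rsM := by
  by_cases hps : p ∈ [23, 47, 59]
  · exact Or.inl hps
  right
  simp only [List.mem_cons, List.not_mem_nil, or_false, not_or] at hps
  obtain ⟨h23, h47, h59⟩ := hps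
  have e23 : 23 ∣ glCard p d := Dvd.dvd.trans (by norm_num) h
  have e47 : 47 ∣ glCard p d := Dvd.dvd.trans (by norm_num) h
  have e59 : 59 ∣ glCard p d := Dvd.dvd.trans (by norm_num) h
  rcases exists_of_dvd_glCard hp (by norm_num) e23 with h1 | ⟨i, h1, h2, h3⟩
  · exact absurd h1.symm h23
  rcases exists_of_dvd_glCard hp (by norm_num) e47 with h4 | ⟨j, h4, h5, h6⟩
  · exact absurd h4.symm h47
  rcases exists_of_dvd_glCard hp (by norm_num) e59 with h7 | ⟨k, h7, h8, h9⟩
  · exact absurd h7.symm h59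
  exact mem_rsM (res_of (by norm_num) (by norm_num) pm23 hp.one_lt.le hd h1 h2 h3)
    (res_of (by norm_num) (by norm_num) pm47 hp.one_lt.le hd h4 h5 h6)
    (res_of (by norm_num) (by norm_num) pm59 hp.one_lt.le hd h7 h8 h9)

/-- the factorisation of `2 |M|` -/
def fsM : List (ℕ × ℕ) := [(2, 47), (3, 20), (5, 9), (7, 6), (11, 2), (13, 3), (17, 1), (19, 1), (23, 1), (29, 1), (31, 1), (41, 1), (47, 1), (59, 1), (71, 1)]

theorem testM3 : testS 1616034849589025751772919809923421514011508736000000000 808017424794512875886459904961710757005754368000000000 3 63779 11 rsM [23, 47, 59] = true := by delta testS; rewrite [tF_eq, aN_eq]; decide +kernel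
theorem testM4 : testS 1616034849589025751772919809923421514011508736000000000 808017424794512875886459904961710757005754368000000000 4 63779 293 rsM [23, 47, 59] = true := by delta testS; rewrite [tF_eq, aN_eq]; decide +kernel
theorem testM6 : testS 1616034849589025751772919809923421514011508736000000000 808017424794512875886459904961710757005754368000000000 6 63779 15 rsM [23, 47, 59] = true := by delta testS; rewrite [tF_eq, aN_eq]; decide +kernel

/-- `M` -/
theorem num_m {p d b r R m' : ℕ} (hp : p.Prime) (hd : 3 ≤ d) (hL : Large p d r R) (hr : r ∣ 808017424794512875886459904961710757005754368000000000)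
    (hm' : m' ∣ 1616034849589025751772919809923421514011508736000000000) (hb : 0 < b) (hbd : b ∣ d) (hlt : b < d)
    (h3 : p ^ d - 1 ∣ (p ^ b - 1) * m') (h4 : 808017424794512875886459904961710757005754368000000000 ∣ glCard p d) : (p, d) ∈ ([] : List (ℕ × ℕ)) := by
  refine no_of_check' (fs := fsM)
    (xs := [(3, 675815), (4, 18626251), (5, 86), (6, 955746), (7, 5), (8, 9), (9, 3), (10, 103), (11, 2), (12, 13), (14, 6), (15, 3), (20, 3), (23, 2), (29, 2), (35, 2)]) (ex := [])
    (by decide +kernel) (by decide +kernel) (by decide +kernel) (by decide +kernel) ?_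
    hp hd hL hr (by norm_num) hm' hb hbd hlt h3 h4
  intro x hx
  simp only [List.mem_cons, List.not_mem_nil, or_false] at hx
  rcases hx with rfl | rfl | rfl | rfl | rfl | rfl | rfl | rfl | rfl | rfl | rfl | rfl | rfl | rfl | rfl | rfl
  · exact ⟨by decide +kernel, fun p hp hlt h => Or.inr (testS_spec testM3 (sieveM hp (by norm_num) h) (by norm_num)
      (by omega))⟩
  · exact ⟨by decide +kernel, fun p hp hlt h => Or.inr (testS_spec testM4 (sieveM hp (by norm_num) h) (by norm_num)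
      (by omega))⟩
  · exact testD_spec (ex := []) (by decide +kernel)
  · exact ⟨by decide +kernel, fun p hp hlt h => Or.inr (testS_spec testM6 (sieveM hp (by norm_num) h) (by norm_num)
      (by omega))⟩
  · exact testD_spec (ex := []) (by decide +kernel)
  · exact testD_spec (ex := []) (by decide +kernel)
  · exact testD_spec (ex := []) (by decide +kernel)
  · exact testD_spec (ex := []) (by decide +kernel)
  · exact testD_spec (ex := []) (by decide +kernel)
  · exact testD_spec (ex := []) (by decide +kernel)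
  · exact testD_spec (ex := []) (by decide +kernel)
  · exact testD_spec (ex := []) (by decide +kernel)
  · exact testD_spec (ex := []) (by decide +kernel)
  · exact testD_spec (ex := []) (by decide +kernel)
  · exact testD_spec (ex := []) (by decide +kernel)
  · exact testD_spec (ex := []) (by decide +kernel)

end Cfsg.Agent.H50.Her
end

-- part: H60/HerSpor
section
/-!
# Hering's theorem: the sporadic groups and the Tits group (helper60)

`row_spor` : the configuration `Cfg p d b L V S π ρ` with `3 ≤ d` and a large prime `r` dividing `|S|` is impossible for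
`S` sporadic or the Tits group.
-/

set_option autoImplicit false

namespace Cfsg.Agent.H60.HerSpor

open Cfsg.Agent.H50.Her

universe u v w

/-! ### Orders -/

/-- `|GL(V)|`, `|V| = p ^ d` -/
theorem card_gl {p d : ℕ} (hp : p.Prime) {V : Type v} [AddCommGroup V] [Module (ZMod p) V] [Finite V]
    (hV : Nat.card V = p ^ d) : Module.finrank (ZMod p) V = d ∧ Nat.card (V ≃ₗ[ZMod p] V) = glCard p d := by
  have := Fact.mk hp
  have hfin : Module.finrank (ZMod p) V = d := by
    have h1 := Module.natCard_eq_pow_finrank (K := ZMod p) (V := V)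
    rw [Nat.card_zmod, hV] at h1
    exact (Nat.pow_right_injective hp.two_le h1).symm
  refine ⟨hfin, ?_⟩
  let bV : Module.Basis (Fin d) (ZMod p) V := Module.finBasisOfFinrankEq (ZMod p) V hfin
  have e1 : (V ≃ₗ[ZMod p] V) ≃ (GL (Fin d) (ZMod p)) :=
    ((LinearMap.GeneralLinearGroup.generalLinearEquiv (ZMod p) V).symm.trans
      (Units.mapEquiv (LinearMap.toMatrixAlgEquiv bV).toMulEquiv)).toEquiv
  rw [Nat.card_congr e1, Matrix.card_GL_field, glCard, ← List.prod_ofFn]
  congr 1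
  rw [List.ofFn_eq_map, ← List.map_coe_finRange_eq_range, List.map_map]
  congr 1
  funext i
  simp [ZMod.card]

variable {p d b r R : ℕ} {L : Type u} {V : Type v} {S : Type w} [Group L] [AddCommGroup V] [Module (ZMod p) V]
    [Group S] {π : L →* S} {ρ : L →* (V ≃ₗ[ZMod p] V)}

theorem dvd_gl (h : Cfg p d b L V S π ρ) : Nat.card S ∣ glCard p d := by
  have := h.finL
  have := h.finV
  rw [← (card_gl h.prime h.card_V).2]
  exact (Subgroup.card_dvd_of_surjective π h.surj).trans (Subgroup.card_dvd_of_injective ρ h.inj)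

theorem finS (h : Cfg p d b L V S π ρ) : Finite S :=
  have := h.finL
  Finite.of_surjective π h.surj

theorem aut_dvd (h : Cfg p d b L V S π ρ) (ho : Nat.card (Out S) ≤ 2) : Nat.card (MulAut S) ∣ 2 * Nat.card S := by
  have := finS h
  have := h.simple
  obtain ⟨x, y, hxy⟩ := h.noncomm
  have h1 := H934.OutB.card_out_mul S (fun hc => hxy (hc.is_comm.comm x y))
  rw [← h1]
  apply Nat.mul_dvd_mul_right
  have h2 : 0 < Nat.card (Out S) := by
    rcases Nat.eq_zero_or_pos (Nat.card (Out S)) with h0 | h0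
    · exfalso
      rw [h0, zero_mul] at h1
      exact Nat.card_pos.ne' h1.symm
    · exact h0
  interval_cases hh : Nat.card (Out S) <;> norm_num

/-- the generic row -/
theorem row (h : Cfg p d b L V S π ρ) (hd : 3 ≤ d) (hL : Large p d r R) (hr : r ∣ Nat.card S)
    (ho : Nat.card (Out S) ≤ 2) {n n2 : ℕ} {ex : List (ℕ × ℕ)} (hn : Nat.card S = n) (hn2 : n2 = 2 * n)
    (H : ∀ {p d b r R m' : ℕ}, p.Prime → 3 ≤ d → Large p d r R → r ∣ n → m' ∣ n2 → 0 < b → b ∣ d → b < d →
      p ^ d - 1 ∣ (p ^ b - 1) * m' → n ∣ glCard p d → (p, d) ∈ ex) : (p, d) ∈ ex :=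
  H h.prime hd hL (hn ▸ hr) (by rw [hn2, ← hn]; exact aut_dvd h ho) h.b_pos h.b_dvd h.b_lt h.num (hn ▸ dvd_gl h)

/-! ### `J1` in `GL_3(11)` -/

/-- in `J1` there are an element of order `19` and an element inverting it -/
theorem real_nineteen : ∃ y t : Spor.J1, orderOf y = 19 ∧ t * y * t⁻¹ = y⁻¹ := by
  obtain ⟨y, w, hy, hw, hwy⟩ := H389.JFacts.frob_nineteen
  obtain ⟨k, hk⟩ := Subgroup.mem_zpowers_iff.1 hwy
  have key : ∀ m : ℕ, w ^ m * y * (w ^ m)⁻¹ = y ^ (k ^ m) := by
    intro m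
    induction m with
    | zero => simp
    | succ m ih =>
      calc w ^ (m + 1) * y * (w ^ (m + 1))⁻¹ = w ^ m * (w * y * w⁻¹) * (w ^ m)⁻¹ := by group
        _ = w ^ m * (y ^ k) * (w ^ m)⁻¹ := by rw [← hk]
        _ = (w ^ m * y * (w ^ m)⁻¹) ^ k := (conj_zpow ..).symm
        _ = y ^ (k ^ (m + 1)) := by rw [ih, ← zpow_mul, pow_succ]
  refine ⟨y, w ^ 3, hy, ?_⟩
  rw [key 3]
  have h6 := key 6
  rw [← hw, pow_orderOf_eq_one, hw] at h6
  simp only [one_mul, inv_one, mul_one] at h6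
  have h3 : y ^ (k ^ 3) ≠ y := by
    intro hc
    have h1 := key 3
    rw [hc] at h1
    have hcomm : Commute y (w ^ 3) := by
      have : w ^ 3 * y = y * w ^ 3 := by
        rw [mul_inv_eq_iff_eq_mul] at h1
        exact h1
      exact this.symm
    have hw3 : orderOf (w ^ 3) = 2 := by
      rw [orderOf_pow_of_dvd (by norm_num) (by rw [hw]; norm_num), hw]
    have h2 := H389.JFacts.eq_one_of_comm (p := 19) (by norm_num) hy hcomm (by rw [hw3]; norm_num)
    rw [h2, orderOf_one] at hw3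
    norm_num at hw3
  have e1 : ((k : ZMod 19)) ^ 6 = 1 := by
    have h1 : y ^ (k ^ 6 - 1) = 1 := by rw [zpow_sub, ← h6, zpow_one, mul_inv_cancel]
    have h2 := (orderOf_dvd_iff_zpow_eq_one).2 h1
    rw [hy] at h2
    have h4 : (((k ^ 6 - 1 : ℤ)) : ZMod 19) = 0 := (ZMod.intCast_zmod_eq_zero_iff_dvd _ 19).2 h2
    push_cast at h4
    exact sub_eq_zero.1 h4
  have e2 : ((k : ZMod 19)) ^ 3 ≠ 1 := by
    intro hc
    apply h3
    have h4 : (((k ^ 3 - 1 : ℤ)) : ZMod 19) = 0 := by push_cast; rw [hc, sub_self]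
    have h5 := (ZMod.intCast_zmod_eq_zero_iff_dvd _ 19).1 h4
    have h7 : y ^ (k ^ 3 - 1) = 1 := (orderOf_dvd_iff_zpow_eq_one).1 (by rw [hy]; exact h5)
    rw [zpow_sub, zpow_one, mul_inv_eq_one] at h7
    exact h7
  have e3 : ((k : ZMod 19)) ^ 3 = -1 := by
    generalize (k : ZMod 19) = x at e1 e2
    revert x
    decide
  have h4 : (((k ^ 3 + 1 : ℤ)) : ZMod 19) = 0 := by push_cast; rw [e3]; ring
  have h5 := (ZMod.intCast_zmod_eq_zero_iff_dvd _ 19).1 h4
  have h7 : y ^ (k ^ 3 + 1) = 1 := (orderOf_dvd_iff_zpow_eq_one).1 (by rw [hy]; exact h5)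
  rw [zpow_add, zpow_one] at h7
  exact eq_inv_of_mul_eq_one_left h7

/-- `GL_3(11)` has no element of order `19` conjugate to its inverse -/
theorem no_real {V : Type v} [AddCommGroup V] [Module (ZMod 11) V] [Finite V] (hV : Nat.card V = 11 ^ 3)
    {y t : V ≃ₗ[ZMod 11] V} (hy : orderOf y = 19) (hty : t * y * t⁻¹ = y⁻¹) : False := by
  have := Fact.mk (show Nat.Prime 11 by norm_num)
  have := Fact.mk (show Nat.Prime 19 by norm_num)
  have hfin := (card_gl (by norm_num) hV).1
  set A : V →ₗ[ZMod 11] V := (y : V →ₗ[ZMod 11] V) - (y⁻¹ : V ≃ₗ[ZMod 11] V) with hA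
  have h1 : (t : V →ₗ[ZMod 11] V) ∘ₗ A ∘ₗ (t.symm : V →ₗ[ZMod 11] V) = -A := by
    have hty' : t * y⁻¹ * t⁻¹ = y := by
      have := congrArg (fun z => z⁻¹) hty
      simpa [mul_inv_rev, mul_assoc] using this
    ext v
    have e1 : t (y (t.symm v)) = y⁻¹ v := by
      have := LinearEquiv.congr_fun hty v
      exact this
    have e2 : t (y⁻¹ (t.symm v)) = y v := by
      have := LinearEquiv.congr_fun hty' v
      exact this
    simp only [hA, LinearMap.comp_apply, LinearMap.sub_apply, LinearEquiv.coe_coe, map_sub, LinearMap.neg_apply, e1, e2]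
    abel
  have h2 : LinearMap.det A = 0 := by
    have h3 := LinearMap.det_conj A t
    rw [h1, ← neg_one_smul (ZMod 11) A, LinearMap.det_smul, hfin] at h3
    have h5 : (2 : ZMod 11) * LinearMap.det A = 0 := by linear_combination -h3
    have h6 : (2 : ZMod 11) ≠ 0 := by
      intro h
      have h7 := (ZMod.natCast_eq_zero_iff 2 11).1 (by exact_mod_cast h)
      omega
    exact (mul_eq_zero.1 h5).resolve_left h6
  obtain ⟨v, hv, hv0⟩ := (Submodule.ne_bot_iff _).1 (LinearMap.bot_lt_ker_of_det_eq_zero h2).ne'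
  have h3 : y v = y⁻¹ v := by
    have : A v = 0 := hv
    rw [hA, LinearMap.sub_apply, sub_eq_zero] at this
    exact this
  have h4 : (y ^ 2) v = v := by
    rw [pow_two, LinearEquiv.mul_apply, h3, ← LinearEquiv.mul_apply, mul_inv_cancel]
    rfl
  have h5 : y v = v := by
    have e : y = (y ^ 2) ^ 10 := by
      rw [← pow_mul]
      have : y ^ (2 * 10) = y ^ 19 * y := by rw [← pow_succ]
      rw [this, ← hy, pow_orderOf_eq_one, one_mul]
    have e2 : ∀ n : ℕ, ((y ^ 2) ^ n) v = v := by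
      intro n
      induction n with
      | zero => simp
      | succ n ih => rw [pow_succ, LinearEquiv.mul_apply, h4, ih]
    rw [e]
    exact e2 10
  -- the fixed points
  let W : Submodule (ZMod 11) V := LinearMap.ker ((y : V →ₗ[ZMod 11] V) - LinearMap.id)
  have hW : ∀ x, x ∈ W ↔ y x = x := by
    intro x
    simp [W, sub_eq_zero]
  have hP : IsPGroup 19 (Subgroup.zpowers y) := by
    apply IsPGroup.of_card (n := 1)
    rw [Nat.card_zpowers, hy, pow_one]
  have h6 := hP.card_modEq_card_fixedPoints V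
  have h7 : Nat.card (MulAction.fixedPoints (Subgroup.zpowers y) V) = Nat.card W := by
    apply Nat.card_congr
    apply Equiv.subtypeEquivRight
    intro x
    rw [MulAction.mem_fixedPoints, hW]
    constructor
    · intro h
      exact h ⟨y, Subgroup.mem_zpowers y⟩
    · rintro h ⟨g, hg⟩
      obtain ⟨n, rfl⟩ := Subgroup.mem_zpowers_iff.1 hg
      have h8 : y ∈ MulAction.stabilizer (V ≃ₗ[ZMod 11] V) x := h
      exact (Subgroup.zpow_mem _ h8 n : y ^ n ∈ MulAction.stabilizer (V ≃ₗ[ZMod 11] V) x)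
  have h8 := Module.natCard_eq_pow_finrank (K := ZMod 11) (V := W)
  rw [Nat.card_zmod] at h8
  have h9 : Module.finrank (ZMod 11) W ≤ 3 := hfin ▸ Submodule.finrank_le W
  rw [hV, h7, h8] at h6
  have h10 : Module.finrank (ZMod 11) W ≠ 0 := by
    intro h0
    have : W = ⊥ := Submodule.finrank_eq_zero.1 h0
    have h11 : v ∈ W := (hW v).2 h5
    rw [this, Submodule.mem_bot] at h11
    exact hv0 h11
  have h12 : Module.finrank (ZMod 11) W = 3 := by
    generalize Module.finrank (ZMod 11) W = n at h6 h9 h10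
    interval_cases n
    · exact absurd rfl h10
    · exact absurd h6 (by decide)
    · exact absurd h6 (by decide)
    · rfl
  have h13 : W = ⊤ := Submodule.eq_top_of_finrank_eq (h12.trans hfin.symm)
  have h14 : y = 1 := by
    ext x
    exact (hW x).1 (h13 ▸ Submodule.mem_top)
  rw [h14, orderOf_one] at hy
  norm_num at hy

theorem kill_j1 (h : Cfg p d b L V S π ρ) (hS : Spor.IsoJ1 S) (hpd : p = 11 ∧ d = 3) : False := by
  obtain ⟨rfl, rfl⟩ := hpd
  have := h.finL
  have := h.finV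
  have hb : b = 1 := by
    have h1 := (Nat.dvd_prime Nat.prime_three).1 h.b_dvd
    have h2 := h.b_lt
    omega
  subst hb
  have hZ := h.card_center
  obtain ⟨e⟩ := hS
  obtain ⟨y0, t0, hy0, hty0⟩ := real_nineteen
  obtain ⟨y1, hy1⟩ := h.surj (e.symm y0)
  obtain ⟨t1, ht1⟩ := h.surj (e.symm t0)
  -- elements of the kernel
  have hker : ∀ z : L, π z = 1 → z ∈ Subgroup.center L ∧ z ^ 10 = 1 := by
    intro z hz
    have hz' : z ∈ Subgroup.center L := by rw [← h.cent]; exact hz
    refine ⟨hz', ?_⟩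
    have h1 : (⟨z, hz'⟩ : Subgroup.center L) ^ Nat.card (Subgroup.center L) = 1 := pow_card_eq_one'
    obtain ⟨c, hc⟩ := hZ
    have h2 : z ^ Nat.card (Subgroup.center L) = 1 := congrArg Subtype.val h1
    have h3 : (10 : ℕ) = Nat.card (Subgroup.center L) * c := by simpa using hc
    rw [h3, pow_mul, h2, one_pow]
  have hpy : orderOf (π y1) = 19 := by rw [hy1, MulEquiv.orderOf_eq, hy0]
  have hpt : π t1 * π y1 * (π t1)⁻¹ = (π y1)⁻¹ := by
    rw [hy1, ht1, ← map_mul, ← map_inv, ← map_mul, hty0, map_inv]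
  -- `y = y1 ^ 20` has order `19`
  have h19 : (y1 ^ 10) ^ 19 = 1 := by
    rw [← pow_mul, mul_comm, pow_mul]
    exact (hker _ (by rw [map_pow, ← hpy, pow_orderOf_eq_one])).2
  have hy10 : orderOf (y1 ^ 10) = 19 := by
    have := Fact.mk (show Nat.Prime 19 by norm_num)
    refine orderOf_eq_prime h19 fun h1 => ?_
    have h2 : π y1 ^ 10 = 1 := by rw [← map_pow, h1, map_one]
    have h3 := orderOf_dvd_of_pow_eq_one h2
    rw [hpy] at h3
    norm_num at h3
  have hinv : t1 * (y1 ^ 10) * t1⁻¹ = (y1 ^ 10)⁻¹ := by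
    set z := t1 * y1 * t1⁻¹ * y1 with hz
    have h1 := hker z (by rw [hz, map_mul, map_mul, map_mul, map_inv, hpt, inv_mul_cancel])
    have h2 : t1 * y1 * t1⁻¹ = z * y1⁻¹ := by rw [hz, mul_inv_cancel_right]
    have h3 : Commute z y1⁻¹ := (Subgroup.mem_center_iff.1 h1.1 y1⁻¹).symm
    rw [← conj_pow, h2, h3.mul_pow, h1.2, one_mul, inv_pow]
  refine no_real h.card_V (y := ρ (y1 ^ 10)) (t := ρ t1) ?_ ?_
  · rw [orderOf_injective ρ h.inj, hy10]
  · rw [← map_mul, ← map_inv, ← map_mul, hinv, map_inv]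

/-! ### `J2` in `GL_4(7)` -/

/-- `GL_4(7)` has an element of order `25` -/
theorem exists_25 {V : Type v} [AddCommGroup V] [Module (ZMod 7) V] [Finite V] (hV : Nat.card V = 7 ^ 4) :
    ∃ s : V ≃ₗ[ZMod 7] V, orderOf s = 25 := by
  have := Fact.mk (show Nat.Prime 7 by norm_num)
  have hfin := (card_gl (by norm_num) hV).1
  have h4 : Module.finrank (ZMod 7) (GaloisField 7 4) = 4 := GaloisField.finrank 7 (by norm_num)
  have hc : Nat.card (GaloisField 7 4)ˣ = 2400 := by
    rw [Nat.card_units, GaloisField.card 7 4 (by norm_num)]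
    norm_num
  obtain ⟨g, hg⟩ := IsCyclic.exists_ofOrder_eq_natCard (α := (GaloisField 7 4)ˣ)
  rw [hc] at hg
  have h1 : orderOf (g ^ 96) = 25 := by rw [orderOf_pow_of_dvd (by norm_num) (by rw [hg]; norm_num), hg]
  let f : (GaloisField 7 4)ˣ →* (GaloisField 7 4 ≃ₗ[ZMod 7] GaloisField 7 4) :=
    DistribMulAction.toModuleAut (ZMod 7) (GaloisField 7 4)
  have hf : Function.Injective f := by
    intro a b hab
    have h2 := LinearEquiv.congr_fun hab 1
    have h3 : (a : GaloisField 7 4) * 1 = (b : GaloisField 7 4) * 1 := h2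
    rw [mul_one, mul_one] at h3
    exact Units.ext h3
  have e : GaloisField 7 4 ≃ₗ[ZMod 7] V := LinearEquiv.ofFinrankEq _ _ (h4.trans hfin.symm)
  let c : (GaloisField 7 4 ≃ₗ[ZMod 7] GaloisField 7 4) →* (V ≃ₗ[ZMod 7] V) :=
    { toFun := fun f => (e.symm.trans f).trans e
      map_one' := by ext x; simp
      map_mul' := fun a b => by ext x; simp }
  have hc' : Function.Injective c := by
    intro a b hab
    ext x
    have h2 := LinearEquiv.congr_fun hab (e x)
    have h3 : e (a (e.symm (e x))) = e (b (e.symm (e x))) := h2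
    rw [e.symm_apply_apply] at h3
    exact e.injective h3
  exact ⟨c (f (g ^ 96)), by rw [orderOf_injective c hc', orderOf_injective f hf, h1]⟩

theorem kill_j2 (h : Cfg p d b L V S π ρ) (hS : Spor.IsoJ2 S) (hpd : p = 7 ∧ d = 4) : False := by
  obtain ⟨rfl, rfl⟩ := hpd
  have := h.finL
  have := h.finV
  have := Fact.mk (show Nat.Prime 5 by norm_num)
  have hZ := h.card_center
  have hb : b = 1 ∨ b = 2 := by
    have h1 := h.b_dvd
    have h2 := h.b_lt
    have h3 := h.b_pos
    interval_cases b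
    · exact Or.inl rfl
    · exact Or.inr rfl
    · revert h1; decide
  have h5Z : ¬ 5 ∣ Nat.card (Subgroup.center L) := by
    intro h5
    have h6 := h5.trans hZ
    rcases hb with rfl | rfl
    · revert h6; decide
    · revert h6; decide
  have hcS : Nat.card S = 604800 := NotCT.Orders.j2 hS
  have hcL : Nat.card L = Nat.card (Subgroup.center L) * 604800 := by
    rw [← hcS, ← h.cent, ← Subgroup.card_mul_index π.ker, Subgroup.index_ker]
    rw [MonoidHom.range_eq_top.2 h.surj, Nat.card_congr Subgroup.topEquiv.toEquiv]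
  have hcG : Nat.card (V ≃ₗ[ZMod 7] V) = glCard 7 4 := (card_gl (by norm_num) h.card_V).2
  -- the Sylow 5-subgroups
  have hfac : (Nat.card L).factorization 5 = 2 := by
    rw [hcL, Nat.factorization_mul Nat.card_pos.ne' (by norm_num)]
    rw [Finsupp.add_apply, Nat.factorization_eq_zero_of_not_dvd h5Z, zero_add]
    rw [show 604800 = 5 ^ 2 * 24192 by norm_num, Nat.factorization_mul (by norm_num) (by norm_num),
      Finsupp.add_apply, Nat.Prime.factorization_pow (by norm_num), Nat.factorization_eq_zero_of_not_dvd (by norm_num)]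
    simp
  have hfacG : (Nat.card (V ≃ₗ[ZMod 7] V)).factorization 5 = 2 := by
    have e : glCard 7 4 = 5 ^ 2 * (glCard 7 4 / 25) := by decide +kernel
    have e2 : ¬ 5 ∣ glCard 7 4 / 25 := by decide +kernel
    have e3 : glCard 7 4 / 25 ≠ 0 := by decide +kernel
    rw [hcG, e, Nat.factorization_mul (by norm_num) e3,
      Finsupp.add_apply, Nat.Prime.factorization_pow (by norm_num), Nat.factorization_eq_zero_of_not_dvd e2]
    simp
  obtain ⟨P⟩ := (inferInstance : Nonempty (Sylow 5 L))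
  have hfinG : Finite (V ≃ₗ[ZMod 7] V) := Finite.of_injective (fun e x => e x) fun a b hab => LinearEquiv.ext (congrFun hab)
  have hP : Nat.card P = 5 ^ 2 := by rw [P.card_eq_multiplicity, hfac]
  have hPG : Nat.card ((P : Subgroup L).map ρ) = 5 ^ (Nat.card (V ≃ₗ[ZMod 7] V)).factorization 5 := by
    rw [Subgroup.card_map_of_injective h.inj, hfacG]
    exact hP
  let Q : Sylow 5 (V ≃ₗ[ZMod 7] V) := Sylow.ofCard ((P : Subgroup L).map ρ) hPG
  obtain ⟨s, hs⟩ := exists_25 h.card_V
  have hsP : IsPGroup 5 (Subgroup.zpowers s) := by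
    apply IsPGroup.of_card (n := 2)
    rw [Nat.card_zpowers, hs]
    norm_num
  obtain ⟨Q', hQ'⟩ := hsP.exists_le_sylow
  obtain ⟨g, hg⟩ := MulAction.exists_smul_eq (V ≃ₗ[ZMod 7] V) Q' Q
  have h1 : g * s * g⁻¹ ∈ (Q : Subgroup (V ≃ₗ[ZMod 7] V)) := by
    rw [← hg]
    have h2 := Subgroup.smul_mem_pointwise_smul s (MulAut.conj g) (Q' : Subgroup (V ≃ₗ[ZMod 7] V))
      (hQ' (Subgroup.mem_zpowers s))
    exact h2
  obtain ⟨x, hx, hxe⟩ : g * s * g⁻¹ ∈ (P : Subgroup L).map ρ := h1
  have hox : orderOf x = 25 := by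
    rw [← orderOf_injective ρ h.inj, hxe, ← hs]
    exact orderOf_injective (MulAut.conj g).toMonoidHom (MulAut.conj g).injective s
  -- the order of `π x`
  have h2 : orderOf (π x) = 25 := by
    have h3 : orderOf (π x) ∣ 25 := by
      apply orderOf_dvd_of_pow_eq_one
      rw [← map_pow, ← hox, pow_orderOf_eq_one, map_one]
    have h4 : x ^ orderOf (π x) ∈ Subgroup.center L := by
      rw [← h.cent, MonoidHom.mem_ker, map_pow, pow_orderOf_eq_one]
    have h5 : (x ^ orderOf (π x)) ^ Nat.card (Subgroup.center L) = 1 := by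
      have : (⟨x ^ orderOf (π x), h4⟩ : Subgroup.center L) ^ Nat.card (Subgroup.center L) = 1 := pow_card_eq_one'
      exact congrArg Subtype.val this
    rw [← pow_mul] at h5
    have h6 := orderOf_dvd_of_pow_eq_one h5
    rw [hox] at h6
    have h7 : Nat.Coprime 25 (Nat.card (Subgroup.center L)) := by
      rw [show 25 = 5 ^ 2 by norm_num]
      exact Nat.Coprime.pow_left _ ((Nat.Prime.coprime_iff_not_dvd (by norm_num)).2 h5Z)
    exact Nat.dvd_antisymm h3 (h7.dvd_of_dvd_mul_right h6)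
  obtain ⟨e⟩ := hS
  have h3 := H379.J2Spec.orders_J2 (e (π x))
  rw [MulEquiv.orderOf_eq, h2] at h3
  revert h3
  decide

/-! ### The row -/

/-- **the sporadic groups and the Tits group** -/
theorem row_spor (h : Cfg p d b L V S π ρ) (hd : 3 ≤ d) (hL : Large p d r R) (hr : r ∣ Nat.card S)
    (hS : IsSporadicGroup S ∨ Cfsg.Lie.IsoTits S) : False := by
  have hn : ∀ {x : ℕ × ℕ}, x ∈ ([] : List (ℕ × ℕ)) → False := fun hx => by simp at hx
  rcases hS with hS | hS
  · have ho := H489.card_out_sporadic hS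
    rcases hS with h0 | h0 | h0 | h0 | h0 | h0 | h0 | h0 | h0 | h0 | h0 | h0 | h0 | h0 | h0 | h0 | h0 | h0 | h0 | h0 | h0 | h0 | h0 | h0 | h0 | h0
    map_tacs [(exact hn (row h hd hL hr ho (NotCT.Orders.m11 h0) (by norm_num) num_m11)); (exact hn (row h hd hL hr ho (NotCT.Orders.m12 h0) (by norm_num) num_m12));
     (exact hn (row h hd hL hr ho (NotCT.Orders.m22 h0) (by norm_num) num_m22)); (exact hn (row h hd hL hr ho (NotCT.Orders.m23 h0) (by norm_num) num_m23));
     (exact hn (row h hd hL hr ho (NotCT.Orders.m24 h0) (by norm_num) num_m24));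
     (exact kill_j1 h h0 (by simpa using row h hd hL hr ho (NotCT.Orders.j1 h0) (by norm_num) num_j1));
     (exact kill_j2 h h0 (by simpa using row h hd hL hr ho (NotCT.Orders.j2 h0) (by norm_num) num_j2));
     (exact hn (row h hd hL hr ho (NotCT.Orders.j3 h0) (by norm_num) num_j3)); (exact hn (row h hd hL hr ho (NotCT.Orders.j4 h0) (by norm_num) num_j4));
     (exact hn (row h hd hL hr ho (NotCT.Orders.co1 h0) (by norm_num) num_co1)); (exact hn (row h hd hL hr ho (NotCT.Orders.co2 h0) (by norm_num) num_co2));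
     (exact hn (row h hd hL hr ho (NotCT.Orders.co3 h0) (by norm_num) num_co3)); (exact hn (row h hd hL hr ho (NotCT.Orders.mcl h0) (by norm_num) num_mcl));
     (exact hn (row h hd hL hr ho (NotCT.Orders.hs h0) (by norm_num) num_hs)); (exact hn (row h hd hL hr ho (NotCT.Orders.suz h0) (by norm_num) num_suz));
     (exact hn (row h hd hL hr ho (NotCT.Orders.he h0) (by norm_num) num_he)); (exact hn (row h hd hL hr ho (NotCT.Orders.ru h0) (by norm_num) num_ru));
     (exact hn (row h hd hL hr ho (NotCT.Orders.on h0) (by norm_num) num_on)); (exact hn (row h hd hL hr ho (NotCT.Orders.ly h0) (by norm_num) num_ly));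
     (exact hn (row h hd hL hr ho (NotCT.Orders.fi22 h0) (by norm_num) num_fi22));
     (exact hn (row h hd hL hr ho (NotCT.Orders.fi23 h0) (by norm_num) num_fi23));
     (exact hn (row h hd hL hr ho (NotCT.Orders.fi24 h0) (by norm_num) num_fi24)); (exact hn (row h hd hL hr ho (NotCT.Orders.hn h0) (by norm_num) num_hn));
     (exact hn (row h hd hL hr ho (NotCT.Orders.th h0) (by norm_num) num_th)); (exact hn (row h hd hL hr ho (NotCT.Orders.b h0) (by norm_num) num_b));
     (exact hn (row h hd hL hr ho (NotCT.Orders.m h0) (by norm_num) num_m))]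
  · exact hn (row h hd hL hr (H489.card_out_tits hS) (NotCT.Orders.tits hS) (by norm_num) num_tits)

end Cfsg.Agent.H60.HerSpor
end
end

-- part: H658/TwoSixCore
section
prune_inst 0x401100000596200000000001012000020100000000000000098800542010ed2400002080078001c02002000000001000000100000000000002000000040040000002a000010000104000000801886000000000000000000000000000000041000000000000
set_option linter.all false
open scoped Cfsg.Agent.FastGrp

/-!
# Hering's theorem: `|V| = 64` (helper658)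
-/

set_option autoImplicit false

namespace Cfsg.Agent.H658.TwoSix

open Cfsg.Agent.H50.Her Cfsg.Agent.H658.HerGen

universe u v w

variable {b : ℕ} {L : Type u} {V : Type v} {S : Type w} [Group L] [AddCommGroup V] [Module (ZMod 2) V]
    [Group S] {π : L →* S} {ρ : L →* (V ≃ₗ[ZMod 2] V)} (h : Cfg 2 6 b L V S π ρ)

include h

theorem card_V : Nat.card V = 64 := by rw [h.card_V]; norm_num

theorem b_cases : b = 1 ∨ b = 2 ∨ b = 3 := by
  have h1 := h.b_dvd
  have h2 := h.b_lt
  have h3 := h.b_pos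
  interval_cases b <;> simp_all

/-- the order of a fixed space -/
theorem exists_pow_Fx {g : L} (hg : g ≠ 1) : ∃ k, k < 6 ∧ Nat.card (Fx ρ g) = 2 ^ k := by
  have := h.finV
  have := Fact.mk Nat.prime_two
  obtain ⟨k, -, h1, h2⟩ := exists_pow h.card_V (Fx ρ g)
  exact ⟨k, h2 fun h3 => hg (Fx_eq_top h.inj h3), h1⟩

/-- elements of order 5 -/
theorem card_Fx_five {g : L} (hg : g ^ 5 = 1) (h1 : g ≠ 1) : Nat.card (Fx ρ g) = 4 := by
  have := h.finV
  have := Fact.mk (show Nat.Prime 5 by norm_num)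
  have h2 := modEq_top (ρ := ρ) hg
  obtain ⟨k, hk, h3⟩ := exists_pow_Fx h h1
  rw [card_V h, h3] at h2
  rw [h3]
  interval_cases k <;> revert h2 <;> decide

theorem exists_ne_zero : ∃ v : V, v ≠ 0 := by
  have : Nontrivial V := by
    have := h.finV
    exact Finite.one_lt_card_iff_nontrivial.1 (by rw [card_V h]; norm_num)
  exact exists_ne 0

/-- if 5 divides the order then `b ≠ 3` and the length of the orbits is divisible by 21 -/
theorem five (hh : Half ρ) (h5 : 5 ∣ Nat.card L) :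
    b ≠ 3 ∧ ∃ m, 21 ∣ m ∧ ∀ v : V, v ≠ 0 → m * Nat.card {g : L // ρ g v = v} = Nat.card L := by
  have := h.finV
  have := h.finL
  have hp5 : Nat.Prime 5 := by norm_num
  have := Fact.mk hp5
  obtain ⟨g, hg⟩ := exists_prime_orderOf_dvd_card' 5 h5
  have hg5 : g ^ 5 = 1 := by rw [← hg]; exact pow_orderOf_eq_one g
  have hg1 : g ≠ 1 := by
    rintro rfl
    rw [orderOf_one] at hg
    omega
  have h4 := card_Fx_five h hg5 hg1
  refine ⟨?_, ?_⟩
  · rintro rfl
    have h6 := dvd_card_Fx h g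
    rw [h4] at h6
    revert h6
    decide
  · obtain ⟨m, k, h6, h7, h8⟩ := exists_orbits hh (exists_ne_zero h)
    refine ⟨m, ?_, h6⟩
    have h9 := h8 5 g hp5 hg5
    rw [h4] at h9
    rw [card_V h] at h7
    have h10 : m ∣ 63 := ⟨k, by rw [mul_comm]; omega⟩
    have h11 : m ∈ Nat.divisors 63 := by rw [Nat.mem_divisors]; exact ⟨h10, by norm_num⟩
    have h12 : Nat.divisors 63 = {1, 3, 7, 9, 21, 63} := by decide
    rw [h12] at h11
    simp only [Finset.mem_insert, Finset.mem_singleton] at h11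
    rcases h11 with rfl | rfl | rfl | rfl | rfl | rfl <;> omega

/-- no four-group commutes with an element of order 5 -/
theorem klein {g s t : L} (hg : g ^ 5 = 1) (hg1 : g ≠ 1) (hs : s ^ 2 = 1) (hs1 : s ≠ 1) (ht : t ^ 2 = 1)
    (ht1 : t ≠ 1) (hst : s * t = t * s) (hne : s ≠ t) (hgs : g * s = s * g) (hgt : g * t = t * g) : False := by
  have := h.finV
  have := Fact.mk Nat.prime_two
  have hp5 : Nat.Prime 5 := by norm_num
  have := Fact.mk hp5
  have h4 := card_Fx_five h hg hg1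
  -- an involution commuting with `g` is not trivial on the fixed points of `g`
  have key : ∀ x : L, x ^ 2 = 1 → x ≠ 1 → g * x = x * g → ¬ Fx ρ g ≤ Fx ρ x := by
    intro x hx hx1 hgx hle
    have h5 : Nat.card (Fx ρ x) ≡ Nat.card ↥(Fx ρ x ⊓ Fx ρ g) [MOD 5] := by
      apply modEq hg
      intro v hv
      rw [mem_Fx] at hv ⊢
      have : (ρ x * ρ g) v = ρ g v := by
        rw [← map_mul, ← hgx, map_mul]
        change ρ g (ρ x v) = _
        rw [hv]
      exact this
    rw [inf_eq_right.2 hle, h4] at h5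
    obtain ⟨k, hk, h6⟩ := exists_pow_Fx h hx1
    -- the order of the fixed space of an involution
    have h7 : Nat.card V ≤ Nat.card (Fx ρ x) * Nat.card (Fx ρ x) := by
      let f : V →ₗ[ZMod 2] V := (ρ x : V →ₗ[ZMod 2] V) - LinearMap.id
      have h8 : LinearMap.range f ≤ Fx ρ x := by
        rintro _ ⟨v, rfl⟩
        rw [mem_Fx]
        change ρ x (ρ x v - v) = ρ x v - v
        have h9 : ρ x (ρ x v) = v := by
          have : (ρ x * ρ x) v = v := by rw [← map_mul, ← sq, hx, map_one]; rfl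
          exact this
        rw [map_sub, h9]
        have h10 : (2 : ZMod 2) • (v - ρ x v) = 0 := by
          rw [show (2 : ZMod 2) = 0 from rfl, zero_smul]
        rw [two_smul] at h10
        have h11 := eq_neg_of_add_eq_zero_left h10
        rw [h11]
        abel
      have h9 : LinearMap.ker f ≤ Fx ρ x := by
        intro v hv
        rw [LinearMap.mem_ker] at hv
        exact sub_eq_zero.1 hv
      have h10 : Nat.card V = Nat.card (LinearMap.range f) * Nat.card (LinearMap.ker f) := by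
        have h12 := Submodule.card_eq_card_quotient_mul_card (LinearMap.ker f)
        rw [h12, mul_comm, Nat.card_congr f.quotKerEquivRange.toEquiv]
      rw [h10]
      have hc : ∀ (A B : Submodule (ZMod 2) V), A ≤ B → Nat.card A ≤ Nat.card B := by
        intro A B hAB
        exact Nat.card_le_card_of_injective (Submodule.inclusion hAB) (Submodule.inclusion_injective hAB)
      exact Nat.mul_le_mul (hc _ _ h8) (hc _ _ h9)
    rw [card_V h, h6] at h7
    rw [h6] at h5
    interval_cases k <;> revert h5 h7 <;> decide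
  -- the fixed points of the involutions on `Fx g`
  have hinv : ∀ x : L, g * x = x * g → ∀ v ∈ Fx ρ g, ρ x v ∈ Fx ρ g := by
    intro x hgx v hv
    rw [mem_Fx] at hv ⊢
    have : (ρ g * ρ x) v = ρ x v := by
      rw [← map_mul, hgx, map_mul]
      change ρ x (ρ g v) = _
      rw [hv]
    exact this
  have hcard : ∀ x : L, x ^ 2 = 1 → x ≠ 1 → g * x = x * g → Nat.card ↥(Fx ρ g ⊓ Fx ρ x) = 2 := by
    intro x hx hx1 hgx
    have h5 : Nat.card (Fx ρ g) ≡ Nat.card ↥(Fx ρ g ⊓ Fx ρ x) [MOD 2] := modEq hx _ (hinv x hgx)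
    obtain ⟨k, -, h6, -⟩ := exists_pow h.card_V (Fx ρ g ⊓ Fx ρ x)
    have h7 : Nat.card ↥(Fx ρ g ⊓ Fx ρ x) < 4 := by
      have h8 : Nat.card ↥(Fx ρ g ⊓ Fx ρ x) ≤ Nat.card (Fx ρ g) :=
        Nat.card_le_card_of_injective (Submodule.inclusion inf_le_left) (Submodule.inclusion_injective inf_le_left)
      rw [h4] at h8
      rcases h8.lt_or_eq with h9 | h9
      · exact h9
      · exfalso
        apply key x hx hx1 hgx
        have h10 : Fx ρ g ⊓ Fx ρ x = Fx ρ g := by
          apply SetLike.coe_injective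
          apply Set.eq_of_subset_of_ncard_le (fun v hv => hv.1)
          · rw [← Nat.card_coe_set_eq, ← Nat.card_coe_set_eq]
            exact (h4.trans h9.symm).le
        exact inf_eq_left.1 h10
    rw [h6] at h5 h7 ⊢
    rw [h4] at h5
    have h8 : k < 2 := by
      by_contra hk
      have : 2 ^ 2 ≤ 2 ^ k := Nat.pow_le_pow_right (by norm_num) (by omega)
      omega
    have h9 : k = 1 := by
      interval_cases k
      · exact absurd h5 (by decide)
      · rfl
    rw [h9, pow_one]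
  have hs2 := hcard s hs hs1 hgs
  have ht2 := hcard t ht ht1 hgt
  -- the nonzero vector fixed by `s` and `g`
  have hnt : ∃ w ∈ Fx ρ g ⊓ Fx ρ s, w ≠ 0 := by
    have : Nontrivial ↥(Fx ρ g ⊓ Fx ρ s) := Finite.one_lt_card_iff_nontrivial.1 (by rw [hs2]; norm_num)
    obtain ⟨w, hw⟩ := exists_ne (0 : ↥(Fx ρ g ⊓ Fx ρ s))
    exact ⟨w, w.2, fun h6 => hw (Subtype.ext h6)⟩
  obtain ⟨w, hw, hw0⟩ := hnt
  have huniq : ∀ (W : Submodule (ZMod 2) V), Nat.card W = 2 → ∀ a ∈ W, ∀ c ∈ W, a ≠ 0 → c ≠ 0 → a = c := by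
    intro W hW a ha c hc ha0 hc0
    obtain ⟨x, hx, hx2⟩ := (Nat.card_eq_two_iff' (0 : W)).1 hW
    have n1 : (⟨a, ha⟩ : W) ≠ 0 := fun h6 => ha0 (congrArg Subtype.val h6)
    have n2 : (⟨c, hc⟩ : W) ≠ 0 := fun h6 => hc0 (congrArg Subtype.val h6)
    exact congrArg Subtype.val ((hx2 _ n1).trans (hx2 _ n2).symm)
  have hdouble : ∀ v : V, v + v = 0 := by
    intro v
    have h10 : (2 : ZMod 2) • v = 0 := by
      rw [show (2 : ZMod 2) = 0 from rfl, zero_smul]
    rwa [two_smul] at h10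
  have htw : ρ t w = w := by
    apply huniq _ hs2 _ _ _ hw
    · intro h6
      exact hw0 ((ρ t).map_eq_zero_iff.1 h6)
    · exact hw0
    · refine ⟨hinv t hgt _ hw.1, ?_⟩
      have h6 : ρ s w = w := hw.2
      have : (ρ s * ρ t) w = ρ t w := by
        rw [← map_mul, hst, map_mul]
        change ρ t (ρ s w) = _
        rw [h6]
      exact this
  have hwt : w ∈ Fx ρ g ⊓ Fx ρ t := ⟨hw.1, htw⟩
  -- `x v = v` or `x v = v + w`
  have hact : ∀ x : L, x ^ 2 = 1 → x ≠ 1 → g * x = x * g → w ∈ Fx ρ g ⊓ Fx ρ x → ∀ v ∈ Fx ρ g, v ∉ Fx ρ x →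
      ρ x v = v + w := by
    intro x hx hx1 hgx hwx v hv hvx
    have h6 : ρ x v + v ∈ Fx ρ g ⊓ Fx ρ x := by
      refine ⟨add_mem (hinv x hgx v hv) hv, ?_⟩
      change ρ x (ρ x v + v) = ρ x v + v
      have h9 : ρ x (ρ x v) = v := by
        have : (ρ x * ρ x) v = v := by rw [← map_mul, ← sq, hx, map_one]; rfl
        exact this
      rw [map_add, h9, add_comm]
    have h7 : ρ x v + v ≠ 0 := by
      intro h8
      apply hvx
      have h9 := hdouble v
      exact add_right_cancel (h8.trans h9.symm)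
    have h8 := huniq _ (hcard x hx hx1 hgx) _ h6 _ hwx h7 hw0
    rw [← h8, add_comm (ρ x v) v, ← add_assoc, hdouble, zero_add]
  -- `s t` is trivial on `Fx g`
  have hst1 : s * t ≠ 1 := by
    intro h6
    apply hne
    rw [mul_eq_one_iff_eq_inv] at h6
    rw [h6]
    exact inv_eq_of_mul_eq_one_left (by rw [← sq, ht])
  have hss : s * s = 1 := by rw [← sq, hs]
  have htt : t * t = 1 := by rw [← sq, ht]
  refine key (s * t) ?_ hst1 (by rw [← mul_assoc, hgs, mul_assoc, hgt, ← mul_assoc]) ?_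
  · rw [sq]
    calc s * t * (s * t) = s * (t * s) * t := by group
      _ = s * (s * t) * t := by rw [hst]
      _ = (s * s) * (t * t) := by group
      _ = 1 := by rw [hss, htt, one_mul]
  intro v hv
  change ρ (s * t) v = v
  rw [map_mul]
  change ρ s (ρ t v) = v
  by_cases h6 : v ∈ Fx ρ s
  · have h7 : v ∈ Fx ρ t := by
      by_cases h8 : v = 0
      · rw [h8]; exact zero_mem _
      · rw [huniq _ hs2 v ⟨hv, h6⟩ w hw h8 hw0]; exact htw
    have h8 : ρ t v = v := h7
    rw [h8]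
    exact h6
  · have h7 : v ∉ Fx ρ t := by
      intro h7
      apply h6
      by_cases h8 : v = 0
      · rw [h8]; exact zero_mem _
      · rw [huniq _ ht2 v ⟨hv, h7⟩ w hwt h8 hw0]; exact hw.2
    have h8 : ρ s w = w := hw.2
    rw [hact t ht ht1 hgt hwt v hv h7, map_add, hact s hs hs1 hgs hw v hv h6, h8, add_assoc, hdouble, add_zero]

omit h in
theorem card_Fx_conj (g x : L) : Nat.card (Fx ρ (x * g * x⁻¹)) = Nat.card (Fx ρ g) := by
  refine Nat.card_congr ⟨fun v => ⟨ρ x⁻¹ v, ?_⟩, fun v => ⟨ρ x v, ?_⟩, ?_, ?_⟩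
  · have h1 : ρ (x * g * x⁻¹) v = v := v.2
    rw [mem_Fx]
    change (ρ g * ρ x⁻¹) v = ρ x⁻¹ v
    rw [← map_mul, show g * x⁻¹ = x⁻¹ * (x * g * x⁻¹) by group, map_mul]
    change ρ x⁻¹ (ρ (x * g * x⁻¹) v) = _
    rw [h1]
  · have h1 : ρ g v = v := v.2
    rw [mem_Fx]
    change (ρ (x * g * x⁻¹) * ρ x) v = ρ x v
    rw [← map_mul, show x * g * x⁻¹ * x = x * g by group, map_mul]
    change ρ x (ρ g v) = _
    rw [h1]
  · intro v
    apply Subtype.ext
    change (ρ x * ρ x⁻¹) v = v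
    rw [← map_mul, mul_inv_cancel, map_one]; rfl
  · intro v
    apply Subtype.ext
    change (ρ x⁻¹ * ρ x) v = v
    rw [← map_mul, inv_mul_cancel, map_one]; rfl

omit h in
theorem add_self' (v : V) : v + v = 0 := by
  have h10 : (2 : ZMod 2) • v = 0 := by
    rw [show (2 : ZMod 2) = 0 from rfl, zero_smul]
  rwa [two_smul] at h10

omit h in
theorem Fx_inv (g : L) : Fx ρ g⁻¹ = Fx ρ g := by
  ext v
  rw [mem_Fx, mem_Fx]
  constructor
  · intro h1
    conv_lhs => rw [← h1]
    change (ρ g * ρ g⁻¹) v = v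
    rw [← map_mul, mul_inv_cancel, map_one]; rfl
  · intro h1
    conv_lhs => rw [← h1]
    change (ρ g⁻¹ * ρ g) v = v
    rw [← map_mul, inv_mul_cancel, map_one]; rfl

omit h in
/-- the projection on the fixed space of an element of order 3 -/
theorem three_mem {g : L} (hg : g ^ 3 = 1) (v : V) : v + ρ g v + ρ g (ρ g v) ∈ Fx ρ g := by
  rw [mem_Fx, map_add, map_add]
  have h1 : ρ g (ρ g (ρ g v)) = v := by
    have : (ρ g * ρ g * ρ g) v = v := by
      rw [← map_mul, ← map_mul, show g * g * g = g ^ 3 from (pow_three' g).symm, hg, map_one]; rfl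
    exact this
  rw [h1]
  abel

/-- no noncyclic group of order 9 acting freely, with conjugate subgroups -/
theorem no_nine {A B X : L} (hA : A ^ 3 = 1) (hB : B ^ 3 = 1) (hAB : A * B = B * A)
    (hXA : X * A * X⁻¹ = B⁻¹) (hXB : X * B * X⁻¹ = A) (hn : Fx ρ A ⊓ Fx ρ B = ⊥) : False := by
  have hV := h.finV
  have hA' : ∀ v, ρ A (ρ A (ρ A v)) = v := by
    intro v
    have : (ρ A * ρ A * ρ A) v = v := by
      rw [← map_mul, ← map_mul, show A * A * A = A ^ 3 from (pow_three' A).symm, hA, map_one]; rfl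
    exact this
  have hB' : ∀ v, ρ B (ρ B (ρ B v)) = v := by
    intro v
    have : (ρ B * ρ B * ρ B) v = v := by
      rw [← map_mul, ← map_mul, show B * B * B = B ^ 3 from (pow_three' B).symm, hB, map_one]; rfl
    exact this
  have hBi : B⁻¹ = B * B := by
    rw [inv_eq_iff_mul_eq_one, show B * (B * B) = B ^ 3 from (pow_three B).symm, hB]
  have hcomm : ∀ v, ρ B (ρ A v) = ρ A (ρ B v) := by
    intro v
    have : (ρ B * ρ A) v = (ρ A * ρ B) v := by rw [← map_mul, ← map_mul, hAB]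
    exact this
  let G : Fin 4 → L := ![A, B, A * B, A * B⁻¹]
  have hG3 : ∀ i, G i ^ 3 = 1 := by
    have hc : Commute A B := hAB
    intro i
    fin_cases i
    · exact hA
    · exact hB
    · change (A * B) ^ 3 = 1
      rw [hc.mul_pow, hA, hB, one_mul]
    · change (A * B⁻¹) ^ 3 = 1
      rw [hc.inv_right.mul_pow, hA, inv_pow, hB, inv_one, one_mul]
  have h0 : ∀ v, ρ A v = v → ρ B v = v → v = 0 := by
    intro v h1 h2
    have : v ∈ Fx ρ A ⊓ Fx ρ B := ⟨h1, h2⟩
    rw [hn, Submodule.mem_bot] at this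
    exact this
  have hGA : G 0 = A := rfl
  -- two different members fix only zero
  have hij : ∀ i j, i ≠ j → ∀ v, ρ (G i) v = v → ρ (G j) v = v → v = 0 := by
    have hfix : ∀ (v : V) (x y : L), ρ x v = v → ρ y v = v → ρ (x * y) v = v := by
      intro v x y h1 h2
      rw [map_mul]
      change ρ x (ρ y v) = v
      rw [h2, h1]
    have hinv : ∀ (v : V) (x : L), ρ x v = v → ρ x⁻¹ v = v := by
      intro v x h1
      have h2 : v ∈ Fx ρ x⁻¹ := by rw [Fx_inv]; exact h1
      exact h2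
    have hAof : ∀ v, ρ A v = v → ρ (A * B) v = v → v = 0 := by
      intro v h1 h2
      apply h0 v h1
      have := hfix v _ _ (hinv v _ h1) h2
      rwa [inv_mul_cancel_left] at this
    have hAof' : ∀ v, ρ A v = v → ρ (A * B⁻¹) v = v → v = 0 := by
      intro v h1 h2
      apply h0 v h1
      have := hinv _ _ (hfix v _ _ (hinv v _ h1) h2)
      rwa [inv_mul_cancel_left, inv_inv] at this
    have hBof : ∀ v, ρ B v = v → ρ (A * B) v = v → v = 0 := by
      intro v h1 h2
      refine h0 v ?_ h1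
      have := hfix v _ _ h2 (hinv v _ h1)
      rwa [mul_inv_cancel_right] at this
    have hBof' : ∀ v, ρ B v = v → ρ (A * B⁻¹) v = v → v = 0 := by
      intro v h1 h2
      refine h0 v ?_ h1
      have := hfix v _ _ h2 h1
      rwa [inv_mul_cancel_right] at this
    have hlast : ∀ v, ρ (A * B) v = v → ρ (A * B⁻¹) v = v → v = 0 := by
      intro v h1 h2
      have h3 := hfix v _ _ h1 h2
      have h4 : A * B * (A * B⁻¹) = A * A := by
        rw [mul_assoc, ← mul_assoc B A, ← hAB, mul_assoc A B, mul_inv_cancel, mul_one]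
      rw [h4] at h3
      have h5 := hfix v _ _ h3 h3
      have h6 : A * A * (A * A) = A := by
        rw [← mul_assoc, ← pow_three', hA, one_mul]
      rw [h6] at h5
      exact hAof v h5 h1
    intro i j hne v h1 h2
    fin_cases i <;> fin_cases j
    · exact absurd rfl hne
    · exact h0 v h1 h2
    · exact hAof v h1 h2
    · exact hAof' v h1 h2
    · exact h0 v h2 h1
    · exact absurd rfl hne
    · exact hBof v h1 h2
    · exact hBof' v h1 h2
    · exact hAof v h2 h1
    · exact hBof v h2 h1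
    · exact absurd rfl hne
    · exact hlast v h1 h2
    · exact hAof' v h2 h1
    · exact hBof' v h2 h1
    · exact hlast v h2 h1
    · exact absurd rfl hne
  have hGcomm : ∀ i j, G i * G j = G j * G i := by
    have hc : Commute A B := hAB
    have c1 : ∀ i, Commute A (G i) := by
      intro i
      fin_cases i
      · exact Commute.refl A
      · exact hc
      · exact (Commute.refl A).mul_right hc
      · exact (Commute.refl A).mul_right hc.inv_right
    have c2 : ∀ i, Commute B (G i) := by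
      intro i
      fin_cases i
      · exact hc.symm
      · exact Commute.refl B
      · exact hc.symm.mul_right (Commute.refl B)
      · exact hc.symm.mul_right (Commute.refl B).inv_right
    intro i j
    fin_cases i
    · exact c1 j
    · exact c2 j
    · exact (c1 j).mul_left (c2 j)
    · exact (c1 j).mul_left (c2 j).inv_left
  have hprod := card_eq_prod (fun i => Fx ρ (G i)) (fun i v => v + ρ (G i) v + ρ (G i) (ρ (G i) v))
    (fun i v => three_mem (hG3 i) v)
    (fun i v hv => by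
      have h1 : ρ (G i) v = v := hv
      change v + ρ (G i) v + ρ (G i) (ρ (G i) v) = v
      rw [h1, h1, add_assoc, add_self', add_zero])
    (fun i j hne v hv => by
      apply hij i j hne _ (three_mem (hG3 i) v)
      have h1 : ρ (G j) v = v := hv
      have h2 : ∀ w, ρ (G j) (ρ (G i) w) = ρ (G i) (ρ (G j) w) := by
        intro w
        have : (ρ (G j) * ρ (G i)) w = (ρ (G i) * ρ (G j)) w := by rw [← map_mul, ← map_mul, hGcomm]
        exact this
      rw [map_add, map_add, h2, h2, h2, h1])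
    (fun v => by
      have e2 : ∀ w, ρ (G 2) w = ρ A (ρ B w) := by
        intro w
        change ρ (A * B) w = _
        rw [map_mul]; rfl
      have e3 : ∀ w, ρ (G 3) w = ρ A (ρ B (ρ B w)) := by
        intro w
        change ρ (A * B⁻¹) w = _
        rw [hBi, map_mul, map_mul]; rfl
      have hN : ∀ w : V, w + ρ A w + ρ A (ρ A w) + ρ B (w + ρ A w + ρ A (ρ A w)) +
          ρ B (ρ B (w + ρ A w + ρ A (ρ A w))) = 0 := by
        intro w
        apply h0
        · have h3 := three_mem (ρ := ρ) hA w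
          rw [mem_Fx] at h3
          rw [map_add, map_add, ← hcomm, ← hcomm, ← hcomm, h3]
        · have h3 := three_mem (ρ := ρ) hB (w + ρ A w + ρ A (ρ A w))
          exact h3
      rw [Fin.sum_univ_four, e2, e2, e3, e3]
      change (v + ρ A v + ρ A (ρ A v)) + (v + ρ B v + ρ B (ρ B v)) + (v + ρ A (ρ B v) + ρ A (ρ B (ρ A (ρ B v)))) +
        (v + ρ A (ρ B (ρ B v)) + ρ A (ρ B (ρ B (ρ A (ρ B (ρ B v)))))) = v
      have h4 := hN v
      simp only [map_add, hcomm, hB'] at h4 ⊢
      have h5 : v + ρ A v + ρ A (ρ A v) + (v + ρ B v + ρ B (ρ B v)) + (v + ρ A (ρ B v) + ρ A (ρ A (ρ B (ρ B v)))) +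
          (v + ρ A (ρ B (ρ B v)) + ρ A (ρ A (ρ B v))) =
          (v + v) + v + (v + ρ A v + ρ A (ρ A v) + (ρ B v + ρ A (ρ B v) + ρ A (ρ A (ρ B v))) +
            (ρ B (ρ B v) + ρ A (ρ B (ρ B v)) + ρ A (ρ A (ρ B (ρ B v))))) := by abel
      rw [h5, h4, add_self', zero_add, add_zero])
    (fun i v w => by
      simp only [map_add]
      abel)
  rw [Fin.prod_univ_four, card_V h] at hprod
  have c01 : Nat.card (Fx ρ (G 1)) = Nat.card (Fx ρ (G 0)) := by
    change Nat.card (Fx ρ B) = Nat.card (Fx ρ A)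
    rw [← Fx_inv B, ← hXA, card_Fx_conj]
  have c23 : Nat.card (Fx ρ (G 3)) = Nat.card (Fx ρ (G 2)) := by
    change Nat.card (Fx ρ (A * B⁻¹)) = Nat.card (Fx ρ (A * B))
    have h1 : A * B⁻¹ = X * (A * B) * X⁻¹ := by
      have h2 : X * (A * B) * X⁻¹ = (X * A * X⁻¹) * (X * B * X⁻¹) := by group
      rw [h2, hXA, hXB]
      exact (show Commute A B from hAB).inv_right
    rw [h1, card_Fx_conj]
  rw [c01, c23] at hprod
  have := Fact.mk Nat.prime_two
  have := Fact.mk Nat.prime_three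
  obtain ⟨k, -, hk, -⟩ := exists_pow h.card_V (Fx ρ (G 0))
  obtain ⟨l, -, hl, -⟩ := exists_pow h.card_V (Fx ρ (G 2))
  have h3 := modEq_top (ρ := ρ) (hG3 0)
  have h4 := modEq_top (ρ := ρ) (hG3 2)
  change Nat.card (Fx ρ (G 0)) = 2 ^ k at hk
  rw [card_V h, hk] at h3
  rw [card_V h, hl] at h4
  rw [hk, hl] at hprod
  have h5 : 2 ^ (2 * k + 2 * l) = 2 ^ 6 := by
    rw [show (2 : ℕ) ^ 6 = 64 by norm_num, hprod]
    ring
  have h6 := Nat.pow_right_injective le_rfl h5
  have hk3 : k ≤ 3 := by omega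
  have hl3 : l = 3 - k := by omega
  subst hl3
  interval_cases k <;> revert h3 h4 <;> decide

/-- `b = 2`: an element of order 3 which is real does not commute with an involution -/
theorem no_real (hb : b = 2) {t a x : L} (ht : t ^ 2 = 1) (ht1 : t ≠ 1) (ha : a ^ 3 = 1) (ha1 : a ≠ 1)
    (hta : t * a = a * t) (hx : x * a * x⁻¹ = a⁻¹) : False := by
  classical
  have hV := h.finV
  have hfe : Finite (V ≃ₗ[ZMod 2] V) := DFunLike.finite _
  have := Fact.mk Nat.prime_two
  have := Fact.mk Nat.prime_three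
  have := Fintype.ofFinite (Cen ρ)
  have hC : Nat.card (Cen ρ) = 3 := by
    have := card_Cen h
    rw [hb] at this
    omega
  have hcyc : IsCyclic (Cen ρ) := isCyclic_of_prime_card hC
  have hcc : ∀ c e : Cen ρ, c * e = e * c := fun c e => (IsCyclic.commGroup (α := Cen ρ)).mul_comm c e
  have hc3 : ∀ c : Cen ρ, c ^ 3 = 1 := fun c => by rw [← hC]; exact pow_card_eq_one'
  have hc3' : ∀ (c : Cen ρ) (v : V), c.1 (c.1 (c.1 v)) = v := by
    intro c v
    have h1 := congrArg (fun y : Cen ρ => y.1 v) (hc3 c)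
    exact h1
  have ha3 : ∀ v, ρ a (ρ a (ρ a v)) = v := by
    intro v
    have : (ρ a * ρ a * ρ a) v = v := by
      rw [← map_mul, ← map_mul, show a * a * a = a ^ 3 from (pow_three' a).symm, ha, map_one]; rfl
    exact this
  -- `1 + c + c ^ 2 = 0`
  have hsum3 : ∀ (c : Cen ρ), c ≠ 1 → ∀ v, v + c.1 v + c.1 (c.1 v) = 0 := by
    intro c hc v
    by_contra h1
    apply hc
    apply Subtype.ext
    apply Cen_free h c.2 h1
    rw [map_add, map_add, hc3']
    abel
  obtain ⟨f, hf⟩ : ∃ f : Cen ρ, f ≠ 1 := by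
    have : Nontrivial (Cen ρ) := Finite.one_lt_card_iff_nontrivial.1 (by rw [hC]; norm_num)
    exact exists_ne 1
  have hff : f * f ≠ 1 := by
    intro h1
    apply hf
    have h2 := hc3 f
    rw [pow_three', h1, one_mul] at h2
    exact h2
  have hff' : f ≠ f * f := by
    intro h1
    exact hf (left_eq_mul.1 h1)
  have huniv : (Finset.univ : Finset (Cen ρ)) = {1, f, f * f} := by
    symm
    apply Finset.eq_univ_of_card
    rw [← Nat.card_eq_fintype_card, hC, Finset.card_insert_of_notMem, Finset.card_insert_of_notMem,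
      Finset.card_singleton]
    · rw [Finset.mem_singleton]; exact hff'
    · rw [Finset.mem_insert, Finset.mem_singleton]
      rintro (h1 | h1)
      · exact hf h1.symm
      · exact hff h1.symm
  have hsplit : ∀ {M : Type v} [AddCommMonoid M] (F : Cen ρ → M), ∑ c, F c = F 1 + F f + F (f * f) := by
    intro M _ F
    rw [huniv, Finset.sum_insert, Finset.sum_insert, Finset.sum_singleton, add_assoc]
    · rw [Finset.mem_singleton]; exact hff'
    · rw [Finset.mem_insert, Finset.mem_singleton]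
      rintro (h1 | h1)
      · exact hf h1.symm
      · exact hff h1.symm
  have hsplitp : ∀ (F : Cen ρ → ℕ), ∏ c, F c = F 1 * F f * F (f * f) := by
    intro F
    rw [huniv, Finset.prod_insert, Finset.prod_insert, Finset.prod_singleton, mul_assoc]
    · rw [Finset.mem_singleton]; exact hff'
    · rw [Finset.mem_insert, Finset.mem_singleton]
      rintro (h1 | h1)
      · exact hf h1.symm
      · exact hff h1.symm
  let E : Cen ρ → Submodule (ZMod 2) V := fun c =>
    { carrier := {v | ρ a v = c.1 v}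
      add_mem' := by
        intro v w hv hw
        change ρ a (v + w) = c.1 (v + w)
        rw [map_add, map_add]
        exact congrArg₂ _ hv hw
      zero_mem' := by
        change ρ a 0 = c.1 0
        rw [map_zero, map_zero]
      smul_mem' := by
        intro r v hv
        change ρ a (r • v) = c.1 (r • v)
        rw [map_smul, map_smul]
        exact congrArg _ hv }
  have hE : ∀ c v, v ∈ E c ↔ ρ a v = c.1 v := fun c v => Iff.rfl
  -- the element `c⁻¹ = c c`
  have hprod := card_eq_prod E (fun c v => v + c.1 (c.1 (ρ a v)) + c.1 (ρ a (ρ a v)))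
    (fun c v => by
      rw [hE, map_add, map_add, map_add, map_add, hc3', ← c.2, ← c.2, ← c.2, ha3]
      abel)
    (fun c v hv => by
      have h1 : ρ a v = c.1 v := hv
      change v + c.1 (c.1 (ρ a v)) + c.1 (ρ a (ρ a v)) = v
      rw [h1, hc3', ← c.2, h1, hc3', add_assoc, add_self', add_zero])
    (fun c c' hne v hv => by
      have h1 : ρ a v = c'.1 v := hv
      change v + c.1 (c.1 (ρ a v)) + c.1 (ρ a (ρ a v)) = 0
      have h2 : c * c * c' ≠ 1 := by
        intro h3
        apply hne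
        have h4 : c * (c * c * c') = c := by rw [h3, mul_one]
        rw [← mul_assoc, ← mul_assoc, ← pow_three', hc3, one_mul] at h4
        exact h4.symm
      have h3 := hsum3 _ h2 v
      have h4 : c.1 (c.1 (ρ a v)) = (c * c * c').1 v := by rw [h1]; rfl
      have h5 : c.1 (ρ a (ρ a v)) = (c * c * c').1 ((c * c * c').1 v) := by
        rw [h1, ← c'.2, h1]
        change (c * c' * c').1 v = (c * c * c' * (c * c * c')).1 v
        congr 2
        calc c * c' * c' = c ^ 3 * (c * c' * c') := by rw [hc3, one_mul]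
          _ = c * c * (c * c * c') * c' := by
            rw [pow_three']
            simp only [mul_assoc]
          _ = c * c * c' * (c * c * c') := by
            rw [mul_assoc (c * c), hcc (c * c * c') c']
            simp only [mul_assoc]
      rw [h4, h5]
      exact h3)
    (fun v => by
      rw [hsplit]
      change v + ρ a v + ρ a (ρ a v) + (v + f.1 (f.1 (ρ a v)) + f.1 (ρ a (ρ a v))) +
        (v + f.1 (f.1 (f.1 (f.1 (ρ a v)))) + f.1 (f.1 (ρ a (ρ a v)))) = v
      have h1 := hsum3 f hf (ρ a v)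
      have h2 := hsum3 f hf (ρ a (ρ a v))
      rw [hc3']
      have h3 : v + ρ a v + ρ a (ρ a v) + (v + f.1 (f.1 (ρ a v)) + f.1 (ρ a (ρ a v))) +
        (v + f.1 (ρ a v) + f.1 (f.1 (ρ a (ρ a v)))) = (v + v) + v + (ρ a v + f.1 (ρ a v) + f.1 (f.1 (ρ a v))) +
          (ρ a (ρ a v) + f.1 (ρ a (ρ a v)) + f.1 (f.1 (ρ a (ρ a v)))) := by abel
      rw [h3, h1, h2, add_self', zero_add, add_zero, add_zero])
    (fun c v w => by
      simp only [map_add]
      abel)
  rw [card_V h, hsplitp] at hprod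
  -- `E c` and `E c⁻¹` have the same order
  have hEsymm : Nat.card (E (f * f)) = Nat.card (E f) := by
    have h0 : ∀ c : Cen ρ, ∀ v, v ∈ E c → ρ x v ∈ E (c * c) := by
      intro c v hv
      rw [hE] at hv ⊢
      have h1 : ρ a (ρ x v) = ρ x (ρ (x⁻¹ * a * x) v) := by
        have : (ρ a * ρ x) v = (ρ x * ρ (x⁻¹ * a * x)) v := by
          rw [← map_mul, ← map_mul]
          congr 2
          group
        exact this
      have h2 : x⁻¹ * a * x = a⁻¹ := by
        have h3 : x * a⁻¹ * x⁻¹ = a := by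
          calc x * a⁻¹ * x⁻¹ = (x * a * x⁻¹)⁻¹ := by group
            _ = a := by rw [hx, inv_inv]
        calc x⁻¹ * a * x = x⁻¹ * (x * a⁻¹ * x⁻¹) * x := by rw [h3]
          _ = a⁻¹ := by group
      have h4 : a⁻¹ = a * a := by
        rw [inv_eq_iff_mul_eq_one, ← pow_three, ha]
      have h5 : ρ (a * a) v = c.1 (c.1 v) := by
        rw [map_mul]
        change ρ a (ρ a v) = _
        rw [hv, ← c.2, hv]
      rw [h1, h2, h4, h5, ← c.2, ← c.2]
      rfl
    have h1 : ∀ c : Cen ρ, Nat.card (E c) ≤ Nat.card (E (c * c)) := by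
      intro c
      refine Nat.card_le_card_of_injective (fun v : E c => (⟨ρ x v, h0 c v v.2⟩ : E (c * c))) ?_
      intro v w hvw
      apply Subtype.ext
      exact (ρ x).injective (congrArg Subtype.val hvw)
    apply le_antisymm
    · have h2 := h1 (f * f)
      have h3 : f * f * (f * f) = f := by
        rw [← mul_assoc, ← pow_three', hc3, one_mul]
      rwa [h3] at h2
    · exact h1 f
  rw [hEsymm] at hprod
  -- invariance
  have hEC : ∀ c : Cen ρ, ∀ e ∈ Cen ρ, ∀ v ∈ E c, e v ∈ E c := by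
    intro c e he v hv
    rw [hE] at hv ⊢
    have h1 : c.1 (e v) = e (c.1 v) := congrArg (fun y : Cen ρ => y.1 v) (hcc c ⟨e, he⟩)
    rw [h1, ← hv, he]
  have hEt : ∀ c : Cen ρ, ∀ v ∈ E c, ρ t v ∈ E c := by
    intro c v hv
    rw [hE] at hv ⊢
    have : (ρ a * ρ t) v = (ρ t * ρ a) v := by rw [← map_mul, ← map_mul, hta]
    have h1 : ρ a (ρ t v) = ρ t (ρ a v) := this
    rw [h1, hv, c.2]
  have h3' : ∀ W : Submodule (ZMod 2) V, (∀ e ∈ Cen ρ, ∀ v ∈ W, e v ∈ W) → 3 ∣ Nat.card W - 1 := by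
    intro W hW
    have := dvd_card h W hW
    rwa [hb] at this
  have hE4 : ∀ c, Nat.card (E c) = 4 := by
    have hE1 : ∃ k, k < 6 ∧ Nat.card (E 1) = 2 ^ k := by
      obtain ⟨k, hk, h1⟩ := exists_pow_Fx h ha1
      exact ⟨k, hk, h1⟩
    obtain ⟨k, hk, h1⟩ := hE1
    obtain ⟨l, -, h2, -⟩ := exists_pow h.card_V (E f)
    have h3 := h3' _ (hEC f)
    have h5 : 2 ^ (k + 2 * l) = 2 ^ 6 := by
      rw [show (2 : ℕ) ^ 6 = 64 by norm_num, hprod, h1, h2]
      ring
    have h6 := Nat.pow_right_injective le_rfl h5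
    have h7 : l = 2 := by
      have : l ≤ 3 := by omega
      rw [h2] at h3
      interval_cases l
      · omega
      · revert h3; decide
      · rfl
      · revert h3; decide
    have h8 : k = 2 := by omega
    rw [h8] at h1
    rw [h7] at h2
    intro c
    have h9 : c ∈ (Finset.univ : Finset (Cen ρ)) := Finset.mem_univ _
    rw [huniv, Finset.mem_insert, Finset.mem_insert, Finset.mem_singleton] at h9
    rcases h9 with rfl | rfl | rfl
    · exact h1
    · exact h2
    · rw [hEsymm]; exact h2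
  -- `t` is trivial on `E c`
  have hle : ∀ c, E c ≤ Fx ρ t := by
    intro c
    have h1 : Nat.card (E c) ≡ Nat.card ↥(E c ⊓ Fx ρ t) [MOD 2] := modEq ht _ (hEt c)
    have h2 := h3' (E c ⊓ Fx ρ t) (by
      intro e he v hv
      refine ⟨hEC c e he v hv.1, ?_⟩
      have h3 : ρ t v = v := hv.2
      change ρ t (e v) = e v
      rw [← he, h3])
    obtain ⟨k, -, h3, -⟩ := exists_pow h.card_V (E c ⊓ Fx ρ t)
    have h4 : Nat.card ↥(E c ⊓ Fx ρ t) ≤ Nat.card (E c) :=
      Nat.card_le_card_of_injective (Submodule.inclusion inf_le_left) (Submodule.inclusion_injective inf_le_left)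
    rw [hE4] at h1 h4
    rw [h3] at h1 h2 h4
    have h5 : k ≤ 2 := by
      by_contra hk
      have : 2 ^ 3 ≤ 2 ^ k := Nat.pow_le_pow_right (by norm_num) (by omega)
      omega
    have h6 : k = 2 := by
      interval_cases k
      · exact absurd h1 (by decide)
      · exact absurd h2 (by decide)
      · rfl
    rw [h6] at h3
    have h10 : E c ⊓ Fx ρ t = E c := by
      apply SetLike.coe_injective
      apply Set.eq_of_subset_of_ncard_le (fun v hv => hv.1)
      rw [← Nat.card_coe_set_eq, ← Nat.card_coe_set_eq]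
      exact ((hE4 c).trans h3.symm).le
    exact inf_eq_left.1 h10
  apply ht1
  apply Fx_eq_top h.inj
  rw [eq_top_iff]
  intro v _
  have h1 : v = ∑ c : Cen ρ, (v + c.1 (c.1 (ρ a v)) + c.1 (ρ a (ρ a v))) := by
    rw [hsplit]
    change v = v + ρ a v + ρ a (ρ a v) + (v + f.1 (f.1 (ρ a v)) + f.1 (ρ a (ρ a v))) +
        (v + f.1 (f.1 (f.1 (f.1 (ρ a v)))) + f.1 (f.1 (ρ a (ρ a v))))
    have h1 := hsum3 f hf (ρ a v)
    have h2 := hsum3 f hf (ρ a (ρ a v))
    rw [hc3']
    have h3 : v + ρ a v + ρ a (ρ a v) + (v + f.1 (f.1 (ρ a v)) + f.1 (ρ a (ρ a v))) +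
      (v + f.1 (ρ a v) + f.1 (f.1 (ρ a (ρ a v)))) = (v + v) + v + (ρ a v + f.1 (ρ a v) + f.1 (f.1 (ρ a v))) +
        (ρ a (ρ a v) + f.1 (ρ a (ρ a v)) + f.1 (f.1 (ρ a (ρ a v)))) := by abel
    rw [h3, h1, h2, add_self', zero_add, add_zero, add_zero]
  rw [h1]
  apply sum_mem
  intro c _
  apply hle c
  rw [hE, map_add, map_add, map_add, map_add, hc3', ← c.2, ← c.2, ← c.2, ha3]
  abel

end Cfsg.Agent.H658.TwoSix
end

-- part: H658/TwoSixAlt
section
prune_inst 0x4110001000d62000000180590310020003400009200630000d98004400907d30000030f014a001e12002022c00001000001100000021800002a00080040000000002b000080180904200000809087100000000000000000000000000000041000000000000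
set_option linter.all false
open scoped Cfsg.Agent.FastGrp

/-!
# Hering's theorem: `|V| = 64`, the alternating groups of degree 7 and 9 (helper658)
-/

set_option autoImplicit false

namespace Cfsg.Agent.H658.TwoSix

open Cfsg.Agent.H50.Her Cfsg.Agent.H658.HerGen

universe u v w

variable {b : ℕ} {L : Type u} {V : Type v} {S : Type w} [Group L] [AddCommGroup V] [Module (ZMod 2) V]
    [Group S] {π : L →* S} {ρ : L →* (V ≃ₗ[ZMod 2] V)} (h : Cfg 2 6 b L V S π ρ)

include h

theorem cop_two : (2 : ℕ).Coprime (2 ^ b - 1) := by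
  rcases b_cases h with h | h | h <;> rw [h] <;> decide

theorem cop_five : (5 : ℕ).Coprime (2 ^ b - 1) := by
  rcases b_cases h with h | h | h <;> rw [h] <;> decide

omit h in
theorem exists_nine : ∃ g s t : alternatingGroup (Fin 9), g ^ 5 = 1 ∧ g ≠ 1 ∧ s ^ 2 = 1 ∧ s ≠ 1 ∧ t ^ 2 = 1 ∧ t ≠ 1 ∧
    s * t = t * s ∧ s ≠ t ∧ g * s = s * g ∧ g * t = t * g := by
  refine ⟨⟨c[(0 : Fin 9), 1, 2, 3, 4], Equiv.Perm.mem_alternatingGroup.2 (by decide +kernel)⟩,
    ⟨c[(5 : Fin 9), 6] * c[(7 : Fin 9), 8], Equiv.Perm.mem_alternatingGroup.2 (by decide +kernel)⟩,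
    ⟨c[(5 : Fin 9), 7] * c[(6 : Fin 9), 8], Equiv.Perm.mem_alternatingGroup.2 (by decide +kernel)⟩, ?_⟩
  refine ⟨Subtype.ext ?_, fun h => ?_, Subtype.ext ?_, fun h => ?_, Subtype.ext ?_, fun h => ?_, Subtype.ext ?_,
    fun h => ?_, Subtype.ext ?_, Subtype.ext ?_⟩
  · change (c[(0 : Fin 9), 1, 2, 3, 4] : Equiv.Perm (Fin 9)) ^ 5 = 1; decide +kernel
  · replace h := congrArg Subtype.val h
    revert h
    change ¬ (c[(0 : Fin 9), 1, 2, 3, 4] : Equiv.Perm (Fin 9)) = 1; decide +kernel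
  · change (c[(5 : Fin 9), 6] * c[(7 : Fin 9), 8] : Equiv.Perm (Fin 9)) ^ 2 = 1; decide +kernel
  · replace h := congrArg Subtype.val h
    revert h
    change ¬ (c[(5 : Fin 9), 6] * c[(7 : Fin 9), 8] : Equiv.Perm (Fin 9)) = 1; decide +kernel
  · change (c[(5 : Fin 9), 7] * c[(6 : Fin 9), 8] : Equiv.Perm (Fin 9)) ^ 2 = 1; decide +kernel
  · replace h := congrArg Subtype.val h
    revert h
    change ¬ (c[(5 : Fin 9), 7] * c[(6 : Fin 9), 8] : Equiv.Perm (Fin 9)) = 1; decide +kernel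
  · change (c[(5 : Fin 9), 6] * c[(7 : Fin 9), 8] * (c[(5 : Fin 9), 7] * c[(6 : Fin 9), 8]) : Equiv.Perm (Fin 9)) = c[(5 : Fin 9), 7] * c[(6 : Fin 9), 8] * (c[(5 : Fin 9), 6] * c[(7 : Fin 9), 8])
    decide +kernel
  · replace h := congrArg Subtype.val h
    revert h
    change ¬ (c[(5 : Fin 9), 6] * c[(7 : Fin 9), 8] : Equiv.Perm (Fin 9)) = c[(5 : Fin 9), 7] * c[(6 : Fin 9), 8]; decide +kernel
  · change (c[(0 : Fin 9), 1, 2, 3, 4] * (c[(5 : Fin 9), 6] * c[(7 : Fin 9), 8]) : Equiv.Perm (Fin 9)) = (c[(5 : Fin 9), 6] * c[(7 : Fin 9), 8]) * c[(0 : Fin 9), 1, 2, 3, 4]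
    decide +kernel
  · change (c[(0 : Fin 9), 1, 2, 3, 4] * (c[(5 : Fin 9), 7] * c[(6 : Fin 9), 8]) : Equiv.Perm (Fin 9)) = (c[(5 : Fin 9), 7] * c[(6 : Fin 9), 8]) * c[(0 : Fin 9), 1, 2, 3, 4]
    decide +kernel

theorem no_alt_nine (e : S ≃* alternatingGroup (Fin 9)) : False := by
  obtain ⟨g, s, t, h1, h2, h3, h4, h5, h6, h7, h8, h9, h10⟩ := exists_nine
  have hm : ∀ x y : alternatingGroup (Fin 9), x = y ↔ e.symm x = e.symm y := fun x y => e.symm.injective.eq_iff.symm
  obtain ⟨g', hg', hg5⟩ := exists_lift h (cop_five h) (x := e.symm g) (by rw [← map_pow, h1, map_one])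
  obtain ⟨s', hs', hs2⟩ := exists_lift h (cop_two h) (x := e.symm s) (by rw [← map_pow, h3, map_one])
  obtain ⟨t', ht', ht2⟩ := exists_lift h (cop_two h) (x := e.symm t) (by rw [← map_pow, h5, map_one])
  have hne : ∀ (x : alternatingGroup (Fin 9)) (y : L), x ≠ 1 → π y = e.symm x → y ≠ 1 := by
    rintro x y hx hy rfl
    apply hx
    rw [map_one] at hy
    rw [hm, ← hy, map_one]
  refine klein h hg5 (hne g g' h2 hg') hs2 (hne s s' h4 hs') ht2 (hne t t' h6 ht') ?_ ?_ ?_ ?_
  · exact commute_of h (cop_two h) hs2 (by rw [hs', ht', ← map_mul, ← map_mul, h7])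
  · rintro rfl
    exact h8 ((hm _ _).2 (hs'.symm.trans ht'))
  · exact commute_of h (cop_five h) hg5 (by rw [hg', hs', ← map_mul, ← map_mul, h9])
  · exact commute_of h (cop_five h) hg5 (by rw [hg', ht', ← map_mul, ← map_mul, h10])

omit h in
theorem exists_seven_a : ∃ t a x : alternatingGroup (Fin 7), t ^ 2 = 1 ∧ t ≠ 1 ∧ a ^ 3 = 1 ∧ a ≠ 1 ∧
    t * a = a * t ∧ x * a * x⁻¹ = a⁻¹ := by
  refine ⟨⟨c[(0 : Fin 7), 1] * c[(2 : Fin 7), 3], Equiv.Perm.mem_alternatingGroup.2 (by decide +kernel)⟩,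
    ⟨c[(4 : Fin 7), 5, 6], Equiv.Perm.mem_alternatingGroup.2 (by decide +kernel)⟩,
    ⟨c[(4 : Fin 7), 5] * c[(0 : Fin 7), 1], Equiv.Perm.mem_alternatingGroup.2 (by decide +kernel)⟩, ?_⟩
  refine ⟨Subtype.ext ?_, fun h => ?_, Subtype.ext ?_, fun h => ?_, Subtype.ext ?_, Subtype.ext ?_⟩
  · change (c[(0 : Fin 7), 1] * c[(2 : Fin 7), 3] : Equiv.Perm (Fin 7)) ^ 2 = 1; decide +kernel
  · replace h := congrArg Subtype.val h
    revert h
    change ¬ (c[(0 : Fin 7), 1] * c[(2 : Fin 7), 3] : Equiv.Perm (Fin 7)) = 1; decide +kernel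
  · change (c[(4 : Fin 7), 5, 6] : Equiv.Perm (Fin 7)) ^ 3 = 1; decide +kernel
  · replace h := congrArg Subtype.val h
    revert h
    change ¬ (c[(4 : Fin 7), 5, 6] : Equiv.Perm (Fin 7)) = 1; decide +kernel
  · change (c[(0 : Fin 7), 1] * c[(2 : Fin 7), 3] * c[(4 : Fin 7), 5, 6] : Equiv.Perm (Fin 7)) = c[(4 : Fin 7), 5, 6] * (c[(0 : Fin 7), 1] * c[(2 : Fin 7), 3])
    decide +kernel
  · change (c[(4 : Fin 7), 5] * c[(0 : Fin 7), 1] * c[(4 : Fin 7), 5, 6] * (c[(4 : Fin 7), 5] * c[(0 : Fin 7), 1])⁻¹ : Equiv.Perm (Fin 7)) = (c[(4 : Fin 7), 5, 6])⁻¹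
    decide +kernel

omit h in
theorem perm_b : ∃ A B X : Equiv.Perm (Fin 7), (Equiv.Perm.sign A = 1 ∧ Equiv.Perm.sign B = 1 ∧ Equiv.Perm.sign X = 1) ∧
    A ^ 3 = 1 ∧ A ≠ 1 ∧ B ^ 3 = 1 ∧ B ≠ 1 ∧ A * B = B * A ∧ X * A * X⁻¹ = B⁻¹ ∧ X * B * X⁻¹ = A ∧ A ≠ B ∧
    A ≠ B * B :=
  ⟨c[(0 : Fin 7), 1, 2], c[(3 : Fin 7), 4, 5], c[(3 : Fin 7), 4] * (c[(0 : Fin 7), 3] * c[(1 : Fin 7), 4] * c[(2 : Fin 7), 5]), by decide +kernel⟩

omit h in
theorem exists_seven_b : ∃ A B X : alternatingGroup (Fin 7), A ^ 3 = 1 ∧ A ≠ 1 ∧ B ^ 3 = 1 ∧ B ≠ 1 ∧ A * B = B * A ∧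
    X * A * X⁻¹ = B⁻¹ ∧ X * B * X⁻¹ = A ∧ A ≠ B ∧ A ≠ B * B := by
  obtain ⟨A, B, X, ⟨s1, s2, s3⟩, h1, h2, h3, h4, h5, h6, h7, h8, h9⟩ := perm_b
  refine ⟨⟨A, Equiv.Perm.mem_alternatingGroup.2 s1⟩, ⟨B, Equiv.Perm.mem_alternatingGroup.2 s2⟩,
    ⟨X, Equiv.Perm.mem_alternatingGroup.2 s3⟩, Subtype.ext h1, fun h => h2 (congrArg Subtype.val h), Subtype.ext h3,
    fun h => h4 (congrArg Subtype.val h), Subtype.ext h5, Subtype.ext h6, Subtype.ext h7,
    fun h => h8 (congrArg Subtype.val h), fun h => h9 (congrArg Subtype.val h)⟩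

/-- degree 7, `b = 2` -/
theorem no_alt_seven_two (hb : b = 2) (e : S ≃* alternatingGroup (Fin 7)) : False := by
  obtain ⟨t, a, x, h1, h2, h3, h4, h5, h6⟩ := exists_seven_a
  obtain ⟨t', ht', ht2⟩ := exists_lift h (cop_two h) (x := e.symm t) (by rw [← map_pow, h1, map_one])
  obtain ⟨y, hy⟩ := h.surj (e.symm a)
  obtain ⟨x', hx'⟩ := h.surj (e.symm x)
  have hcen : ∀ z : L, π z = 1 → (∀ g, g * z = z * g) ∧ z ^ 3 = 1 := by
    intro z hz
    refine ⟨fun g => Subgroup.mem_center_iff.1 ((mem_center_iff h).2 hz) g, ?_⟩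
    have := pow_eq_one h hz
    rwa [hb] at this
  -- the real lift
  have hz : π (y * (x' * y * x'⁻¹)) = 1 := by
    have h7 : e.symm (x * a * x⁻¹) = (e.symm a)⁻¹ := by rw [h6, map_inv]
    rw [map_mul, map_mul, map_mul, map_inv, hx', hy, ← map_inv, ← map_mul, ← map_mul, h7, mul_inv_cancel]
  obtain ⟨hzc, hz3⟩ := hcen _ hz
  generalize hzdef : y * (x' * y * x'⁻¹) = z at hz hzc hz3
  have hxy : x' * y * x'⁻¹ = y⁻¹ * z := by rw [← hzdef]; group
  have hzi : z⁻¹ = z * z := by
    rw [inv_eq_iff_mul_eq_one, ← pow_three, hz3]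
  have hconj : x' * (y * z) * x'⁻¹ = (y * z)⁻¹ := by
    calc x' * (y * z) * x'⁻¹ = (x' * y) * z * x'⁻¹ := by group
      _ = (x' * y) * (z * x'⁻¹) := by group
      _ = (x' * y) * (x'⁻¹ * z) := by rw [hzc]
      _ = (x' * y * x'⁻¹) * z := by group
      _ = y⁻¹ * (z * z) := by rw [hxy]; group
      _ = y⁻¹ * z⁻¹ := by rw [hzi]
      _ = (z * y)⁻¹ := by rw [mul_inv_rev]
      _ = (y * z)⁻¹ := by rw [hzc]
  have hπ : π (y * z) = e.symm a := by rw [map_mul, hz, hy, mul_one]
  have hw : π ((y * z) ^ 3) = 1 := by rw [map_pow, hπ, ← map_pow, h3, map_one]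
  obtain ⟨hwc, hw3⟩ := hcen _ hw
  have hw1 : (y * z) ^ 3 = 1 := by
    have h7 : x' * (y * z) ^ 3 * x'⁻¹ = ((y * z) ^ 3)⁻¹ := by
      rw [← conj_pow, hconj, inv_pow]
    rw [hwc x', mul_inv_cancel_right] at h7
    have h8 : ((y * z) ^ 3) ^ 2 = 1 := by
      rw [sq]
      nth_rewrite 2 [h7]
      rw [mul_inv_cancel]
    calc (y * z) ^ 3 = ((y * z) ^ 3) ^ 3 * (((y * z) ^ 3) ^ 2)⁻¹ := by group
      _ = 1 := by rw [hw3, h8, inv_one, one_mul]
  refine no_real h hb (t := t') (a := y * z) (x := x') ht2 ?_ hw1 ?_ ?_ hconj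
  · rintro rfl
    apply h2
    rw [map_one] at ht'
    exact e.symm.injective (by rw [← ht', map_one])
  · intro h7
    apply h4
    rw [h7, map_one] at hπ
    exact e.symm.injective (by rw [← hπ, map_one])
  · apply commute_of h (cop_two h) ht2
    rw [ht', hπ, ← map_mul, ← map_mul, h5]

/-- degree 7, `b = 1` -/
theorem no_alt_seven_one (hh : Half ρ) (hb : b = 1) (e : S ≃* alternatingGroup (Fin 7)) : False := by
  have := h.finL
  have hV := h.finV
  have hZ : Nat.card (Subgroup.center L) = 1 := by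
    have := h.card_center
    rw [hb] at this
    simpa using this
  have hinj : Function.Injective π := by
    rw [← MonoidHom.ker_eq_bot_iff, h.cent]
    exact Subgroup.eq_bot_of_card_eq _ hZ
  have hS : Nat.card S = 2520 := by
    rw [Nat.card_congr e.toEquiv, nat_card_alternatingGroup]
    simp [Nat.factorial]
  have hL : Nat.card L = 2520 := by rw [card_eq h, hZ, hS]
  obtain ⟨-, m, hm, hm2⟩ := five h hh (by rw [hL]; norm_num)
  let E : L ≃* alternatingGroup (Fin 7) := (MulEquiv.ofBijective π ⟨hinj, h.surj⟩).trans e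
  obtain ⟨A, B, X, h1, h2, h3, h4, h5, h6, h7, h8, h9⟩ := exists_seven_b
  have hE : ∀ {x y : alternatingGroup (Fin 7)}, x = y → E.symm x = E.symm y := fun h => congrArg _ h
  have g1 := hE h1
  have g3 := hE h3
  have g5 := hE h5
  have g6 := hE h6
  have g7 := hE h7
  have g2 : E.symm A ≠ 1 := fun h => h2 (E.symm.injective (by rw [h, map_one]))
  have g4 : E.symm B ≠ 1 := fun h => h4 (E.symm.injective (by rw [h, map_one]))
  have g8 : E.symm A ≠ E.symm B := fun h => h8 (E.symm.injective h)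
  have g9 : E.symm A ≠ E.symm B * E.symm B := fun h => h9 (E.symm.injective (by rw [h, map_mul]))
  simp only [map_mul, map_inv, map_pow, map_one] at g1 g3 g5 g6 g7
  generalize E.symm A = A' at *
  generalize E.symm B = B' at *
  generalize E.symm X = X' at *
  refine no_nine h g1 g3 g5 g6 g7 ?_
  rw [eq_bot_iff]
  rintro v ⟨hvA, hvB⟩
  rw [Submodule.mem_bot]
  by_contra hv
  -- the stabilizer has order divisible by 9
  let T : Subgroup L :=
    { carrier := {g | ρ g v = v}
      one_mem' := by change ρ 1 v = v; rw [map_one]; rfl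
      mul_mem' := by
        intro a c ha hc
        change ρ (a * c) v = v
        rw [map_mul]
        change ρ a (ρ c v) = v
        rw [show ρ c v = v from hc]
        exact ha
      inv_mem' := by
        intro a ha
        have : v ∈ Fx ρ a⁻¹ := by rw [Fx_inv]; exact ha
        exact this }
  have hT : Nat.card T = Nat.card {g : L // ρ g v = v} := rfl
  have h9T : 9 ∣ Nat.card T := by
    have hA3 : Nat.card (Subgroup.zpowers A') = 3 := by
      rw [Nat.card_zpowers]
      exact orderOf_eq_prime g1 g2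
    have hB3 : Nat.card (Subgroup.zpowers B') = 3 := by
      rw [Nat.card_zpowers]
      exact orderOf_eq_prime g3 g4
    have hAT : Subgroup.zpowers A' ≤ T := by
      rw [Subgroup.zpowers_le]; exact hvA
    have hBT : Subgroup.zpowers B' ≤ T := by
      rw [Subgroup.zpowers_le]; exact hvB
    have hcomm : ∀ (a : Subgroup.zpowers A') (c : Subgroup.zpowers B'), Commute (Subgroup.inclusion hAT a)
        (Subgroup.inclusion hBT c) := by
      rintro ⟨_, ⟨i, rfl⟩⟩ ⟨_, ⟨j, rfl⟩⟩
      apply Subtype.ext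
      exact ((show Commute A' B' from g5).zpow_zpow i j)
    have hdis : Subgroup.zpowers A' ⊓ Subgroup.zpowers B' = ⊥ := by
      rw [eq_bot_iff]
      rintro x ⟨hxA, hxB⟩
      rw [Subgroup.mem_bot]
      by_contra hx
      have hfact : Fact (Nat.Prime 3) := ⟨Nat.prime_three⟩
      have k1 : Subgroup.zpowers x = Subgroup.zpowers B' := by
        apply Subgroup.eq_of_le_of_card_ge (Subgroup.zpowers_le.2 hxB)
        have k0 : x ^ 3 = 1 := by
          obtain ⟨j, rfl⟩ := hxB
          change (B' ^ j) ^ 3 = 1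
          rw [← zpow_natCast, ← zpow_mul, mul_comm, zpow_mul, zpow_natCast, g3, one_zpow]
        rw [hB3, Nat.card_zpowers, orderOf_eq_prime k0 hx]
      have k2 : Subgroup.zpowers x = Subgroup.zpowers A' := by
        apply Subgroup.eq_of_le_of_card_ge (Subgroup.zpowers_le.2 hxA)
        have k0 : x ^ 3 = 1 := by
          obtain ⟨j, rfl⟩ := hxA
          change (A' ^ j) ^ 3 = 1
          rw [← zpow_natCast, ← zpow_mul, mul_comm, zpow_mul, zpow_natCast, g1, one_zpow]
        rw [hA3, Nat.card_zpowers, orderOf_eq_prime k0 hx]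
      have k3 : A' ∈ Subgroup.zpowers B' := by
        rw [← k1, k2]; exact Subgroup.mem_zpowers A'
      classical
      rw [mem_zpowers_iff_mem_range_orderOf, orderOf_eq_prime g3 g4] at k3
      simp only [Finset.mem_image, Finset.mem_range] at k3
      obtain ⟨i, hi, k4⟩ := k3
      interval_cases i
      · rw [pow_zero] at k4; exact g2 k4.symm
      · rw [pow_one] at k4; exact g8 k4.symm
      · rw [sq] at k4; exact g9 k4.symm
    let φ : Subgroup.zpowers A' × Subgroup.zpowers B' →* T :=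
      (Subgroup.inclusion hAT).noncommCoprod (Subgroup.inclusion hBT) hcomm
    have hφ : Function.Injective φ := by
      rw [injective_iff_map_eq_one]
      rintro ⟨⟨a, ha⟩, ⟨c, hc⟩⟩ hac
      have k1 : a * c = 1 := congrArg Subtype.val hac
      have k2 : a = c⁻¹ := eq_inv_of_mul_eq_one_left k1
      have k3 : c ∈ Subgroup.zpowers A' ⊓ Subgroup.zpowers B' := by
        refine ⟨?_, hc⟩
        rw [k2] at ha
        have ha' := inv_mem ha
        rwa [inv_inv] at ha'
      rw [hdis, Subgroup.mem_bot] at k3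
      subst k3
      rw [inv_one] at k2
      subst k2
      rfl
    have k1 := Subgroup.card_dvd_of_injective φ hφ
    rw [Nat.card_prod, hA3, hB3] at k1
    exact k1
  obtain ⟨c, hc⟩ := hm
  obtain ⟨c', hc'⟩ := h9T
  have h10 := hm2 v hv
  rw [← hT, hc, hc', hL] at h10
  have h11 : 189 * (c * c') = 2520 := by rw [← h10]; ring
  omega

end Cfsg.Agent.H658.TwoSix
end

-- part: H658/TwoSix
section
set_option linter.all false
open scoped Cfsg.Agent.FastGrp

/-!
# Hering's theorem: `|V| = 64` (helper658)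

`row_two_six` : in the configuration `Cfg 2 6 b`, with orbits of equal length, a known simple group `S` which is not of
Lie type in characteristic 2 is `PSU_3(3)`, and `L ≅ S`, `b = 1`.
-/

set_option autoImplicit false

namespace Cfsg.Agent.H658.TwoSix

open Cfsg Cfsg.Agent.H50.Her Cfsg.Agent.H658.HerGen Cfsg.Agent.OrdDiv

universe u v w

section

variable {b : ℕ} {L : Type u} {V : Type v} {S : Type w} [Group L] [AddCommGroup V] [Module (ZMod 2) V]
    [Group S] {π : L →* S} {ρ : L →* (V ≃ₗ[ZMod 2] V)} (h : Cfg 2 6 b L V S π ρ)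

include h

theorem card_dvd : Nat.card S ∣ 20158709760 := by
  have h1 := card_dvd_gl h
  have h2 : ∏ i : Fin 6, (2 ^ 6 - 2 ^ (i : ℕ)) = 20158709760 := by decide +kernel
  rw [h2, card_eq h] at h1
  exact (Dvd.intro_left _ rfl).trans h1

theorem seven (hh : Half ρ) (h5 : 5 ∣ Nat.card S) : 7 ∣ Nat.card S := by
  have h0 := card_eq h
  obtain ⟨h1, m, h2, h3⟩ := five h hh (h5.trans (by rw [h0]; exact Dvd.intro_left _ rfl))
  obtain ⟨v, hv⟩ := exists_ne_zero h
  have h4 : 7 ∣ Nat.card (Subgroup.center L) * Nat.card S := by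
    rw [← h0, ← h3 v hv]
    exact ((show 7 ∣ 21 by norm_num).trans h2).mul_right _
  rcases (show Nat.Prime 7 by norm_num).dvd_mul.1 h4 with h6 | h6
  · exfalso
    have h7 := h6.trans h.card_center
    rcases b_cases h with h8 | h8 | h8
    · rw [h8] at h7; revert h7; decide
    · rw [h8] at h7; revert h7; decide
    · exact h1 h8
  · exact h6

/-- the unitary group -/
theorem row_psu {F : Type} [Field F] [Fintype F] (hF : Fintype.card F = 9) (e : S ≃* PSU 3 F 3) :
    HerType 2 6 b L := by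
  have hb : b = 1 := by
    obtain ⟨H, hH, h1⟩ := exists_index h
    have h2 := (S2148.result (F := F) 3 (by rw [hF]; norm_num) le_rfl (by norm_num)).1 (H.map e.toMonoidHom) (by
      intro h3
      apply hH
      rw [eq_top_iff]
      intro x _
      have h4 : e x ∈ H.map e.toMonoidHom := by rw [h3]; trivial
      obtain ⟨y, hy, hxy⟩ := h4
      have : y = x := e.injective hxy
      rwa [← this])
    have h3 : (H.map e.toMonoidHom).index = H.index :=
      Subgroup.index_map_eq H e.surjective (by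
        have : e.toMonoidHom.ker = ⊥ := (MonoidHom.ker_eq_bot_iff _).2 e.injective
        rw [this]; exact bot_le)
    rw [h3] at h2
    rcases b_cases h with h4 | h4 | h4
    · exact h4
    · rw [h4] at h1
      have : H.index * (2 ^ 2 - 1) = H.index * 3 := by norm_num
      omega
    · rw [h4] at h1
      have : H.index * (2 ^ 3 - 1) = H.index * 7 := by norm_num
      omega
  have hfin := h.finL
  have hZ : Nat.card (Subgroup.center L) = 1 := by
    have := h.card_center
    rw [hb] at this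
    simpa using this
  have hinj : Function.Injective π := by
    rw [← MonoidHom.ker_eq_bot_iff, h.cent]
    exact Subgroup.eq_bot_of_card_eq _ hZ
  let E : L ≃* PSU 3 F 3 := (MulEquiv.ofBijective π ⟨hinj, h.surj⟩).trans e
  refine Or.inl ⟨6, 1, ZMod 2, inferInstance, inferInstance, by norm_num, by rw [hb], by rw [ZMod.card]; norm_num,
    by norm_num, Or.inr (Or.inr (Or.inr ⟨rfl, by rw [ZMod.card], F, inferInstance, inferInstance, hF, ⟨E⟩⟩))⟩

end

theorem charP_two {F : Type} [Field F] [Fintype F] {k : ℕ} (hk : Fintype.card F = 2 ^ k) : CharP F 2 := by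
  obtain ⟨p, hp⟩ := CharP.exists F
  have hpp : p.Prime := CharP.char_is_prime F p
  obtain ⟨n, -, hn⟩ := FiniteField.card F p
  have h1 : p ∣ 2 ^ k := by
    rw [← hk, hn]
    exact dvd_pow_self p n.ne_zero
  have h2 := (Nat.prime_dvd_prime_iff_eq hpp Nat.prime_two).1 (hpp.dvd_of_dvd_pow h1)
  rwa [h2] at hp

theorem row_two_six {p d b : ℕ} {L : Type u} {V : Type v} {S : Type w} [Group L] [AddCommGroup V]
    [Module (ZMod p) V] [Group S] {π : L →* S} {ρ : L →* (V ≃ₗ[ZMod p] V)} (h : Cfg p d b L V S π ρ) (hh : Half ρ)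
    (hp : p = 2) (hd : d = 6) (hS : IsKnownSimple' S) (hn : ¬ IsLieTypeChar p S) : HerType p d b L := by
  subst hp hd
  have hna : ¬ ∀ a b : S, a * b = b * a := by
    obtain ⟨x, y, hxy⟩ := h.noncomm
    exact fun h1 => hxy (h1 x y)
  obtain ⟨g, hg, hr⟩ := exists_real_filter table hS hna (l := [(2, 15), (3, 4), (5, 1), (7, 2), (31, 1)])
    (by decide +kernel) (card_dvd h) (fun n => !(decide (5 ∣ n)) || decide (7 ∣ n)) (by
      by_cases h5 : 5 ∣ Nat.card S
      · have h7 := seven h hh h5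
        simp [h7]
      · simp [h5])
  have h1 : (cands [(2, 15), (3, 4), (5, 1), (7, 2), (31, 1)] 20158709760).filter
      (fun g => !(decide (5 ∣ ordN g)) || decide (7 ∣ ordN g)) = [.alt 7, .alt 8, .alt 9, .psl 3 2, .psl 4 2,
        .psl 5 2, .psl 6 2, .psl 3 4, .psl 2 8, .psl 2 7, .psp 3 2, .psu 3 3] := by decide +kernel
  rw [h1] at hg
  have hpsl : ∀ (n k : ℕ), 2 ≤ n → (n = 2 → 2 ≤ k) → Real (.psl n (2 ^ k)) S → False := by
    rintro n k hn2 hk ⟨F, _, _, hF, hiso⟩
    refine hn (Or.inl ⟨F, inferInstance, inferInstance, charP_two hF, n, hn2, ?_, hiso⟩)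
    intro h2
    rw [hF]
    exact (show 4 = 2 ^ 2 by norm_num) ▸ Nat.pow_le_pow_right (by norm_num) (hk h2)
  simp only [List.mem_cons, List.not_mem_nil, or_false] at hg
  rcases hg with rfl | rfl | rfl | rfl | rfl | rfl | rfl | rfl | rfl | rfl | rfl | rfl
  · obtain ⟨e⟩ := hr
    exfalso
    rcases b_cases h with hb | hb | hb
    · exact no_alt_seven_one h hh hb e
    · exact no_alt_seven_two h hb e
    · have h5 : 5 ∣ Nat.card L := by
        rw [card_eq h]
        have : Nat.card S = 2520 := by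
          rw [Nat.card_congr e.toEquiv, nat_card_alternatingGroup]
          simp [Nat.factorial]
        rw [this]
        exact (show 5 ∣ 2520 by norm_num).mul_left _
      exact (five h hh h5).1 hb
  · obtain ⟨e⟩ := hr
    exfalso
    obtain ⟨f⟩ := S0256.result (F := ZMod 2) (ZMod.card 2)
    exact hpsl 4 1 (by norm_num) (by norm_num) ⟨ZMod 2, inferInstance, inferInstance, ZMod.card 2, ⟨e.trans f.symm⟩⟩
  · obtain ⟨e⟩ := hr
    exact (no_alt_nine h e).elim
  · exact (hpsl 3 1 (by norm_num) (by norm_num) hr).elim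
  · exact (hpsl 4 1 (by norm_num) (by norm_num) hr).elim
  · exact (hpsl 5 1 (by norm_num) (by norm_num) hr).elim
  · exact (hpsl 6 1 (by norm_num) (by norm_num) hr).elim
  · exact (hpsl 3 2 (by norm_num) (by norm_num) hr).elim
  · exact (hpsl 2 3 (by norm_num) (by norm_num) hr).elim
  · obtain ⟨F, _, _, hF, ⟨e⟩⟩ := hr
    exfalso
    obtain ⟨f⟩ := S0255.result (F := F) (K := ZMod 2) hF (ZMod.card 2)
    exact hpsl 3 1 (by norm_num) (by norm_num) ⟨ZMod 2, inferInstance, inferInstance, ZMod.card 2, ⟨e.trans f⟩⟩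
  · obtain ⟨F, _, _, hF, hiso⟩ := hr
    exact (hn (Or.inr (Or.inl ⟨F, inferInstance, inferInstance, charP_two (k := 1) hF, 3, by norm_num, by norm_num,
      hiso⟩))).elim
  · obtain ⟨F, _, _, hF, ⟨e⟩⟩ := hr
    exact row_psu h (by rw [hF]; norm_num) e

end Cfsg.Agent.H658.TwoSix
end

-- part: H344/HerDih
section
set_option linter.all false
open scoped Cfsg.Agent.FastGrp

/-!
# Hering's theorem (S3695): `PSL₂(13)` has no module of order `3 ^ 6` (helper344)

`no_dih` : in the configuration with `p = 3`, `d = 6`, `|L| = 1092` there is no dihedral subgroup of order 26.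
-/

set_option autoImplicit false

namespace Cfsg.Agent.H344.HerPsl

open Cfsg.Agent.H50.Her Cfsg.Agent.H658.HerGen Module

universe u v w

variable {b : ℕ} {L : Type u} {V : Type v} {S : Type w} [Group L] [AddCommGroup V] [Module (ZMod 3) V]
    [Group S] {π : L →* S} {ρ : L →* (V ≃ₗ[ZMod 3] V)}

theorem two_eq' : (2 : ZMod 3) = 1 + 1 := by decide

theorem two_ne' : (2 : ZMod 3) ≠ 0 := by decide

theorem neg_one_ne' : (-1 : ZMod 3) ≠ 0 := by decide

theorem neg_one_cube' : (1 : ZMod 3) ≠ (-1) ^ 3 := by decide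

/-- the eigenspaces -/
def Eg (ρ : L →* (V ≃ₗ[ZMod 3] V)) (ε : ZMod 3) (g : L) : Submodule (ZMod 3) V where
  carrier := {v | ρ g v = ε • v}
  add_mem' := by
    intro a c ha hc
    simp only [Set.mem_ofPred_eq] at *
    rw [map_add, ha, hc, smul_add]
  zero_mem' := by simp
  smul_mem' := by
    intro c x hx
    simp only [Set.mem_ofPred_eq] at *
    rw [map_smul, hx, smul_comm]

theorem mem_Eg {ε : ZMod 3} {g : L} {v : V} : v ∈ Eg ρ ε g ↔ ρ g v = ε • v := Iff.rfl

theorem map_mul_apply (g k : L) (v : V) : ρ (g * k) v = ρ g (ρ k v) := by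
  rw [map_mul]; rfl

theorem card_Eg_conj [Finite V] (ε : ZMod 3) (g x : L) : Nat.card (Eg ρ ε (g * x * g⁻¹)) = Nat.card (Eg ρ ε x) := by
  refine Nat.card_congr ⟨fun v => ⟨ρ g⁻¹ v, ?_⟩, fun v => ⟨ρ g v, ?_⟩, ?_, ?_⟩
  · have h := v.2
    rw [mem_Eg] at h ⊢
    rw [← map_smul, ← h, ← map_mul_apply, ← map_mul_apply]
    congr 2
    group
  · have h := v.2
    rw [mem_Eg] at h ⊢
    rw [← map_smul, ← h, ← map_mul_apply, ← map_mul_apply]
    congr 2
    group
  · intro v
    apply Subtype.ext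
    show ρ g (ρ g⁻¹ v) = v
    rw [← map_mul_apply, mul_inv_cancel, map_one]; rfl
  · intro v
    apply Subtype.ext
    show ρ g⁻¹ (ρ g v) = v
    rw [← map_mul_apply, inv_mul_cancel, map_one]; rfl

theorem card_mul_le [Finite V] {W W' : Submodule (ZMod 3) V} (h : W ⊓ W' = ⊥) :
    Nat.card W * Nat.card W' ≤ Nat.card V := by
  rw [← Nat.card_prod]
  refine Nat.card_le_card_of_injective (fun x : W × W' => (x.1 : V) + x.2) ?_
  rintro ⟨a, c⟩ ⟨a', c'⟩ hx
  have h1 : (a : V) - a' = c' - c := by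
    have h2 : (a : V) + c = a' + c' := hx
    rw [sub_eq_sub_iff_add_eq_add, h2, add_comm]
  have h2 : (a : V) - a' ∈ W ⊓ W' := ⟨sub_mem a.2 a'.2, by rw [h1]; exact sub_mem c'.2 c.2⟩
  rw [h, Submodule.mem_bot] at h2
  have h3 : (a : V) = a' := sub_eq_zero.1 h2
  have h4 : (c : V) = c' := by
    rw [h2] at h1
    exact (sub_eq_zero.1 h1.symm).symm
  exact Prod.ext (Subtype.ext h3) (Subtype.ext h4)

theorem no_dih (h : Cfg 3 6 b L V S π ρ) (hh : Half ρ) (hL : Nat.card L = 1092) {u z : L} (hu : u ^ 13 = 1) (hu1 : u ≠ 1)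
    (hz : z * z = 1) (hzu : z * u * z⁻¹ = u⁻¹) : False := by
  have : Fact (Nat.Prime 3) := ⟨Nat.prime_three⟩
  have : Fact (Nat.Prime 13) := ⟨by norm_num⟩
  have hfL := h.finL
  have hfV := h.finV
  have hV : Nat.card V = 729 := by rw [h.card_V]; norm_num
  have : Nontrivial V := Finite.one_lt_card_iff_nontrivial.1 (by rw [hV]; norm_num)
  have hfin : FiniteDimensional (ZMod 3) V := Module.Finite.of_finite
  obtain ⟨m, k, h1, h2, h3⟩ := exists_orbits hh (exists_ne (0 : V))
  rw [hV] at h2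
  rw [hL] at h1
  -- the fixed points of `u`
  have hFu : Nat.card (Fx ρ u) ≤ 27 := by
    obtain ⟨c, hc6, hc, hc'⟩ := exists_pow h.card_V (Fx ρ u)
    have hlt := hc' (fun h0 => hu1 (Fx_eq_top h.inj h0))
    have hm := modEq_top (ρ := ρ) hu
    rw [hV, hc] at hm
    rw [hc]
    interval_cases c
    · norm_num
    · norm_num
    · norm_num
    · norm_num
    · exact absurd hm (by decide)
    · exact absurd hm (by decide)
  have h5 := (h3 13 u (by norm_num) hu).trans hFu
  have hm0 : m % 13 = 0 := by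
    by_contra hcon
    have h6 : 13 ∣ k * m := ⟨56, by omega⟩
    have h7 : 13 ∣ k := by
      rcases (Nat.Prime.dvd_mul (by norm_num)).1 h6 with h7 | h7
      · exact h7
      · exact absurd (Nat.mod_eq_zero_of_dvd h7) hcon
    obtain ⟨k', rfl⟩ := h7
    have h8 : k' * (m % 13) ≤ 2 := by
      have : 13 * k' * (m % 13) = 13 * (k' * (m % 13)) := by ring
      omega
    have h9 : k' * m = 56 := by
      have : 13 * k' * m = 13 * (k' * m) := by ring
      omega
    have h10 : k' ≤ 2 := by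
      have : 1 ≤ m % 13 := by omega
      calc k' = k' * 1 := (mul_one _).symm
        _ ≤ k' * (m % 13) := Nat.mul_le_mul_left _ this
        _ ≤ 2 := h8
    interval_cases k'
    · omega
    · have : m = 56 := by omega
      subst this; omega
    · have : m = 28 := by omega
      subst this; omega
  have hu0 : ∀ v : V, ρ u v = v → v = 0 := by
    intro v hv
    by_contra hv0
    have h6 := h1 v hv0
    let H : Subgroup L :=
      { carrier := {g | ρ g v = v}
        one_mem' := by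
          show ρ 1 v = v
          rw [map_one]; rfl
        mul_mem' := by
          intro a c ha hc
          show ρ (a * c) v = v
          rw [map_mul_apply, show ρ c v = v from hc, show ρ a v = v from ha]
        inv_mem' := by
          intro a ha
          show ρ a⁻¹ v = v
          have h7 : ρ a v = v := ha
          nth_rw 1 [← h7]
          rw [← map_mul_apply, inv_mul_cancel, map_one]; rfl }
    have h7 : Nat.card {g : L // ρ g v = v} = Nat.card H := rfl
    have h8 : orderOf u = 13 := orderOf_eq_prime hu hu1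
    have h9 : 13 ∣ Nat.card H := by
      rw [← h8, show orderOf u = orderOf (⟨u, hv⟩ : H) from (Subgroup.orderOf_mk u hv).symm]
      exact orderOf_dvd_natCard _
    rw [h7] at h6
    have h10 : 13 * 13 ∣ 1092 := by
      rw [← h6]
      exact Nat.mul_dvd_mul (Nat.dvd_of_mod_eq_zero hm0) h9
    revert h10
    norm_num
  -- the eigenspaces of `z`
  have hconj : u ^ 7 * z * (u ^ 7)⁻¹ = u * z := by
    have e1 : z * (u ^ 7) * z⁻¹ = (u ^ 7)⁻¹ := by rw [← conj_pow, hzu, inv_pow]
    have e2 : z * (u ^ 7)⁻¹ * z⁻¹ = u ^ 7 := by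
      have := congrArg (fun x => x⁻¹) e1
      simp only [mul_inv_rev, inv_inv] at this
      rw [← mul_assoc] at this
      exact this
    calc u ^ 7 * z * (u ^ 7)⁻¹ = u ^ 7 * (z * (u ^ 7)⁻¹ * z⁻¹) * z := by group
      _ = u ^ 14 * z := by rw [e2, ← pow_add]
      _ = u * z := by rw [show 14 = 13 + 1 from rfl, pow_add, hu, one_mul, pow_one]
  have hE : ∀ ε : ZMod 3, ε ≠ 0 → Nat.card (Eg ρ ε z) ≤ 27 := by
    intro ε hε
    have h6 : Eg ρ ε z ⊓ Eg ρ ε (u * z) = ⊥ := by
      rw [eq_bot_iff]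
      rintro v ⟨hv1, hv2⟩
      rw [Submodule.mem_bot]
      have hv1' : ρ z v = ε • v := hv1
      have hv2' : ρ (u * z) v = ε • v := hv2
      rw [map_mul_apply, hv1', map_smul] at hv2'
      exact hu0 v (smul_right_injective V hε hv2')
    have h7 := card_mul_le h6
    rw [← hconj, card_Eg_conj, hV] at h7
    by_contra hcon
    have h8 : 28 * 28 ≤ Nat.card (Eg ρ ε z) * Nat.card (Eg ρ ε z) := Nat.mul_le_mul (by omega) (by omega)
    omega
  have hzz : ∀ v : V, ρ z (ρ z v) = v := by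
    intro v
    rw [← map_mul_apply, hz, map_one]; rfl
  have h6 : Nat.card V ≤ Nat.card (Eg ρ 1 z) * Nat.card (Eg ρ (-1) z) := by
    rw [← Nat.card_prod]
    refine Nat.card_le_card_of_injective (fun v => (⟨v + ρ z v, ?_⟩, ⟨v - ρ z v, ?_⟩)) ?_
    · rw [mem_Eg, map_add, hzz, one_smul, add_comm]
    · rw [mem_Eg, map_sub, hzz, neg_smul, one_smul, neg_sub]
    · intro v v' hv
      have e1 : v + ρ z v = v' + ρ z v' := congrArg (fun x => (x.1 : V)) hv
      have e2 : v - ρ z v = v' - ρ z v' := congrArg (fun x => (x.2 : V)) hv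
      have e3 : (2 : ZMod 3) • v = (2 : ZMod 3) • v' := by
        have e4 : (2 : ZMod 3) = 1 + 1 := two_eq'
        rw [e4, add_smul, add_smul, one_smul, one_smul]
        have : v + v = (v + ρ z v) + (v - ρ z v) := by abel
        rw [this, e1, e2]; abel
      exact smul_right_injective V two_ne' e3
  have h7 : Nat.card (Eg ρ 1 z) = 27 := by
    have h8 := hE 1 one_ne_zero
    have h9 := hE (-1) neg_one_ne'
    have h10 : Nat.card (Eg ρ 1 z) * Nat.card (Eg ρ (-1) z) ≤ Nat.card (Eg ρ 1 z) * 27 := Nat.mul_le_mul_left _ h9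
    omega
  -- the determinant
  have h8 : finrank (ZMod 3) (Eg ρ 1 z) = 3 := by
    have h9 := card_sub (p := 3) (Eg ρ 1 z)
    rw [h7] at h9
    exact (Nat.pow_right_injective (le_refl 2 |>.trans (by norm_num : 2 ≤ 3)) (h9.symm.trans (by norm_num : 27 = 3 ^ 3)))
  have h9 : finrank (ZMod 3) V = 6 := finrank_eq h.card_V
  have h10 : finrank (ZMod 3) (V ⧸ Eg ρ 1 z) = 3 := by
    have := Submodule.finrank_quotient_add_finrank (Eg ρ 1 z)
    omega
  have he : Eg ρ 1 z ≤ (Eg ρ 1 z).comap (ρ z : V →ₗ[ZMod 3] V) := by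
    intro v hv
    rw [Submodule.mem_comap]
    show ρ z v ∈ _
    have h11 : ρ z v = v := by have := mem_Eg.1 hv; rwa [one_smul] at this
    rw [h11]; exact hv
  have hdet := LinearMap.det_eq_det_mul_det (Eg ρ 1 z) (ρ z : V →ₗ[ZMod 3] V) he
  have hd1 : (ρ z : V →ₗ[ZMod 3] V).restrict he = LinearMap.id := by
    ext v
    have := mem_Eg.1 v.2
    rw [one_smul] at this
    exact this
  have hd2 : (Eg ρ 1 z).mapQ (Eg ρ 1 z) (ρ z : V →ₗ[ZMod 3] V) he = (-1 : ZMod 3) • LinearMap.id := by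
    apply LinearMap.ext
    intro x
    obtain ⟨v, rfl⟩ := Submodule.mkQ_surjective _ x
    rw [Submodule.mkQ_apply, Submodule.mapQ_apply, LinearMap.smul_apply, LinearMap.id_apply, neg_smul, one_smul,
      ← Submodule.Quotient.mk_neg, Submodule.Quotient.eq]
    rw [mem_Eg, map_sub, map_neg]
    show ρ z (ρ z v) - - (ρ z v) = (1 : ZMod 3) • (ρ z v - -v)
    rw [hzz, one_smul]; abel
  rw [hd1, hd2, LinearMap.det_id, LinearMap.det_smul, LinearMap.det_id, h10, one_mul, mul_one] at hdet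
  -- `L` is perfect
  have hperf : ∀ g : L, LinearMap.det (ρ g : V →ₗ[ZMod 3] V) = 1 := by
    let δ : L →* (ZMod 3)ˣ := LinearEquiv.det.comp ρ
    have h11 : commutator L ≤ δ.ker := Abelianization.commutator_subset_ker δ
    rw [h.perf] at h11
    intro g
    have h12 : δ g = 1 := h11 (Subgroup.mem_top g)
    have h13 := congrArg Units.val h12
    rw [Units.val_one] at h13
    rw [← h13]
    exact (LinearEquiv.coe_det (ρ g)).symm
  rw [hperf z] at hdet
  exact neg_one_cube' hdet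

end Cfsg.Agent.H344.HerPsl
end

-- part: H874/HerAltN
section
prune_inst 0x111041004c6200000000000010000020300000000003000098c00440000e524000000e0070001c02002000000001000001100000020000002a00020040040000002a000090080104000000801002000000000000000000000000000000041000000000000
set_option linter.all false
open scoped Cfsg.Agent.FastGrp

/-!
# Hering's theorem: `A_13` and `A_14` are not transitive on the nonzero vectors of `𝔽_2 ^ 12` (helper874)
-/

set_option autoImplicit false

namespace Cfsg.Agent.H874.HerAltN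

open Cfsg.Agent.H658.HerGen Equiv

universe u v

section Sylow

variable {p : ℕ} {L : Type u} {V : Type v} [Group L] [AddCommGroup V] [Module (ZMod p) V]
  {ρ : L →* (V ≃ₗ[ZMod p] V)}

/-- the stabiliser of a vector -/
def St (ρ : L →* (V ≃ₗ[ZMod p] V)) (w : V) : Subgroup L where
  carrier := {y | ρ y w = w}
  one_mem' := by rw [Set.mem_ofPred_eq, map_one]; rfl
  mul_mem' := by
    intro a b ha hb
    rw [Set.mem_ofPred_eq] at *
    rw [map_mul]
    change ρ a (ρ b w) = w
    rw [hb, ha]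
  inv_mem' := by
    intro a ha
    rw [Set.mem_ofPred_eq] at *
    apply (ρ a).injective
    change (ρ a * ρ a⁻¹) w = _
    rw [← map_mul, mul_inv_cancel, map_one, ha]
    rfl

theorem inv_apply (g : L) (w : V) : ρ g⁻¹ (ρ g w) = w := by
  change (ρ g⁻¹ * ρ g) w = w
  rw [← map_mul, inv_mul_cancel, map_one]
  rfl

theorem apply_inv (g : L) (w : V) : ρ g (ρ g⁻¹ w) = w := by
  change (ρ g * ρ g⁻¹) w = w
  rw [← map_mul, mul_inv_cancel, map_one]
  rfl

theorem mul_apply (g h : L) (w : V) : ρ (g * h) w = ρ g (ρ h w) := by rw [map_mul]; rfl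

variable [Finite L]

/-- The normaliser of a Sylow subgroup of order `r` is transitive on the nonzero fixed vectors. -/
theorem exists_normalizer {r : ℕ} (hr : r.Prime) (hL : ¬ r ^ 2 ∣ Nat.card L) {x : L} (hx : orderOf x = r)
    (htr : ∀ v w : V, v ≠ 0 → w ≠ 0 → ∃ g, ρ g v = w) {v w : V} (hv : v ≠ 0) (hw : w ≠ 0) (h1 : ρ x v = v)
    (h2 : ρ x w = w) : ∃ n : L, n ∈ Subgroup.normalizer (Subgroup.zpowers x : Set L) ∧ ρ n v = w := by
  have := Fact.mk hr
  obtain ⟨g, hg⟩ := htr v w hv hw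
  let H : Subgroup L := St ρ w
  have hHmem : ∀ y, y ∈ H ↔ ρ y w = w := fun y => Iff.rfl
  have hxH : x ∈ H := h2
  have hgxH : g * x * g⁻¹ ∈ H := by
    rw [hHmem, mul_apply, mul_apply]
    have : ρ g⁻¹ w = v := by
      rw [← hg, inv_apply]
    rw [this, h1, hg]
  -- Sylow subgroups of `H`
  have key : ∀ y : L, ∀ hy : y ∈ H, orderOf y = r → ∃ P : Sylow r H, (P : Subgroup H) = Subgroup.zpowers ⟨y, hy⟩ := by
    intro y hy hyr
    have h3 : Nat.card (Subgroup.zpowers (⟨y, hy⟩ : H)) = r := by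
      rw [Nat.card_zpowers, Subgroup.orderOf_mk, hyr]
    have h4 : IsPGroup r (Subgroup.zpowers (⟨y, hy⟩ : H)) := IsPGroup.of_card (n := 1) (by rw [h3, pow_one])
    obtain ⟨P, hP⟩ := h4.exists_le_sylow
    refine ⟨P, ?_⟩
    obtain ⟨k, hk⟩ := P.2.exists_card_eq
    have h5 : k ≤ 1 := by
      by_contra hk2
      apply hL
      have h6 : r ^ 2 ∣ r ^ k := pow_dvd_pow _ (by omega)
      rw [← hk] at h6
      exact (h6.trans (Subgroup.card_subgroup_dvd_card _)).trans (Subgroup.card_subgroup_dvd_card _)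
    refine (Subgroup.eq_of_le_of_card_ge hP ?_).symm
    rw [hk, h3]
    calc r ^ k ≤ r ^ 1 := Nat.pow_le_pow_right hr.pos h5
      _ = r := pow_one r
  obtain ⟨P, hP⟩ := key x hxH hx
  obtain ⟨Q, hQ⟩ := key (g * x * g⁻¹) hgxH (by rw [← MulAut.conj_apply, MulEquiv.orderOf_eq, hx])
  obtain ⟨h, hh⟩ := MulAction.exists_smul_eq H Q P
  refine ⟨h * g, ?_, ?_⟩
  · have h3 : (h * (⟨g * x * g⁻¹, hgxH⟩ : H) * h⁻¹) ∈ (P : Subgroup H) := by
      rw [← hh, Sylow.coe_subgroup_smul]
      refine Subgroup.smul_mem_pointwise_smul _ (MulAut.conj h) _ ?_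
      rw [hQ]
      exact Subgroup.mem_zpowers _
    rw [hP] at h3
    obtain ⟨i, hi⟩ := h3
    have h4 : x ^ i = (h * g) * x * (h * g : L)⁻¹ := by
      have := congrArg Subtype.val hi
      simp only [Subgroup.coe_mul, Subgroup.coe_inv] at this
      rw [mul_inv_rev]
      simp only [mul_assoc] at this ⊢
      exact this
    have hle : (Subgroup.zpowers x).map (MulAut.conj (h * g : L)).toMonoidHom = Subgroup.zpowers x := by
      have h5 : (Subgroup.zpowers x).map (MulAut.conj (h * g : L)).toMonoidHom ≤ Subgroup.zpowers x := by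
        rw [Subgroup.map_le_iff_le_comap, Subgroup.zpowers_le, Subgroup.mem_comap]
        exact ⟨i, h4⟩
      refine Subgroup.eq_of_le_of_card_ge h5 ?_
      rw [Subgroup.card_map_of_injective (MulAut.conj (h * g : L)).injective]
    rw [Subgroup.mem_normalizer_iff]
    intro y
    constructor
    · intro hy
      rw [← hle]
      exact ⟨y, hy, rfl⟩
    · intro hy
      rw [← hle] at hy
      obtain ⟨z, hz, hzy⟩ := hy
      have : z = y := (MulAut.conj (h * g : L)).injective hzy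
      rw [← this]; exact hz
  · rw [mul_apply, hg]
    exact h.2

/-- A `3`-element centralising `x` and moving `v`. -/
theorem exists_three [Finite V] (hL : ¬ 11 ^ 2 ∣ Nat.card L) {x : L} (hx : orderOf x = 11)
    (htr : ∀ v w : V, v ≠ 0 → w ≠ 0 → ∃ g, ρ g v = w) (h4 : Nat.card (Fx ρ x) = 4) {v : V} (hv : v ≠ 0)
    (h1 : ρ x v = v) : ∃ q : L, q * x = x * q ∧ (∃ a : ℕ, q ^ (3 ^ a) = 1) ∧ ρ q v ≠ v := by
  classical
  have h3p : Fact (Nat.Prime 3) := ⟨by norm_num⟩
  let N := Subgroup.normalizer (Subgroup.zpowers x : Set L)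
  have hN : ∀ n ∈ N, ∀ w, ρ x w = w → ρ x (ρ n w) = ρ n w := by
    intro n hn w hw
    have h2 := (Subgroup.mem_normalizer_iff.1 (Subgroup.inv_mem _ hn) x).1 (Subgroup.mem_zpowers x)
    obtain ⟨i, hi⟩ := h2
    have h3 : x * n = n * x ^ i := by
      change x ^ i = _ at hi
      rw [hi]; group
    have h5 : ρ (x ^ i) w = w := (St ρ w).zpow_mem hw i
    rw [← mul_apply, h3, mul_apply, h5]
  -- the three vectors
  let Ω := {w : V // w ≠ 0 ∧ ρ x w = w}
  have hfinΩ : Finite Ω := Subtype.finite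
  have hΩ : Nat.card Ω = 3 := by
    have h2 := card_Om (V := Fx ρ x)
    have h3 : Nat.card (Om (Fx ρ x)) = Nat.card Ω :=
      Nat.card_congr ⟨fun w => ⟨w.1.1, fun h => w.2 (Subtype.ext h), w.1.2⟩,
        fun w => ⟨⟨w.1, w.2.2⟩, fun h => w.2.1 (congrArg Subtype.val h)⟩, fun w => rfl, fun w => rfl⟩
    omega
  let act1 : MulAction N Ω :=
    { smul := fun n w => ⟨ρ n w.1, fun h => w.2.1 ((ρ (n : L)).map_eq_zero_iff.1 h), hN n n.2 w.1 w.2.2⟩
      one_smul := fun w => Subtype.ext (by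
        change ρ 1 w.1 = w.1
        rw [map_one]; rfl)
      mul_smul := fun a c w => Subtype.ext (by
        change ρ (a * c : L) w.1 = ρ a (ρ c w.1)
        rw [mul_apply]) }
  have hsm : ∀ (n : N) (w : Ω), (n • w).1 = ρ n w.1 := fun n w => rfl
  let w₀ : Ω := ⟨v, hv, h1⟩
  have hpre : MulAction.IsPretransitive N Ω := by
    constructor
    intro a c
    obtain ⟨n, hn, hna⟩ := exists_normalizer (by norm_num) hL hx htr a.2.1 c.2.1 a.2.2 c.2.2
    exact ⟨⟨n, hn⟩, Subtype.ext hna⟩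
  have hidx : (MulAction.stabilizer N w₀).index = 3 := by
    rw [MulAction.index_stabilizer_of_transitive, hΩ]
  obtain ⟨Q⟩ : Nonempty (Sylow 3 N) := inferInstance
  have hQ : ¬ (Q : Subgroup N) ≤ MulAction.stabilizer N w₀ := by
    intro hle
    have h2 := Subgroup.index_dvd_of_le hle
    rw [hidx] at h2
    exact Q.not_dvd_index h2
  obtain ⟨q, hq, hqv⟩ := SetLike.not_le_iff_exists.1 hQ
  obtain ⟨a, ha⟩ := Q.2 ⟨q, hq⟩
  have ha' : q ^ 3 ^ a = 1 := congrArg Subtype.val ha
  have ha'' : (q : L) ^ 3 ^ a = 1 := congrArg Subtype.val ha'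
  refine ⟨q, ?_, ⟨a, ha''⟩, fun h => hqv (Subtype.ext h)⟩
  -- `q` centralises `x`
  have hfA : Finite (MulAut (Subgroup.zpowers x)) := inferInstance
  have hA : Nat.card (MulAut (Subgroup.zpowers x)) = 10 := by
    rw [IsCyclic.card_mulAut, Nat.card_zpowers, hx]
    decide
  have h5 : (Subgroup.zpowers x).normalizerMonoidHom q = 1 := by
    rw [← orderOf_eq_one_iff]
    have h6 : orderOf ((Subgroup.zpowers x).normalizerMonoidHom q) ∣ 3 ^ a :=
      orderOf_dvd_of_pow_eq_one (by rw [← map_pow, ha', map_one])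
    have h7 : orderOf ((Subgroup.zpowers x).normalizerMonoidHom q) ∣ 10 := by
      rw [← hA]; exact orderOf_dvd_natCard _
    have h8 : Nat.Coprime (3 ^ a) 10 := Nat.Coprime.pow_left _ (by norm_num)
    exact Nat.dvd_one.1 (h8 ▸ Nat.dvd_gcd h6 h7)
  have h6 := congrArg Subtype.val (DFunLike.congr_fun h5 ⟨x, Subgroup.mem_zpowers x⟩)
  have h7 : (q : L) * x * (q : L)⁻¹ = x := h6
  rwa [mul_inv_eq_iff_eq_mul] at h7

end Sylow

/-- A `3`-element commuting with the `11`-cycle `x` fixes the support of `x`. -/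
theorem fix_of_commute {α : Type*} {x q : Perm α} {i₀ : α} (h0 : x i₀ ≠ i₀) (h1 : ∀ i, x i ≠ i → ∃ j : ℕ, (x ^ j) i₀ = i)
    (h11 : x ^ 11 = 1) (hq : q * x = x * q) {a : ℕ} (ha : q ^ (3 ^ a) = 1) {i : α} (hi : x i ≠ i) : q i = i := by
  have hqx : ∀ k, q (x k) = x (q k) := fun k => by
    have := DFunLike.congr_fun hq k
    exact this
  have hqxn : ∀ n k, q ((x ^ n) k) = (x ^ n) (q k) := by
    intro n
    induction n with
    | zero => intro k; rfl
    | succ n ih =>
      intro k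
      rw [pow_succ', Perm.mul_apply, hqx, ih, Perm.mul_apply]
  obtain ⟨j, hj⟩ := h1 (q i₀) (by
    rw [← hqx]
    exact fun h => h0 (q.injective h))
  have hqm : ∀ m, (q ^ m) i₀ = (x ^ (j * m)) i₀ := by
    intro m
    induction m with
    | zero => rfl
    | succ m ih =>
      rw [pow_succ', Perm.mul_apply, ih, hqxn, ← hj, ← Perm.mul_apply, ← pow_add, Nat.mul_succ]
  have h2 : (x ^ (j * 3 ^ a)) i₀ = i₀ := by
    rw [← hqm, ha]; rfl
  have h3 : Nat.Coprime 11 (3 ^ a) := Nat.Coprime.pow_right _ (by norm_num)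
  obtain ⟨e, he1, he2⟩ := Nat.chineseRemainder h3 1 0
  obtain ⟨c, hc⟩ := Nat.modEq_zero_iff_dvd.1 he2
  have h4 : (x ^ (j * e)) i₀ = i₀ := by
    rw [hc, ← mul_assoc, pow_mul]
    exact Perm.pow_apply_eq_self_of_apply_eq_self h2 c
  have h5 : x ^ (j * e) = x ^ j := by
    have h6 : (j * e) % orderOf x = j % orderOf x := by
      have h7 : j * e ≡ j * 1 [MOD 11] := he1.mul_left j
      rw [mul_one] at h7
      exact h7.of_dvd (orderOf_dvd_of_pow_eq_one h11)
    rw [← pow_mod_orderOf, h6, pow_mod_orderOf]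
  rw [h5, hj] at h4
  obtain ⟨k, hk⟩ := h1 i hi
  rw [← hk, hqxn, h4]

/-! ### Three-cycles without fixed vectors -/

section Fpf

variable {L : Type u} {V : Type v} [Group L] [AddCommGroup V] [Module (ZMod 2) V] {ρ : L →* (V ≃ₗ[ZMod 2] V)}

theorem add_self (v : V) : v + v = 0 := by
  have : (2 : ZMod 2) • v = 0 := by
    rw [show (2 : ZMod 2) = 0 from rfl, zero_smul]
  rwa [two_smul] at this

/-- the eigenspace of `b` on the `a`-invariant subspace `W`: `b = a` -/
def Eq (ρ : L →* (V ≃ₗ[ZMod 2] V)) (W : Submodule (ZMod 2) V) (a b : L) : Submodule (ZMod 2) V where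
  carrier := {v | v ∈ W ∧ ρ b v = ρ a v}
  add_mem' := by
    rintro v w ⟨h1, h2⟩ ⟨h3, h4⟩
    exact ⟨W.add_mem h1 h3, by rw [map_add, map_add, h2, h4]⟩
  zero_mem' := ⟨W.zero_mem, by rw [map_zero, map_zero]⟩
  smul_mem' := by
    rintro c v ⟨h1, h2⟩
    exact ⟨W.smul_mem c h1, by rw [map_smul, map_smul, h2]⟩

theorem mem_Eq {W : Submodule (ZMod 2) V} {a b : L} {v : V} : v ∈ Eq ρ W a b ↔ v ∈ W ∧ ρ b v = ρ a v := Iff.rfl

/-- the splitting -/
theorem card_split [Finite V] {W : Submodule (ZMod 2) V} {a b : L} (hab : a * b = b * a)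
    (ha : ∀ v, v + ρ a v + ρ (a * a) v = 0) (hb : ∀ v, v + ρ b v + ρ (b * b) v = 0) (ha3 : a * (a * a) = 1)
    (hWa : ∀ v ∈ W, ρ a v ∈ W) (hWb : ∀ v ∈ W, ρ b v ∈ W) :
    Nat.card W = Nat.card (Eq ρ W a b) * Nat.card (Eq ρ W (a * a) b) := by
  have hneg : ∀ v : V, -v = v := fun v => by
    rw [neg_eq_iff_add_eq_zero]; exact add_self v
  have ha2 : ∀ v, ρ (a * a) v = v + ρ a v := fun v => by
    have := ha v
    rw [add_eq_zero_iff_eq_neg, hneg] at this
    exact this.symm
  have hb2 : ∀ v, ρ (b * b) v = v + ρ b v := fun v => by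
    have := hb v
    rw [add_eq_zero_iff_eq_neg, hneg] at this
    exact this.symm
  have hc : ∀ v, ρ a (ρ b v) = ρ b (ρ a v) := fun v => by rw [← mul_apply, hab, mul_apply]
  have h3 : ∀ v, ρ a (ρ (a * a) v) = v := fun v => by
    rw [← mul_apply, ha3, map_one]; rfl
  have ha2' : ∀ v, ρ a (ρ a v) = v + ρ a v := fun v => by rw [← mul_apply, ha2]
  have hb2' : ∀ v, ρ b (ρ b v) = v + ρ b v := fun v => by rw [← mul_apply, hb2]
  have hWa2 : ∀ v ∈ W, ρ (a * a) v ∈ W := fun v hv => by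
    rw [mul_apply]; exact hWa _ (hWa _ hv)
  have hk : ∀ v w : V, v + (v + w) = w := fun v w => by rw [← add_assoc, add_self, zero_add]
  rw [← Nat.card_prod]
  refine Nat.card_congr ⟨fun v => ⟨⟨ρ b v + ρ (a * a) v, ?_, ?_⟩, ⟨ρ b v + ρ a v, ?_, ?_⟩⟩,
    fun u => ⟨u.1.1 + u.2.1, W.add_mem u.1.2.1 u.2.2.1⟩, ?_, ?_⟩
  · exact W.add_mem (hWb _ v.2) (hWa2 _ v.2)
  · rw [map_add, map_add, ha2, hb2', map_add, map_add, ha2', hc]
    have h5 : ∀ v bv w : V, v + bv + (bv + w) = v + w := fun v bv w => by rw [add_assoc, hk]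
    rw [h5]
    have h6 : ρ a (v : V) + ((v : V) + ρ a v) = v := by
      rw [add_comm (v : V), hk]
    rw [h6, add_comm]
  · exact W.add_mem (hWb _ v.2) (hWa _ v.2)
  · rw [map_add, map_add, hb2', ha2, ha2, hc, ha2']
    have h6 : ρ a (v : V) + ((v : V) + ρ a v) = v := by
      rw [add_comm (v : V), hk]
    rw [h6]
    abel
  · intro v
    apply Subtype.ext
    change (ρ b v + ρ (a * a) v) + (ρ b v + ρ a v) = (v : V)
    rw [ha2]
    have h5 : ∀ x y z : V, (x + (y + z)) + (x + z) = (x + x) + (z + z) + y := fun x y z => by abel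
    rw [h5, add_self, add_self, zero_add, zero_add]
  · rintro ⟨⟨u, hu, hu'⟩, ⟨w, hw, hw'⟩⟩
    have e1 : ρ b (u + w) + ρ (a * a) (u + w) = u := by
      rw [map_add, hu', hw', map_add, ha2, ha2]
      have h5 : ∀ x y z t : V, (y + (z + t)) + (x + y + (z + t)) = (y + y) + (z + z) + (t + t) + x := fun x y z t => by abel
      rw [h5]
      simp only [add_self, zero_add]
    have e2 : ρ b (u + w) + ρ a (u + w) = w := by
      rw [map_add, hu', hw', map_add, ha2]
      have h5 : ∀ y z t : V, (y + (z + t)) + (y + t) = (y + y) + (t + t) + z := fun y z t => by abel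
      rw [h5]
      simp only [add_self, zero_add]
    refine Prod.ext (Subtype.ext e1) (Subtype.ext e2)

/-- conjugation -/
theorem card_Eq_conj {W : Submodule (ZMod 2) V} {a b a' b' h : L} (hha : h * a = a' * h)
    (hhb : h * b = b' * h) (hW : ∀ v, v ∈ W ↔ ρ h v ∈ W) : Nat.card (Eq ρ W a b) = Nat.card (Eq ρ W a' b') := by
  have e1 : ∀ v, ρ a' (ρ h v) = ρ h (ρ a v) := fun v => by rw [← mul_apply, ← hha, mul_apply]
  have e2 : ∀ v, ρ b' (ρ h v) = ρ h (ρ b v) := fun v => by rw [← mul_apply, ← hhb, mul_apply]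
  refine Nat.card_congr ⟨fun v => ⟨ρ h v, (hW _).1 v.2.1, ?_⟩, fun v => ⟨ρ h⁻¹ v, (hW _).2 ?_, ?_⟩, ?_, ?_⟩
  · rw [e2, e1, v.2.2]
  · rw [apply_inv]; exact v.2.1
  · apply (ρ h).injective
    rw [← e1, ← e2, apply_inv]
    exact v.2.2
  · intro v
    exact Subtype.ext (inv_apply h v.1)
  · intro v
    exact Subtype.ext (apply_inv h v.1)

theorem Eq_swap {W : Submodule (ZMod 2) V} {a b : L} (hab : a * b = b * a) (ha3 : a * (a * a) = 1)
    (hb3 : b * (b * b) = 1) : Eq ρ W a (b * b) = Eq ρ W (a * a) b := by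
  ext v
  rw [mem_Eq, mem_Eq]
  refine and_congr_right fun _ => ?_
  constructor
  · intro h
    have h1 : ρ b (ρ (b * b) v) = v := by rw [← mul_apply, hb3, map_one]; rfl
    rw [h] at h1
    have h2 : ρ (a * a) v = ρ (a * a) (ρ b (ρ a v)) := by rw [h1]
    rw [h2, ← mul_apply, ← mul_apply]
    congr 2
    calc b = a * (a * a) * b := by rw [ha3, one_mul]
      _ = a * a * (a * b) := by group
      _ = a * a * (b * a) := by rw [hab]
      _ = a * a * b * a := by group
  · intro h
    have h1 : ρ a (ρ (a * a) v) = v := by rw [← mul_apply, ha3, map_one]; rfl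
    rw [← h] at h1
    have h2 : ρ (b * b) v = ρ (b * b) (ρ a (ρ b v)) := by rw [h1]
    rw [h2, ← mul_apply, ← mul_apply]
    congr 2
    calc b * b * a * b = b * b * (a * b) := by group
      _ = b * b * (b * a) := by rw [hab]
      _ = b * (b * b) * a := by group
      _ = a := by rw [hb3, one_mul]

/-- Three commuting elements of order three without fixed vectors, the second and the third inverted independently:
the dimension is divisible by `8`. -/
theorem three_fpf [Finite V] {a b c h k : L} (hab : a * b = b * a) (hac : a * c = c * a) (hbc : b * c = c * b)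
    (ha : ∀ v, v + ρ a v + ρ (a * a) v = 0) (hb : ∀ v, v + ρ b v + ρ (b * b) v = 0)
    (hc : ∀ v, v + ρ c v + ρ (c * c) v = 0) (ha3 : a * (a * a) = 1) (hb3 : b * (b * b) = 1) (hc3 : c * (c * c) = 1)
    (hha : h * a = a * h) (hhb : h * b = b * b * h) (hka : k * a = a * k) (hkb : k * b = b * k)
    (hkc : k * c = c * c * k) (hfix : ∀ v, ρ a v = v → v = 0) : ∃ m, Nat.card V = m ^ 4 ∧ m ≡ 1 [MOD 3] := by
  have h3 : Fact (Nat.Prime 3) := ⟨by norm_num⟩
  have h1 := card_split (ρ := ρ) (W := ⊤) hab ha hb ha3 (fun _ _ => trivial) (fun _ _ => trivial)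
  rw [← Eq_swap hab ha3 hb3, ← card_Eq_conj (ρ := ρ) (W := ⊤) hha hhb
    (fun v => ⟨fun _ => Submodule.mem_top, fun _ => Submodule.mem_top⟩), Nat.card_congr (Equiv.subtypeUnivEquiv (fun _ => trivial) : (⊤ : Submodule (ZMod 2) V) ≃ V)] at h1
  have hUa : ∀ v ∈ Eq ρ ⊤ a b, ρ a v ∈ Eq ρ ⊤ a b := by
    rintro v ⟨-, h2⟩
    refine ⟨trivial, ?_⟩
    rw [← mul_apply, ← hab, mul_apply, h2]
  have hUc : ∀ v ∈ Eq ρ ⊤ a b, ρ c v ∈ Eq ρ ⊤ a b := by
    rintro v ⟨-, h2⟩
    refine ⟨trivial, ?_⟩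
    rw [← mul_apply, hbc, mul_apply, h2, ← mul_apply, ← hac, mul_apply]
  have h2 := card_split (ρ := ρ) (W := Eq ρ ⊤ a b) hac ha hc ha3 hUa hUc
  have hUk : ∀ v, v ∈ Eq ρ ⊤ a b ↔ ρ k v ∈ Eq ρ ⊤ a b := by
    intro v
    rw [mem_Eq, mem_Eq, ← mul_apply, ← mul_apply, ← hka, ← hkb, mul_apply, mul_apply]
    simp
  rw [← Eq_swap hac ha3 hc3, ← card_Eq_conj hka hkc hUk] at h2
  refine ⟨Nat.card (Eq ρ (Eq ρ ⊤ a b) a c), by rw [h1, h2]; ring, ?_⟩
  have h4 := modEq (ρ := ρ) (r := 3) (g := a) (by rw [← ha3, pow_succ, pow_two, mul_assoc]) (Eq ρ (Eq ρ ⊤ a b) a c) (by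
    rintro v ⟨h5, h6⟩
    refine ⟨hUa v h5, ?_⟩
    rw [← mul_apply, ← hac, mul_apply, h6])
  have h5 : Eq ρ (Eq ρ ⊤ a b) a c ⊓ Fx ρ a = ⊥ := by
    rw [eq_bot_iff]
    rintro v ⟨-, hv⟩
    exact hfix v hv
  rw [h5] at h4
  have h6 : Nat.card (⊥ : Submodule (ZMod 2) V) = 1 := by
    rw [Nat.card_eq_one_iff_unique]
    exact ⟨inferInstance, ⟨0⟩⟩
  rwa [h6] at h4

/-- `g - 1` -/
def Dg (ρ : L →* (V ≃ₗ[ZMod 2] V)) (g : L) : V →ₗ[ZMod 2] V := (ρ g : V →ₗ[ZMod 2] V) - LinearMap.id

theorem Dg_apply (g : L) (v : V) : Dg ρ g v = ρ g v - v := rfl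

theorem card_range [Finite V] (g : L) : Nat.card (LinearMap.range (Dg ρ g)) * Nat.card (Fx ρ g) = Nat.card V := by
  have hfd : Module.Finite (ZMod 2) V := Module.Finite.of_finite
  have h1 : LinearMap.ker (Dg ρ g) = Fx ρ g := by
    ext v
    rw [LinearMap.mem_ker, Dg_apply, sub_eq_zero, mem_Fx]
  rw [← h1, card_sub, card_sub, ← pow_add, LinearMap.finrank_range_add_finrank_ker,
    Module.natCard_eq_pow_finrank (K := ZMod 2) (V := V), Nat.card_zmod]

theorem card_Fx_conj (g h : L) : Nat.card (Fx ρ (h * g * h⁻¹)) = Nat.card (Fx ρ g) := by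
  refine Nat.card_congr ⟨fun v => ⟨ρ h⁻¹ v, ?_⟩, fun v => ⟨ρ h v, ?_⟩, ?_, ?_⟩
  · rw [mem_Fx]
    apply (ρ h).injective
    rw [apply_inv]
    have := v.2
    rw [mem_Fx, mul_apply, mul_apply] at this
    exact this
  · rw [mem_Fx, mul_apply, mul_apply, inv_apply, v.2]
  · intro v
    exact Subtype.ext (apply_inv h v.1)
  · intro v
    exact Subtype.ext (inv_apply h v.1)

/-- The conjugates of `t` are not too few: counting. -/
theorem count_conj [Finite V] (htr : ∀ v w : V, v ≠ 0 → w ≠ 0 → ∃ g, ρ g v = w) {t : L} {C : Finset L}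
    (hC : ∀ g, g * t * g⁻¹ ∈ C) {m : ℕ} (hm : Nat.card V = m * Nat.card (Fx ρ t)) (ht : ρ t ≠ 1) :
    Nat.card V ≤ C.card * m := by
  classical
  have := Fintype.ofFinite V
  have hpos : 0 < Nat.card (Fx ρ t) := Nat.card_pos
  let f : L → Finset V := fun c => Finset.univ.filter fun v => v ∈ LinearMap.range (Dg ρ c)
  let C' := C.filter fun c => ∃ g, c = g * t * g⁻¹
  have hf : ∀ c ∈ C', (f c).card = m := by
    intro c hc
    obtain ⟨-, g, rfl⟩ := Finset.mem_filter.1 hc
    have h1 := card_range (ρ := ρ) (g * t * g⁻¹)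
    rw [card_Fx_conj, hm] at h1
    have h2 := Nat.eq_of_mul_eq_mul_right hpos h1
    rw [← h2, ← Nat.card_eq_finsetCard]
    exact Nat.card_congr (Equiv.subtypeEquivRight fun v => by rw [Finset.mem_filter]; simp)
  have hun : (Finset.univ : Finset V) ⊆ C'.biUnion f := by
    intro v _
    rw [Finset.mem_biUnion]
    rcases eq_or_ne v 0 with rfl | hv
    · exact ⟨t, Finset.mem_filter.2 ⟨by simpa using hC 1, 1, by simp⟩,
        Finset.mem_filter.2 ⟨Finset.mem_univ _, Submodule.zero_mem _⟩⟩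
    · obtain ⟨w, hw⟩ : ∃ w, ρ t w - w ≠ 0 := by
        by_contra hcon
        push Not at hcon
        apply ht
        ext w
        exact sub_eq_zero.1 (hcon w)
      obtain ⟨g, hg⟩ := htr _ _ hw hv
      refine ⟨g * t * g⁻¹, Finset.mem_filter.2 ⟨hC g, g, rfl⟩, Finset.mem_filter.2 ⟨Finset.mem_univ _, ρ g w, ?_⟩⟩
      rw [Dg_apply, mul_apply, mul_apply, inv_apply, ← hg, map_sub]
  calc Nat.card V = (Finset.univ : Finset V).card := by rw [Nat.card_eq_fintype_card, Finset.card_univ]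
    _ ≤ (C'.biUnion f).card := Finset.card_le_card hun
    _ ≤ ∑ c ∈ C', (f c).card := Finset.card_biUnion_le
    _ = C'.card * m := by rw [Finset.sum_congr rfl hf, Finset.sum_const, smul_eq_mul]
    _ ≤ C.card * m := Nat.mul_le_mul_right _ (Finset.card_filter_le _ _)

end Fpf

/-! ### `A_13` -/

section Thirteen

/-- the `11`-cycle -/
def x13 : Perm (Fin 13) :=
  ⟨![1, 2, 3, 4, 5, 6, 7, 8, 9, 10, 0, 11, 12], ![10, 0, 1, 2, 3, 4, 5, 6, 7, 8, 9, 11, 12], by decide, by decide⟩

theorem x13_pow : x13 ^ 11 = 1 := by decide +kernel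

theorem sign_of_pow {α : Type*} [Fintype α] [DecidableEq α] {x : Perm α} {n : ℕ} (hn : Odd n) (h : x ^ n = 1) :
    x ∈ alternatingGroup α := by
  rw [Perm.mem_alternatingGroup]
  have h1 : Perm.sign x ^ n = 1 := by rw [← map_pow, h, map_one]
  rcases Int.units_eq_one_or (Perm.sign x) with h2 | h2
  · exact h2
  · rw [h2, hn.neg_one_pow] at h1
    exact absurd h1 (by decide)

theorem card_Fx_eleven {L : Type u} [Group L] {V : Type v} [AddCommGroup V] [Module (ZMod 2) V] [Finite V]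
    (hV : Nat.card V = 2 ^ 12) {ρ : L →* (V ≃ₗ[ZMod 2] V)} {x : L} (hx : x ^ 11 = 1) (hne : Fx ρ x ≠ ⊤) :
    Nat.card (Fx ρ x) = 4 := by
  have h11 : Fact (Nat.Prime 11) := ⟨by norm_num⟩
  obtain ⟨k, -, hk2, hk3⟩ := exists_pow hV (Fx ρ x)
  have hk4 := hk3 hne
  have h1 := modEq_top (ρ := ρ) hx
  rw [hV, hk2] at h1
  rw [hk2]
  interval_cases k <;> revert h1 <;> decide

theorem exists_fixed {L : Type u} [Group L] {V : Type v} [AddCommGroup V] [Module (ZMod 2) V] [Finite V]
    {ρ : L →* (V ≃ₗ[ZMod 2] V)} {x : L} (h : Nat.card (Fx ρ x) = 4) : ∃ v : V, v ≠ 0 ∧ ρ x v = v := by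
  have h1 : 1 < Nat.card (Fx ρ x) := by omega
  have : Nontrivial (Fx ρ x) := Finite.one_lt_card_iff_nontrivial.1 h1
  obtain ⟨v, hv⟩ := exists_ne (0 : Fx ρ x)
  exact ⟨v, fun h => hv (Subtype.ext h), v.2⟩

theorem two_card_alt (n : ℕ) (hn : 2 ≤ n) : 2 * Nat.card (alternatingGroup (Fin n)) = n.factorial := by
  have : Nontrivial (Fin n) := Fin.nontrivial_iff_two_le.2 hn
  have h := two_mul_nat_card_alternatingGroup (α := Fin n)
  rw [h, Nat.card_perm, Nat.card_fin]

theorem x13_cyc : ∀ i, x13 i ≠ i → ∃ j : ℕ, (x13 ^ j) 0 = i := by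
  have : ∀ i : Fin 13, x13 i ≠ i → ∃ j : Fin 11, (x13 ^ j.1) 0 = i := by decide +kernel
  intro i hi
  obtain ⟨j, hj⟩ := this i hi
  exact ⟨j, hj⟩

theorem no13 {V : Type v} [AddCommGroup V] [Module (ZMod 2) V] [Finite V] (hV : Nat.card V = 2 ^ 12)
    (ρ : alternatingGroup (Fin 13) →* (V ≃ₗ[ZMod 2] V)) (hinj : Function.Injective ρ)
    (htr : ∀ v w : V, v ≠ 0 → w ≠ 0 → ∃ g, ρ g v = w) : False := by
  have h11 : Fact (Nat.Prime 11) := ⟨by norm_num⟩
  let x : alternatingGroup (Fin 13) := ⟨x13, sign_of_pow (by decide) x13_pow⟩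
  have hx11 : x ^ 11 = 1 := Subtype.ext x13_pow
  have hx1 : x ≠ 1 := by
    intro h
    have := congrArg (fun y : alternatingGroup (Fin 13) => (y : Perm (Fin 13)) 0) h
    exact absurd this (by decide)
  have hx : orderOf x = 11 := orderOf_eq_prime hx11 hx1
  have h4 := card_Fx_eleven hV (ρ := ρ) hx11 (fun h => hx1 (Fx_eq_top hinj h))
  have hL : ¬ 11 ^ 2 ∣ Nat.card (alternatingGroup (Fin 13)) := by
    intro h
    have h1 := (Dvd.dvd.mul_left h 2).trans (two_card_alt 13 (by norm_num)).dvd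
    exact absurd h1 (by decide)
  obtain ⟨v, hv, hxv⟩ := exists_fixed h4
  obtain ⟨q, hq, ⟨a, ha⟩, hqv⟩ := exists_three hL hx htr h4 hv hxv
  have hfix : ∀ i, x13 i ≠ i → (q : Perm (Fin 13)) i = i := fun i hi =>
    fix_of_commute (x := x13) (i₀ := 0) (by decide) x13_cyc x13_pow (congrArg Subtype.val hq) (a := a)
      (congrArg Subtype.val ha) hi
  have hsupp : ∀ i : Fin 13, i.1 < 11 → x13 i ≠ i := by decide
  have hfix' : ∀ i : Fin 13, i.1 < 11 → (q : Perm (Fin 13)) i = i := fun i hi => hfix i (hsupp i hi)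
  have h5 : ∀ j : Fin 13, (∀ i : Fin 13, i.1 < 11 → j ≠ i) → j = 11 ∨ j = 12 := by decide
  have h6 : ∀ k : Fin 13, ¬ k.1 < 11 → (q : Perm (Fin 13)) k = 11 ∨ (q : Perm (Fin 13)) k = 12 := by
    intro k hk
    refine h5 _ fun i hi h => hk ?_
    rw [← hfix' i hi] at h
    rw [(q : Perm (Fin 13)).injective h]
    exact hi
  have h7 : (q : Perm (Fin 13)) = 1 ∨ (q : Perm (Fin 13)) = swap 11 12 := by
    rcases h6 11 (by decide) with h | h
    · left
      have h8 : (q : Perm (Fin 13)) 12 = 12 := by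
        rcases h6 12 (by decide) with h' | h'
        · exact absurd ((q : Perm (Fin 13)).injective (h'.trans h.symm)) (by decide)
        · exact h'
      ext i
      rcases Nat.lt_or_ge i.1 11 with hi | hi
      · rw [hfix' i hi]; rfl
      · have : i = 11 ∨ i = 12 := by revert i; decide
        rcases this with rfl | rfl
        · rw [h]; rfl
        · rw [h8]; rfl
    · right
      have h8 : (q : Perm (Fin 13)) 12 = 11 := by
        rcases h6 12 (by decide) with h' | h'
        · exact h'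
        · exact absurd ((q : Perm (Fin 13)).injective (h'.trans h.symm)) (by decide)
      ext i
      rcases Nat.lt_or_ge i.1 11 with hi | hi
      · rw [hfix' i hi, swap_apply_of_ne_of_ne (by rintro rfl; exact absurd hi (by decide))
          (by rintro rfl; exact absurd hi (by decide))]
      · have : i = 11 ∨ i = 12 := by revert i; decide
        rcases this with rfl | rfl
        · rw [h]; rfl
        · rw [h8]; rfl
  rcases h7 with h7 | h7
  · apply hqv
    have : q = 1 := Subtype.ext h7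
    rw [this, map_one]; rfl
  · have h8 := Perm.mem_alternatingGroup.1 q.2
    rw [h7, Perm.sign_swap (by decide)] at h8
    exact absurd h8 (by decide)

end Thirteen

/-! ### `A_14` -/

section Fourteen

/-- the `11`-cycle -/
def x14 : Perm (Fin 14) :=
  ⟨![1, 2, 3, 4, 5, 6, 7, 8, 9, 10, 0, 11, 12, 13], ![10, 0, 1, 2, 3, 4, 5, 6, 7, 8, 9, 11, 12, 13], by decide,
    by decide⟩

/-- the `3`-cycle `(11, 12, 13)` -/
def t14 : Perm (Fin 14) :=
  ⟨![0, 1, 2, 3, 4, 5, 6, 7, 8, 9, 10, 12, 13, 11], ![0, 1, 2, 3, 4, 5, 6, 7, 8, 9, 10, 13, 11, 12], by decide,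
    by decide⟩

/-- the `3`-cycle `(0, 1, 2)` -/
def b14 : Perm (Fin 14) :=
  ⟨![1, 2, 0, 3, 4, 5, 6, 7, 8, 9, 10, 11, 12, 13], ![2, 0, 1, 3, 4, 5, 6, 7, 8, 9, 10, 11, 12, 13], by decide,
    by decide⟩

/-- the `3`-cycle `(3, 4, 5)` -/
def c14 : Perm (Fin 14) :=
  ⟨![0, 1, 2, 4, 5, 3, 6, 7, 8, 9, 10, 11, 12, 13], ![0, 1, 2, 5, 3, 4, 6, 7, 8, 9, 10, 11, 12, 13], by decide,
    by decide⟩

/-- `(0, 1) (6, 7)` -/
def h14 : Perm (Fin 14) :=
  ⟨![1, 0, 2, 3, 4, 5, 7, 6, 8, 9, 10, 11, 12, 13], ![1, 0, 2, 3, 4, 5, 7, 6, 8, 9, 10, 11, 12, 13], by decide,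
    by decide⟩

/-- `(3, 4) (6, 7)` -/
def k14 : Perm (Fin 14) :=
  ⟨![0, 1, 2, 4, 3, 5, 7, 6, 8, 9, 10, 11, 12, 13], ![0, 1, 2, 4, 3, 5, 7, 6, 8, 9, 10, 11, 12, 13], by decide,
    by decide⟩

theorem x14_pow : x14 ^ 11 = 1 := by decide +kernel
theorem t14_pow : t14 ^ 3 = 1 := by decide +kernel
theorem b14_pow : b14 ^ 3 = 1 := by decide +kernel
theorem c14_pow : c14 ^ 3 = 1 := by decide +kernel
theorem h14_mem : h14 ∈ alternatingGroup (Fin 14) := by
  rw [Perm.mem_alternatingGroup, show h14 = swap 0 1 * swap 6 7 by decide +kernel, map_mul, Perm.sign_swap (by decide),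
    Perm.sign_swap (by decide)]
  rfl
theorem k14_mem : k14 ∈ alternatingGroup (Fin 14) := by
  rw [Perm.mem_alternatingGroup, show k14 = swap 3 4 * swap 6 7 by decide +kernel, map_mul, Perm.sign_swap (by decide),
    Perm.sign_swap (by decide)]
  rfl

theorem t14_three : t14.IsThreeCycle := by
  rw [show t14 = swap 11 13 * swap 11 12 by decide +kernel]
  exact Perm.isThreeCycle_swap_mul_swap_same (by decide) (by decide) (by decide)
theorem b14_three : b14.IsThreeCycle := by
  rw [show b14 = swap 0 2 * swap 0 1 by decide +kernel]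
  exact Perm.isThreeCycle_swap_mul_swap_same (by decide) (by decide) (by decide)
theorem c14_three : c14.IsThreeCycle := by
  rw [show c14 = swap 3 5 * swap 3 4 by decide +kernel]
  exact Perm.isThreeCycle_swap_mul_swap_same (by decide) (by decide) (by decide)

theorem x14_cyc : ∀ i, x14 i ≠ i → ∃ j : ℕ, (x14 ^ j) 0 = i := by
  have : ∀ i : Fin 14, x14 i ≠ i → ∃ j : Fin 11, (x14 ^ j.1) 0 = i := by decide +kernel
  intro i hi
  obtain ⟨j, hj⟩ := this i hi
  exact ⟨j, hj⟩

/-- an even permutation moving at most two points is trivial -/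
theorem eq_one_of_fix {α : Type*} [Fintype α] [DecidableEq α] {s : Perm α} (hs : s ∈ alternatingGroup α) {a b : α}
    (h : ∀ i, i ≠ a → i ≠ b → s i = i) : s = 1 := by
  have h1 : s.support ⊆ {a, b} := by
    intro i hi
    rw [Perm.mem_support] at hi
    rw [Finset.mem_insert, Finset.mem_singleton]
    by_contra hcon
    rw [not_or] at hcon
    exact hi (h i hcon.1 hcon.2)
  have h2 : s.support.card ≤ 2 := (Finset.card_le_card h1).trans Finset.card_le_two
  have h3 := Perm.card_support_ne_one s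
  rcases Nat.lt_or_ge s.support.card 2 with h4 | h4
  · have h5 : s.support.card = 0 := by omega
    rwa [Finset.card_eq_zero, Perm.support_eq_empty_iff] at h5
  · have h5 : s.support.card = 2 := by omega
    have h6 := (Perm.card_support_eq_two.1 h5).sign_eq
    rw [Perm.mem_alternatingGroup.1 hs] at h6
    exact absurd h6 (by decide)

/-- even permutations of the three last points -/
theorem q14 {q : Perm (Fin 14)} (hq : q ∈ alternatingGroup (Fin 14)) (hfix : ∀ i : Fin 14, i.1 < 11 → q i = i) :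
    q = 1 ∨ q = t14 ∨ q = t14 * t14 := by
  have ht : t14 ∈ alternatingGroup (Fin 14) := sign_of_pow (by decide) t14_pow
  have h5 : ∀ j : Fin 14, (∀ i : Fin 14, i.1 < 11 → j ≠ i) → j = 11 ∨ j = 12 ∨ j = 13 := by decide
  have h6 : q 13 = 11 ∨ q 13 = 12 ∨ q 13 = 13 := by
    refine h5 _ fun i hi h => ?_
    rw [← hfix i hi] at h
    rw [← q.injective h] at hi
    exact absurd hi (by decide)
  have h7 : ∀ i : Fin 14, i ≠ 11 → i ≠ 12 → i = 13 ∨ i.1 < 11 := by decide
  have htt : ∀ i : Fin 14, i.1 < 11 → t14 i = i := by decide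
  rcases h6 with h | h | h
  · -- `t² q` fixes `13`
    have h8 : t14 * t14 * q = 1 := by
      refine eq_one_of_fix (mul_mem (mul_mem ht ht) hq) (a := 11) (b := 12) fun i h1 h2 => ?_
      rcases h7 i h1 h2 with rfl | h3
      · rw [Perm.mul_apply, h]; decide
      · rw [Perm.mul_apply, hfix i h3, Perm.mul_apply, htt i h3, htt i h3]
    right; left
    have h9 : t14 * (t14 * t14 * q) = q := by
      rw [← mul_assoc, ← mul_assoc, show t14 * t14 * t14 = 1 by decide +kernel, one_mul]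
    rw [← h9, h8, mul_one]
  · -- `t q` fixes `13`
    have h8 : t14 * q = 1 := by
      refine eq_one_of_fix (mul_mem ht hq) (a := 11) (b := 12) fun i h1 h2 => ?_
      rcases h7 i h1 h2 with rfl | h3
      · rw [Perm.mul_apply, h]; decide
      · rw [Perm.mul_apply, hfix i h3, htt i h3]
    right; right
    have h9 : t14 * t14 * (t14 * q) = q := by
      rw [← mul_assoc, show t14 * t14 * t14 = 1 by decide +kernel, one_mul]
    rw [← h9, h8, mul_one]
  · left
    refine eq_one_of_fix hq (a := 11) (b := 12) fun i h1 h2 => ?_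
    rcases h7 i h1 h2 with rfl | h3
    · exact h
    · exact hfix i h3

theorem no14 {V : Type v} [AddCommGroup V] [Module (ZMod 2) V] [Finite V] (hV : Nat.card V = 2 ^ 12)
    (ρ : alternatingGroup (Fin 14) →* (V ≃ₗ[ZMod 2] V)) (hinj : Function.Injective ρ)
    (htr : ∀ v w : V, v ≠ 0 → w ≠ 0 → ∃ g, ρ g v = w) : False := by
  classical
  have h11 : Fact (Nat.Prime 11) := ⟨by norm_num⟩
  let x : alternatingGroup (Fin 14) := ⟨x14, sign_of_pow (by decide) x14_pow⟩
  let t : alternatingGroup (Fin 14) := ⟨t14, sign_of_pow (by decide) t14_pow⟩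
  let b : alternatingGroup (Fin 14) := ⟨b14, sign_of_pow (by decide) b14_pow⟩
  let c : alternatingGroup (Fin 14) := ⟨c14, sign_of_pow (by decide) c14_pow⟩
  let h : alternatingGroup (Fin 14) := ⟨h14, h14_mem⟩
  let k : alternatingGroup (Fin 14) := ⟨k14, k14_mem⟩
  have hx11 : x ^ 11 = 1 := Subtype.ext x14_pow
  have hx1 : x ≠ 1 := by
    intro h
    have := congrArg (fun y : alternatingGroup (Fin 14) => (y : Perm (Fin 14)) 0) h
    exact absurd this (by decide)
  have ht1 : t ≠ 1 := by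
    intro h
    have := congrArg (fun y : alternatingGroup (Fin 14) => (y : Perm (Fin 14)) 11) h
    exact absurd this (by decide)
  have hx : orderOf x = 11 := orderOf_eq_prime hx11 hx1
  have h4 := card_Fx_eleven hV (ρ := ρ) hx11 (fun h => hx1 (Fx_eq_top hinj h))
  have hL : ¬ 11 ^ 2 ∣ Nat.card (alternatingGroup (Fin 14)) := by
    intro h
    have h1 := (Dvd.dvd.mul_left h 2).trans (two_card_alt 14 (by norm_num)).dvd
    exact absurd h1 (by decide)
  have hsupp : ∀ i : Fin 14, i.1 < 11 → x14 i ≠ i := by decide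
  -- `t` has no fixed vectors in `C_V(x)`
  have hxt : ∀ v, v ≠ 0 → ρ x v = v → ρ t v ≠ v := by
    intro v hv hxv htv
    obtain ⟨q, hq, ⟨a, ha⟩, hqv⟩ := exists_three hL hx htr h4 hv hxv
    have hfix' : ∀ i : Fin 14, i.1 < 11 → (q : Perm (Fin 14)) i = i := fun i hi =>
      fix_of_commute (x := x14) (i₀ := 0) (by decide) x14_cyc x14_pow (congrArg Subtype.val hq) (a := a)
        (congrArg Subtype.val ha) (hsupp i hi)
    apply hqv
    rcases q14 q.2 hfix' with h7 | h7 | h7
    · have : q = 1 := Subtype.ext h7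
      rw [this, map_one]; rfl
    · have : q = t := Subtype.ext h7
      rw [this, htv]
    · have : q = t * t := Subtype.ext h7
      rw [this, mul_apply, htv, htv]
  have hcomm : x * t = t * x := Subtype.ext (show x14 * t14 = t14 * x14 by decide +kernel)
  have hcard : Nat.card (Fx ρ t) ≡ 1 [MOD 11] := by
    have h5 := modEq (ρ := ρ) hx11 (Fx ρ t) (fun v hv => by
      rw [mem_Fx, ← mul_apply, ← hcomm, mul_apply, hv])
    have h6 : Fx ρ t ⊓ Fx ρ x = ⊥ := by
      rw [eq_bot_iff]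
      rintro v ⟨hv, hv'⟩
      by_contra hv0
      exact hxt v hv0 hv' hv
    have h7 : Nat.card (⊥ : Submodule (ZMod 2) V) = 1 := by
      rw [Nat.card_eq_one_iff_unique]
      exact ⟨inferInstance, ⟨0⟩⟩
    rwa [h6, h7] at h5
  obtain ⟨e, he, hFt, -⟩ := exists_pow hV (Fx ρ t)
  rw [hFt] at hcard
  have he2 : e = 0 ∨ e = 10 := by
    interval_cases e <;> first | exact Or.inl rfl | exact Or.inr rfl | exact absurd hcard (by decide)
  rcases he2 with rfl | rfl
  · -- no fixed vectors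
    have hcj : ∀ s : alternatingGroup (Fin 14), (s : Perm (Fin 14)).IsThreeCycle → ∀ v, ρ s v = v → v = 0 := by
      intro s hs v hv
      obtain ⟨g, hg⟩ := isConj_iff.1 (alternatingGroup.isThreeCycle_isConj (by simp) (σ := t) (τ := s) t14_three hs)
      have h5 := card_Fx_conj (ρ := ρ) t g
      rw [hg, hFt, pow_zero, Nat.card_eq_one_iff_unique] at h5
      have h6 := h5.1.elim (⟨v, hv⟩ : Fx ρ s) 0
      exact congrArg Subtype.val h6
    have hsum : ∀ s : alternatingGroup (Fin 14), (s : Perm (Fin 14)).IsThreeCycle → s * (s * s) = 1 →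
        ∀ v, v + ρ s v + ρ (s * s) v = 0 := by
      intro s hs hs3 v
      apply hcj s hs
      rw [map_add, map_add, ← mul_apply, ← mul_apply, hs3, map_one]
      change ρ s v + ρ (s * s) v + v = _
      abel
    have ht3 : t * (t * t) = 1 := Subtype.ext (show t14 * (t14 * t14) = 1 by decide +kernel)
    have hb3 : b * (b * b) = 1 := Subtype.ext (show b14 * (b14 * b14) = 1 by decide +kernel)
    have hc3 : c * (c * c) = 1 := Subtype.ext (show c14 * (c14 * c14) = 1 by decide +kernel)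
    obtain ⟨m, hm, hm3⟩ := three_fpf (ρ := ρ) (a := t) (b := b) (c := c) (h := h) (k := k)
      (Subtype.ext (show t14 * b14 = b14 * t14 by decide +kernel))
      (Subtype.ext (show t14 * c14 = c14 * t14 by decide +kernel))
      (Subtype.ext (show b14 * c14 = c14 * b14 by decide +kernel))
      (hsum t t14_three ht3) (hsum b b14_three hb3) (hsum c c14_three hc3) ht3 hb3 hc3
      (Subtype.ext (show h14 * t14 = t14 * h14 by decide +kernel))
      (Subtype.ext (show h14 * b14 = b14 * b14 * h14 by decide +kernel))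
      (Subtype.ext (show k14 * t14 = t14 * k14 by decide +kernel))
      (Subtype.ext (show k14 * b14 = b14 * k14 by decide +kernel))
      (Subtype.ext (show k14 * c14 = c14 * c14 * k14 by decide +kernel))
      (hcj t t14_three)
    rw [hV] at hm
    have : m = 8 := by
      have h5 : (8 : ℕ) ^ 4 = m ^ 4 := by rw [← hm]; norm_num
      exact (Nat.pow_left_injective (by norm_num : 4 ≠ 0) h5).symm
    rw [this] at hm3
    exact absurd hm3 (by decide)
  · -- `10`-dimensional fixed space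
    let C : Finset (alternatingGroup (Fin 14)) := Finset.univ.filter fun g => (g : Perm (Fin 14)).cycleType = {3}
    have hC : C.card ≤ 728 := by
      have h5 : C.card ≤ (Finset.univ.filter fun g : Perm (Fin 14) => g.cycleType = {3}).card := by
        refine Finset.card_le_card_of_injOn (fun g => (g : Perm (Fin 14))) ?_ ?_
        · intro g hg
          exact Finset.mem_coe.2 (Finset.mem_filter.2 ⟨Finset.mem_univ _, (Finset.mem_filter.1 (Finset.mem_coe.1 hg)).2⟩)
        · intro g _ g' _ h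
          exact Subtype.ext h
      rw [Perm.card_of_cycleType_singleton (by norm_num) (by simp), Fintype.card_fin] at h5
      exact h5.trans (by decide)
    have h5 := count_conj (ρ := ρ) htr (t := t) (C := C) (fun g => Finset.mem_filter.2 ⟨Finset.mem_univ _, by
      have h6 : (t : Perm (Fin 14)).cycleType = {3} := t14_three
      rw [← h6]
      exact Perm.cycleType_conj⟩) (m := 4) (by rw [hV, hFt]; norm_num) (fun h5 => ht1 (hinj (by rw [h5, map_one])))
    rw [hV] at h5
    omega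

end Fourteen

end Cfsg.Agent.H874.HerAltN
end
end
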