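import Cfsg.Agent.H479.GoodPSLTwoB
import Cfsg.Agent.H603.SporElim
import Cfsg.Agent.McLType.ThreeElts
import Cfsg.Agent.H613.Ly5.ThirtyOne
import Cfsg.Agent.H60.SylTool
import Cfsg.Agent.Lib.ListFast
import Cfsg.Agent.Lib.DivFast
import Cfsg.Agent.Prune
set_option linter.all false
open scoped Cfsg.Agent.FastGrp

-- part: H465/SpRows
section
/-!
# Solvably unique elements of sporadic groups: the rows by arithmetic (helper465)

M11, M12, M22, M23, M24, Co3, J1, J3, J4, HN, Th, HS, O'N, Ru, Fi24', Ly, M.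
-/

set_option autoImplicit false

namespace Cfsg.Agent.H465.SpRows

open Cfsg Cfsg.Agent Cfsg.Agent.H465.SU

theorem m11 {G : Type*} [Group G] [Finite G] (h : Spor.IsoM11 G) : HasSU1 G :=
  of_list (p := 11) [(2, 4), (3, 2), (5, 1)] (NotCT.Orders.m11 h) (by norm_num) (by norm_num)
    (by norm_num) (by norm_num) (by decide +kernel) (by decide +kernel) (by norm_num)

theorem m12 {G : Type*} [Group G] [Finite G] (h : Spor.IsoM12 G) : HasSU1 G :=
  of_list (p := 11) [(2, 6), (3, 3), (5, 1)] (NotCT.Orders.m12 h) (by norm_num) (by norm_num)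
    (by norm_num) (by norm_num) (by decide +kernel) (by decide +kernel) (by norm_num)

theorem m22 {G : Type*} [Group G] [Finite G] (h : Spor.IsoM22 G) : HasSU1 G :=
  of_list (p := 11) [(2, 7), (3, 2), (5, 1), (7, 1)] (NotCT.Orders.m22 h) (by norm_num) (by norm_num)
    (by norm_num) (by norm_num) (by decide +kernel) (by decide +kernel) (by norm_num)

theorem m23 {G : Type*} [Group G] [Finite G] (h : Spor.IsoM23 G) : HasSU1 G :=
  of_list (p := 23) [(2, 7), (3, 2), (5, 1), (7, 1), (11, 1)] (NotCT.Orders.m23 h) (by norm_num) (by norm_num)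
    (by norm_num) (by norm_num) (by decide +kernel) (by decide +kernel) (by norm_num)

theorem m24 {G : Type*} [Group G] [Finite G] (h : Spor.IsoM24 G) : HasSU1 G :=
  of_list (p := 23) [(2, 10), (3, 3), (5, 1), (7, 1), (11, 1)] (NotCT.Orders.m24 h) (by norm_num) (by norm_num)
    (by norm_num) (by norm_num) (by decide +kernel) (by decide +kernel) (by norm_num)

theorem co3 {G : Type*} [Group G] [Finite G] (h : Spor.IsoCo3 G) : HasSU1 G :=
  of_list (p := 23) [(2, 10), (3, 7), (5, 3), (7, 1), (11, 1)] (NotCT.Orders.co3 h) (by norm_num) (by norm_num)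
    (by norm_num) (by norm_num) (by decide +kernel) (by decide +kernel) (by norm_num)

theorem j1 {G : Type*} [Group G] [Finite G] (h : Spor.IsoJ1 G) : HasSU1 G :=
  of_list (p := 19) [(2, 3), (3, 1), (5, 1), (7, 1), (11, 1)] (NotCT.Orders.j1 h) (by norm_num) (by norm_num)
    (by norm_num) (by norm_num) (by decide +kernel) (by decide +kernel) (by norm_num)

theorem j3 {G : Type*} [Group G] [Finite G] (h : Spor.IsoJ3 G) : HasSU1 G :=
  of_list (p := 19) [(2, 7), (3, 5), (5, 1), (17, 1)] (NotCT.Orders.j3 h) (by norm_num) (by norm_num)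
    (by norm_num) (by norm_num) (by decide +kernel) (by decide +kernel) (by norm_num)

theorem hn {G : Type*} [Group G] [Finite G] (h : Spor.IsoHN G) : HasSU1 G :=
  of_list (p := 19) [(2, 14), (3, 6), (5, 6), (7, 1), (11, 1)] (NotCT.Orders.hn h) (by norm_num) (by norm_num)
    (by norm_num) (by norm_num) (by decide +kernel) (by decide +kernel) (by norm_num)

theorem th {G : Type*} [Group G] [Finite G] (h : Spor.IsoTh G) : HasSU1 G :=
  of_list (p := 19) [(2, 15), (3, 10), (5, 3), (7, 2), (13, 1), (31, 1)] (NotCT.Orders.th h) (by norm_num) (by norm_num)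
    (by norm_num) (by norm_num) (by decide +kernel) (by decide +kernel) (by norm_num)

theorem j4 {G : Type*} [Group G] [Finite G] (h : Spor.IsoJ4 G) : HasSU1 G :=
  of_list (p := 37) [(2, 21), (3, 3), (5, 1), (7, 1), (11, 3), (23, 1), (29, 1), (31, 1), (43, 1)] (NotCT.Orders.j4 h) (by norm_num) (by norm_num)
    (by norm_num) (by norm_num) (by decide +kernel) (by decide +kernel) (by norm_num)

theorem hs {G : Type*} [Group G] [Finite G] (h : Spor.IsoHS G) : HasSU1 G :=
  of_list (p := 11) [(2, 9), (3, 2), (5, 3), (7, 1)] (NotCT.Orders.hs h) (by norm_num) (by norm_num)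
    (by norm_num) (by norm_num) (by decide +kernel) (by decide +kernel) (by norm_num)

theorem on {G : Type*} [Group G] [Finite G] (h : Spor.IsoON G) : HasSU1 G :=
  of_list (p := 11) [(2, 9), (3, 4), (5, 1), (7, 3), (19, 1), (31, 1)] (NotCT.Orders.on h) (by norm_num) (by norm_num)
    (by norm_num) (by norm_num) (by decide +kernel) (by decide +kernel) (by norm_num)

theorem ru {G : Type*} [Group G] [Finite G] (h : Spor.IsoRu G) : HasSU1 G :=
  of_list (p := 29) [(2, 14), (3, 3), (5, 3), (7, 1), (13, 1)] (NotCT.Orders.ru h) (by norm_num) (by norm_num)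
    (by norm_num) (by norm_num) (by decide +kernel) (by decide +kernel) (by norm_num)

theorem fi24 {G : Type*} [Group G] [Finite G] (h : Spor.IsoFi24' G) : HasSU1 G :=
  of_list (p := 29) [(2, 21), (3, 16), (5, 2), (7, 3), (11, 1), (13, 1), (17, 1), (23, 1)] (NotCT.Orders.fi24 h) (by norm_num) (by norm_num)
    (by norm_num) (by norm_num) (by decide +kernel) (by decide +kernel) (by norm_num)

theorem ly {G : Type*} [Group G] [Finite G] (h : Spor.IsoLy G) : HasSU1 G :=
  of_list (p := 67) [(2, 8), (3, 7), (5, 6), (7, 1), (11, 1), (31, 1), (37, 1)] (NotCT.Orders.ly h) (by norm_num) (by norm_num)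
    (by norm_num) (by norm_num) (by decide +kernel) (by decide +kernel) (by norm_num)

theorem m {G : Type*} [Group G] [Finite G] (h : Spor.IsoM G) : HasSU1 G :=
  of_list (p := 59) [(2, 46), (3, 20), (5, 9), (7, 6), (11, 2), (13, 3), (17, 1), (19, 1), (23, 1), (29, 1), (31, 1), (41, 1), (47, 1), (71, 1)] (NotCT.Orders.m h) (by norm_num) (by norm_num)
    (by norm_num) (by norm_num) (by decide +kernel) (by decide +kernel) (by norm_num)

end Cfsg.Agent.H465.SpRows
end

-- part: H60/SpMcL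
section
/-!
# The elements of order 11 of the McLaughlin group are solvably unique (helper60)
-/

set_option autoImplicit false
set_option maxRecDepth 100000

namespace Cfsg.Agent.H60.SpMcL

open Subgroup Cfsg Cfsg.Agent.SporadicStructure.PermChain Cfsg.Agent.McLType.Chain Cfsg.Agent.McLType.X275
  Cfsg.Agent.McLType.Gens Cfsg.Agent.McLType.Model Cfsg.Agent.McLType.ThreeElts Cfsg.Agent.H60.SylTool

/-! ### Counting fixed points -/

/-- the number of `i < n` with `f i` -/
def cnt (f : ℕ → Bool) : ℕ → ℕ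
  | 0 => 0
  | n + 1 => cond (f n) (cnt f n + 1) (cnt f n)

theorem cnt_eq (f : ℕ → Bool) (n : ℕ) : cnt f n = ((Finset.range n).filter fun i => f i = true).card := by
  induction n with
  | zero => rfl
  | succ n ih =>
    rw [cnt, ih, Finset.range_add_one, Finset.filter_insert]
    cases h : f n
    · simp
    · rw [if_pos rfl, Finset.card_insert_of_notMem (by simp)]
      rfl

theorem card_fx {n : ℕ} (τ : Equiv.Perm (Fin n)) (f : ℕ → ℕ) (hf : ∀ i : Fin n, (τ i : ℕ) = f i) :
    Nat.card (fx τ) = cnt (fun i => Nat.beq (f i) i) n := by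
  classical
  have h1 : Nat.card (fx τ) = (Finset.univ.filter fun i : Fin n => τ i = i).card := by
    rw [Nat.card_eq_fintype_card, ← Set.toFinset_card]
    congr 1
    ext i
    rw [Set.mem_toFinset, Finset.mem_filter]
    exact ⟨fun h => ⟨Finset.mem_univ _, h⟩, fun h => h.2⟩
  rw [h1, cnt_eq, Finset.card_filter, Finset.card_filter, ← Fin.sum_univ_eq_sum_range
    (fun i => if Nat.beq (f i) i = true then 1 else 0) n]
  refine Finset.sum_congr rfl fun i _ => ?_
  have h2 : (τ i = i) ↔ (Nat.beq (f i) i = true) := by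
    rw [Nat.beq_eq, ← hf, Fin.ext_iff]
  simp only [h2]

/-- the number of fixed points of a word in `π` -/
theorem card_fx_π (l : List ℕ) (hl : ∀ s ∈ l, s < 6) :
    Nat.card (fx (l.map π).prod) = cnt (fun i => Nat.beq (evalWord 9 pt l i) i) 275 :=
  card_fx _ _ fun i => evalπ l hl i

/-- the number of fixed points of a word in the generators -/
theorem card_fx_σ (w : List (Fin 7)) :
    Nat.card (fx (w.map σ).prod) = cnt (fun i => Nat.beq (evalWord 9 tabs (w.map (fun k => (k : ℕ))) i) i) 275 :=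
  card_fx _ _ fun i => evalWord_σ w i

/-! ### Elements of order 3 -/

private noncomputable def _root_.Cfsg.Agent.LsF.fd0d0d5_0 : {f // @Cfsg.Agent.H60.SpMcL.cnt = f} := ⟨_, by first | (delta Cfsg.Agent.H60.SpMcL.cnt Nat.brecOn.go Nat.brecOn Cfsg.Agent.H60.SpMcL.cnt._f; rewrite [Cfsg.Agent.LsF.nadd_pat, Cfsg.Agent.LsF.cond_eq]; (try delta Cfsg.Agent.H60.SpMcL.cnt.match_1); (try delta Nat.casesOn); first | dsimp -zeta only | exact rfl) | exact rfl⟩
private noncomputable def _root_.Cfsg.Agent.LsF.fd0d0d5_1 : {f // @Cfsg.Agent.SporadicStructure.PermChain.look = f} := ⟨_, by first | (delta Cfsg.Agent.SporadicStructure.PermChain.look; rewrite [Cfsg.Agent.LsF.nmul_pat, Cfsg.Agent.LsF.nmod_pat, Cfsg.Agent.LsF.npow_pat, Cfsg.Agent.LsF.nshr_pat]; exact rfl) | exact rfl⟩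
private noncomputable def _root_.Cfsg.Agent.LsF.fd0d0d5_2 : {f // @Cfsg.Agent.SporadicStructure.PermChain.evalWord = f} := ⟨_, by first | (delta Cfsg.Agent.SporadicStructure.PermChain.evalWord List.brecOn List.brecOn.go Cfsg.Agent.SporadicStructure.PermChain.evalWord._f; rewrite [Cfsg.Agent.LsF.fd0d0d5_1.2, Cfsg.Agent.LsF.getD_eq]; (try delta Cfsg.Agent.SporadicStructure.PermChain.evalWord.match_1); (try delta List.casesOn); first | dsimp -zeta only | exact rfl) | exact rfl⟩
private noncomputable def _root_.Cfsg.Agent.LsF.fd0d0d5_3 : {f // @Cfsg.Agent.McLType.ThreeElts.rep = f} := ⟨_, by first | (delta Cfsg.Agent.McLType.ThreeElts.rep Cfsg.Agent.McLType.ThreeElts.rep._f Nat.brecOn.go Nat.brecOn; rewrite [Cfsg.Agent.LsF.lappend_pat]; (try delta Cfsg.Agent.McLType.ThreeElts.rep.match_1); (try delta Nat.casesOn); first | dsimp -zeta only | exact rfl) | exact rfl⟩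
/-- the fixed points of the representatives of the classes of elements of order 3 -/
theorem classes_fix : classes.all (fun c => !(Nat.beq (cnt (fun i => Nat.beq (evalWord 9 pt (rep 1 c.1) i) i) 275 % 11) 0) &&
    !(Nat.beq (cnt (fun i => Nat.beq (evalWord 9 pt (rep 2 c.1) i) i) 275 % 11) 0)) = true := by
  ((try (rewrite [Cfsg.Agent.LsF.fd0d0d5_0.2, Cfsg.Agent.LsF.fd0d0d5_2.2, Cfsg.Agent.LsF.fd0d0d5_3.2, Cfsg.Agent.LsF.nmod_pat, Cfsg.Agent.LsF.and_eq, Cfsg.Agent.LsF.not_eq, Cfsg.Agent.LsF.all_eq])); decide +kernel)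

private noncomputable def _root_.Cfsg.Agent.LsF.fd0d0d5_4 : {f // @Cfsg.Agent.SporadicStructure.PermChain.allBelow = f} := ⟨_, by first | (delta Cfsg.Agent.SporadicStructure.PermChain.allBelow Cfsg.Agent.SporadicStructure.PermChain.allBelow._f Nat.brecOn.go Nat.brecOn; rewrite [Cfsg.Agent.LsF.and_eq]; (try delta Cfsg.Agent.SporadicStructure.PermChain.allBelow.match_1); (try delta Nat.casesOn); first | dsimp -zeta only | exact rfl) | exact rfl⟩
private noncomputable def _root_.Cfsg.Agent.LsF.fd0d0d5_5 : {f // @Cfsg.Agent.McLType.ThreeElts.fixB = f} := ⟨_, by first | (delta Cfsg.Agent.McLType.ThreeElts.fixB; rewrite [Cfsg.Agent.LsF.fd0d0d5_2.2, Cfsg.Agent.LsF.and_eq]; exact rfl) | exact rfl⟩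
private noncomputable def _root_.Cfsg.Agent.LsF.fd0d0d5_6 : {f // @Cfsg.Agent.McLType.ThreeElts.wn = f} := ⟨_, by first | (delta Cfsg.Agent.McLType.ThreeElts.wn Nat.brecOn.go Nat.brecOn Cfsg.Agent.McLType.ThreeElts.wn._f; rewrite [Cfsg.Agent.LsF.nadd_pat, Cfsg.Agent.LsF.ndiv_pat, Cfsg.Agent.LsF.nmod_pat, Cfsg.Agent.LsF.lappend_pat, Cfsg.Agent.LsF.replicate_eq]; (try delta Cfsg.Agent.McLType.ThreeElts.wn.match_1); (try delta Nat.casesOn); first | dsimp -zeta only | exact rfl) | exact rfl⟩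
/-- the exponents in the certificate are 1 or 2 for the elements of order 3 -/
theorem cert_exp : allBelow (fun N => Nat.beq N 0 || (!(fixB (wn 6 0 N ++ (wn 6 0 N ++ wn 6 0 N))) ||
    (Nat.beq (look 20 cert N % 4) 1 || Nat.beq (look 20 cert N % 4) 2))) 729 = true := by ((try (rewrite [Cfsg.Agent.LsF.fd0d0d5_4.2, Cfsg.Agent.LsF.fd0d0d5_5.2, Cfsg.Agent.LsF.fd0d0d5_6.2, Cfsg.Agent.LsF.fd0d0d5_1.2, Cfsg.Agent.LsF.nmod_pat, Cfsg.Agent.LsF.lappend_pat, Cfsg.Agent.LsF.or_eq, Cfsg.Agent.LsF.not_eq])); decide +kernel)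

theorem fix_of_nf {N : ℕ} (hN : N < 729) (h1 : nf N ≠ 1) (h3 : nf N ^ 3 = 1) : ¬ 11 ∣ Nat.card (fx (nf N)) := by
  have h := allBelow_spec _ _ cert_all N hN
  have hexp := allBelow_spec _ _ cert_exp N hN
  have hfix : fixB (wn 6 0 N ++ (wn 6 0 N ++ wn 6 0 N)) = true := by
    have h4 : ∀ x : Fin 275, evalWord 9 pt (wn 6 0 N ++ (wn 6 0 N ++ wn 6 0 N)) x = x := by
      intro x
      rw [← evalπ _ (by
        intro s hs
        simp only [List.mem_append] at hs
        rcases hs with hs | hs | hs <;> exact wn6_lt N s hs), List.map_append, List.map_append, List.prod_append,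
        List.prod_append]
      change (((nf N * (nf N * nf N)) x : Fin 275) : ℕ) = x
      have h5 : nf N * (nf N * nf N) = nf N ^ 3 := by rw [pow_succ', pow_two]
      rw [h5, h3]
      rfl
    rw [fixB, Bool.and_eq_true, Nat.beq_eq, Nat.beq_eq]
    exact ⟨h4 1, h4 2⟩
  have hN0 : Nat.beq N 0 = false := by
    rw [← Bool.not_eq_true, Nat.beq_eq]
    intro h0
    exact h1 (by rw [h0]; exact nf_zero)
  rw [hN0, hfix] at hexp
  rw [certOK, hN0, hfix] at h
  simp only [Bool.not_true, Bool.false_or, Bool.or_eq_true, Bool.and_eq_true, Nat.beq_eq] at hexp h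
  obtain ⟨h, ha, hb⟩ := h
  rw [Nat.blt_eq] at h
  generalize (look 20 cert N >>> 2) % 32 = k at h ha hb
  generalize look 20 cert N >>> 7 = g at ha hb
  generalize look 20 cert N % 4 = s at ha hb hexp
  have hmem : classes.getD k ([], []) ∈ classes := by
    rw [List.getD_eq_getElem _ _ h]
    exact List.getElem_mem h
  generalize classes.getD k ([], []) = c at ha hb hmem
  have hlt := classes_lt hmem
  have hl : ∀ x ∈ wn 6 0 N ++ wn 6 0 g, x < 6 := by
    intro x hx
    rw [List.mem_append] at hx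
    exact hx.elim (wn6_lt N x) (wn6_lt g x)
  have hr : ∀ x ∈ wn 6 0 g ++ rep s c.1, x < 6 := by
    intro x hx
    rw [List.mem_append] at hx
    exact hx.elim (wn6_lt g x) (rep_lt s _ hlt x)
  have heq : nf N * nf g = nf g * (c.1.map π).prod ^ s := by
    have e1 : ((wn 6 0 N ++ wn 6 0 g).map π).prod = nf N * nf g := by
      rw [List.map_append, List.prod_append]
      rfl
    have e2 : ((wn 6 0 g ++ rep s c.1).map π).prod = nf g * (c.1.map π).prod ^ s := by
      rw [List.map_append, List.prod_append, rep_prod]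
      rfl
    rw [← e1, ← e2]
    refine eq_of_base (word_mem _ hl) (word_mem _ hr) (Fin.ext ?_) (Fin.ext ?_)
    · rw [evalπ _ hl, evalπ _ hr]
      exact ha
    · rw [evalπ _ hl, evalπ _ hr]
      exact hb
  have h5 : nf N = nf g * ((rep s c.1).map π).prod * (nf g)⁻¹ := by
    rw [rep_prod, ← heq, mul_inv_cancel_right]
  rw [h5, fx_conj, card_fx_π _ (rep_lt s _ hlt)]
  have h6 := List.all_eq_true.1 classes_fix c hmem
  rw [Bool.and_eq_true, Bool.not_eq_true', Bool.not_eq_true', ← Bool.not_eq_true, ← Bool.not_eq_true, Nat.beq_eq,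
    Nat.beq_eq] at h6
  intro h7
  have h8 := Nat.mod_eq_zero_of_dvd h7
  rcases hexp with rfl | rfl
  · exact h6.1 h8
  · exact h6.2 h8

/-! ### The explicit elements of order 7 and 11 -/

theorem seven_pow : ((([0, 1, 4, 3] : List (Fin 7)).map σ).prod) ^ 7 = 1 := by
  refine Equiv.ext fun x => Fin.ext ?_
  have h1 : ((([0, 1, 4, 3] : List (Fin 7)).map σ).prod) ^ 7 =
      ((([0, 1, 4, 3, 0, 1, 4, 3, 0, 1, 4, 3, 0, 1, 4, 3, 0, 1, 4, 3, 0, 1, 4, 3, 0, 1, 4, 3] : List (Fin 7)).map σ).prod) := by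
    simp only [List.map_cons, List.map_nil, List.prod_cons, List.prod_nil, pow_succ, pow_zero, one_mul, mul_one, mul_assoc]
  rw [h1, evalWord_σ]
  have h2 : allBelow (fun x => Nat.beq (evalWord 9 tabs
      ((([0, 1, 4, 3, 0, 1, 4, 3, 0, 1, 4, 3, 0, 1, 4, 3, 0, 1, 4, 3, 0, 1, 4, 3, 0, 1, 4, 3] : List (Fin 7))).map
        (fun k => (k : ℕ))) x) x) 275 = true := by ((try (rewrite [Cfsg.Agent.LsF.fd0d0d5_4.2, Cfsg.Agent.LsF.fd0d0d5_2.2, Cfsg.Agent.LsF.map_eq])); decide +kernel)
  exact Nat.eq_of_beq_eq_true (allBelow_spec _ _ h2 x x.2)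

theorem eleven_pow : ((([3, 4, 6, 5] : List (Fin 7)).map σ).prod) ^ 11 = 1 := by
  refine Equiv.ext fun x => Fin.ext ?_
  have h1 : ((([3, 4, 6, 5] : List (Fin 7)).map σ).prod) ^ 11 =
      ((([3, 4, 6, 5, 3, 4, 6, 5, 3, 4, 6, 5, 3, 4, 6, 5, 3, 4, 6, 5, 3, 4, 6, 5, 3, 4, 6, 5, 3, 4, 6, 5, 3, 4, 6, 5,
        3, 4, 6, 5, 3, 4, 6, 5] : List (Fin 7)).map σ).prod) := by
    simp only [List.map_cons, List.map_nil, List.prod_cons, List.prod_nil, pow_succ, pow_zero, one_mul, mul_one, mul_assoc]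
  rw [h1, evalWord_σ]
  have h2 : allBelow (fun x => Nat.beq (evalWord 9 tabs
      ((([3, 4, 6, 5, 3, 4, 6, 5, 3, 4, 6, 5, 3, 4, 6, 5, 3, 4, 6, 5, 3, 4, 6, 5, 3, 4, 6, 5, 3, 4, 6, 5, 3, 4, 6, 5,
        3, 4, 6, 5, 3, 4, 6, 5] : List (Fin 7))).map (fun k => (k : ℕ))) x) x) 275 = true := by ((try (rewrite [Cfsg.Agent.LsF.fd0d0d5_4.2, Cfsg.Agent.LsF.fd0d0d5_2.2, Cfsg.Agent.LsF.map_eq])); decide +kernel)
  exact Nat.eq_of_beq_eq_true (allBelow_spec _ _ h2 x x.2)

theorem seven_fix : Nat.card (fx ((([0, 1, 4, 3] : List (Fin 7)).map σ).prod)) = 2 := by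
  rw [card_fx_σ]
  decide +kernel

theorem eleven_fix : Nat.card (fx ((([3, 4, 6, 5] : List (Fin 7)).map σ).prod)) = 0 := by
  rw [card_fx_σ]
  decide +kernel

theorem card_one : Nat.card (fx (1 : Equiv.Perm (Fin 275))) = 275 := by
  have h : fx (1 : Equiv.Perm (Fin 275)) = Set.univ := by
    ext i
    simp [fx]
  rw [h, Nat.card_congr (Equiv.Set.univ _), Nat.card_eq_fintype_card, Fintype.card_fin]

/-! ### Abelian subgroups of order 3^5 -/

/-- the word of `nf N` commutes with the word `l` (on the base) -/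
def comB (l : List ℕ) (N : ℕ) : Bool :=
  Nat.beq (evalWord 9 pt (wn 6 0 N ++ l) 1) (evalWord 9 pt (l ++ wn 6 0 N) 1) &&
    Nat.beq (evalWord 9 pt (wn 6 0 N ++ l) 2) (evalWord 9 pt (l ++ wn 6 0 N) 2)

theorem comB_of {l : List ℕ} (hl : ∀ s ∈ l, s < 6) {N : ℕ} (h : nf N * (l.map π).prod = (l.map π).prod * nf N) :
    comB l N = true := by
  have ha : ∀ s ∈ wn 6 0 N ++ l, s < 6 := by
    intro x hx
    rw [List.mem_append] at hx
    exact hx.elim (wn6_lt N x) (hl x)
  have hb : ∀ s ∈ l ++ wn 6 0 N, s < 6 := by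
    intro x hx
    rw [List.mem_append] at hx
    exact hx.elim (hl x) (wn6_lt N x)
  have e1 : ((wn 6 0 N ++ l).map π).prod = nf N * (l.map π).prod := by
    rw [List.map_append, List.prod_append]
    rfl
  have e2 : ((l ++ wn 6 0 N).map π).prod = (l.map π).prod * nf N := by
    rw [List.map_append, List.prod_append]
    rfl
  rw [comB, Bool.and_eq_true, Nat.beq_eq, Nat.beq_eq]
  constructor
  · have h1 := evalπ _ ha 1
    have h2 := evalπ _ hb 1
    rw [e1] at h1
    rw [e2, ← h] at h2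
    exact h1.symm.trans h2
  · have h1 := evalπ _ ha 2
    have h2 := evalπ _ hb 2
    rw [e1] at h1
    rw [e2, ← h] at h2
    exact h1.symm.trans h2

private noncomputable def _root_.Cfsg.Agent.LsF.fd0d0d5_7 : {f // @Cfsg.Agent.H60.SpMcL.comB = f} := ⟨_, by first | (delta Cfsg.Agent.H60.SpMcL.comB; rewrite [Cfsg.Agent.LsF.fd0d0d5_2.2, Cfsg.Agent.LsF.fd0d0d5_6.2, Cfsg.Agent.LsF.lappend_pat, Cfsg.Agent.LsF.and_eq]; exact rfl) | exact rfl⟩
theorem cnt_com : cnt (fun N => comB [2, 3] N && comB [3, 5, 5] N) 729 = 81 := by (refine of_decide_eq_true ?_; (try (rewrite [Cfsg.Agent.LsF.fd0d0d5_0.2, Cfsg.Agent.LsF.fd0d0d5_7.2, Cfsg.Agent.LsF.and_eq, Cfsg.Agent.LsF.instDecEq_eq, Cfsg.Agent.LsF.decide_eq])); decide +kernel)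

/-- the centralizer of two commutators -/
theorem card_le_of_com {E : Subgroup (Equiv.Perm (Fin 275))} (hE : E ≤ P)
    (h1 : ∀ x ∈ E, x * (([2, 3] : List ℕ).map π).prod = (([2, 3] : List ℕ).map π).prod * x)
    (h2 : ∀ x ∈ E, x * (([3, 5, 5] : List ℕ).map π).prod = (([3, 5, 5] : List ℕ).map π).prod * x) :
    Nat.card E ≤ 81 := by
  classical
  rw [← cnt_com, cnt_eq]
  have key : ∀ x : E, ∃ N, N < 729 ∧ nf N = x := fun x => by
    obtain ⟨N, hN, h⟩ := exists_nf6 (hE x.2)
    exact ⟨N, hN, h.symm⟩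
  choose F hF hF' using key
  let f : E → ((Finset.range 729).filter fun N => (comB [2, 3] N && comB [3, 5, 5] N) = true) := fun x => ⟨F x, by
    rw [Finset.mem_filter, Finset.mem_range, Bool.and_eq_true]
    refine ⟨hF x, comB_of (by decide) ?_, comB_of (by decide) ?_⟩
    · rw [hF']
      exact h1 x x.2
    · rw [hF']
      exact h2 x x.2⟩
  have hf : Function.Injective f := by
    intro x y hxy
    have h3 : F x = F y := congrArg Subtype.val hxy
    apply Subtype.ext
    rw [← hF' x, ← hF' y, h3]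
  have h3 := Nat.card_le_card_of_injective f hf
  rwa [Nat.card_eq_fintype_card (α := ((Finset.range 729).filter
    fun N => (comB [2, 3] N && comB [3, 5, 5] N) = true)), Fintype.card_coe] at h3

/-- `P` has no abelian subgroup of order `3 ^ 5` -/
theorem no_243 {E : Subgroup (Equiv.Perm (Fin 275))} (hE : E ≤ P) (hc : ∀ x ∈ E, ∀ y ∈ E, x * y = y * x) :
    Nat.card E ≠ 243 := by
  intro h243
  have hPc := card_P
  have hidx : (E.subgroupOf P).index = 3 := by
    have h1 := card_mul_index (E.subgroupOf P)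
    rw [Nat.card_congr (Subgroup.subgroupOfEquivOfLe hE).toEquiv, h243, hPc] at h1
    omega
  have hPp : IsPGroup 3 P := IsPGroup.of_card (n := 6) (by rw [hPc]; norm_num)
  have : Fact (Nat.Prime 3) := ⟨Nat.prime_three⟩
  have hfinP : Finite P := Nat.finite_of_card_ne_zero (by rw [hPc]; norm_num)
  have hmin : (Nat.card P).minFac = 3 := by
    rw [hPc, show 729 = 3 ^ 6 by norm_num, Nat.pow_minFac (by norm_num)]
    exact Nat.Prime.minFac_eq Nat.prime_three
  have hn : (E.subgroupOf P).Normal := Subgroup.normal_of_index_eq_minFac_card (by rw [hidx, hmin])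
  have hq : Nat.card (P ⧸ E.subgroupOf P) = 3 := hidx
  have hcyc : IsCyclic (P ⧸ E.subgroupOf P) := isCyclic_of_prime_card hq
  have hcomm : ∀ a b : P, a * b * a⁻¹ * b⁻¹ ∈ E.subgroupOf P := by
    intro a b
    have h1 : (QuotientGroup.mk' (E.subgroupOf P) a) * (QuotientGroup.mk' (E.subgroupOf P) b) =
        (QuotientGroup.mk' (E.subgroupOf P) b) * (QuotientGroup.mk' (E.subgroupOf P) a) :=
      (IsCyclic.isMulCommutative : IsMulCommutative (P ⧸ E.subgroupOf P)).is_comm.comm _ _
    have h2 : QuotientGroup.mk' (E.subgroupOf P) (a * b * a⁻¹ * b⁻¹) = 1 := by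
      rw [map_mul, map_mul, map_mul, map_inv, map_inv, h1, mul_inv_cancel_right, mul_inv_cancel]
    exact (QuotientGroup.eq_one_iff _).1 h2
  have hmem : ∀ i j : ℕ, i < 6 → j < 6 → π i * π j * (π i)⁻¹ * (π j)⁻¹ ∈ E := fun i j hi hj =>
    hcomm ⟨π i, π_mem i hi⟩ ⟨π j, π_mem j hj⟩
  have h04 : π 0 * π 4 * (π 0)⁻¹ * (π 4)⁻¹ = (([2, 3] : List ℕ).map π).prod := by
    have h1 : π 0 * π 4 = (([2, 3] : List ℕ).map π).prod * π 4 * π 0 := by
      have e1 : (([0, 4] : List ℕ).map π).prod = π 0 * π 4 := by simp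
      have e2 : (([2, 3, 4, 0] : List ℕ).map π).prod = (([2, 3] : List ℕ).map π).prod * π 4 * π 0 := by
        simp [mul_assoc]
      rw [← e1, ← e2]
      refine eq_of_base (word_mem _ (by decide)) (word_mem _ (by decide)) (Fin.ext ?_) (Fin.ext ?_)
      · rw [evalπ _ (by decide), evalπ _ (by decide)]
        decide +kernel
      · rw [evalπ _ (by decide), evalπ _ (by decide)]
        decide +kernel
    rw [h1, mul_inv_cancel_right, mul_inv_cancel_right]
  have h14 : π 1 * π 4 * (π 1)⁻¹ * (π 4)⁻¹ = (([3, 5, 5] : List ℕ).map π).prod := by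
    have h1 : π 1 * π 4 = (([3, 5, 5] : List ℕ).map π).prod * π 4 * π 1 := by
      have e1 : (([1, 4] : List ℕ).map π).prod = π 1 * π 4 := by simp
      have e2 : (([3, 5, 5, 4, 1] : List ℕ).map π).prod = (([3, 5, 5] : List ℕ).map π).prod * π 4 * π 1 := by
        simp [mul_assoc]
      rw [← e1, ← e2]
      refine eq_of_base (word_mem _ (by decide)) (word_mem _ (by decide)) (Fin.ext ?_) (Fin.ext ?_)
      · rw [evalπ _ (by decide), evalπ _ (by decide)]
        decide +kernel
      · rw [evalπ _ (by decide), evalπ _ (by decide)]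
        decide +kernel
    rw [h1, mul_inv_cancel_right, mul_inv_cancel_right]
  have m1 := hmem 0 4 (by norm_num) (by norm_num)
  have m2 := hmem 1 4 (by norm_num) (by norm_num)
  rw [h04] at m1
  rw [h14] at m2
  have h5 := card_le_of_com hE (fun x hx => hc x hx _ m1) (fun x hx => hc x hx _ m2)
  omega

/-! ### The main theorem -/

section Main

variable {G : Type*} [Group G] [Finite G]

/-- a 3-subgroup of `McL` is conjugate to a subgroup of `P` -/
theorem conj_P (f : G →* Equiv.Perm (Fin 275)) (hf : Function.Injective f) (hr : f.range = K0)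
    (hcard : Nat.card G = 898128000) {H : Subgroup G} (hH : IsPGroup 3 H) :
    ∃ g : G, ∀ x ∈ H, f (g * x * g⁻¹) ∈ P := by
  have hc : Nat.card (P.comap f) = 3 ^ (Nat.card G).factorization 3 := by
    have h1 : Nat.card (P.comap f) = Nat.card P := by
      have h2 : (P.comap f).map f = P := by
        rw [Subgroup.map_comap_eq_self]
        rw [hr]
        exact P_le_K0
      rw [← h2, Subgroup.comap_map_eq_self_of_injective hf]
      exact Nat.card_congr ((P.comap f).equivMapOfInjective f hf).toEquiv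
    rw [h1, card_P, hcard]
    have h3 : (898128000 : ℕ) = 3 ^ 6 * 1232000 := by norm_num
    have h4 : (898128000 : ℕ).factorization 3 = 6 := by
      rw [h3, Nat.factorization_mul (by norm_num) (by norm_num), Finsupp.add_apply,
        Nat.factorization_pow, Finsupp.smul_apply, Nat.Prime.factorization_self Nat.prime_three,
        Nat.factorization_eq_zero_of_not_dvd (by norm_num)]
      rfl
    rw [h4]
    norm_num
  have : Fact (Nat.Prime 3) := ⟨Nat.prime_three⟩
  let T : Sylow 3 G := Sylow.ofCard (P.comap f) hc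
  obtain ⟨Q, hQ⟩ := hH.exists_le_sylow
  obtain ⟨g, hg⟩ := MulAction.exists_smul_eq G Q T
  refine ⟨g, fun x hx => ?_⟩
  have h1 : g * x * g⁻¹ ∈ (T : Subgroup G) := by
    rw [← hg]
    rw [Sylow.coe_subgroup_smul]
    exact Subgroup.smul_mem_pointwise_smul x (MulAut.conj g) _ (hQ hx)
  exact h1

/-- **the elements of order 11 of the McLaughlin group are self-centralizing** -/
theorem card_cent_eleven (h : Spor.IsoMcL G) {y : G} (hy : orderOf y = 11) :
    Nat.card (centralizer ({y} : Set G)) = 11 := by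
  have hna := H393.Iso.na_mcl h
  obtain ⟨-, hsimp, hcard, -⟩ := TypeM.FactsMcL.facts h
  obtain ⟨e⟩ := h
  obtain ⟨e'⟩ := isoMcL_G1
  let g : G ≃* G1 := e.trans e'.symm
  let f : G →* Equiv.Perm (Fin 275) := ψ.comp g.toMonoidHom
  have hf : Function.Injective f := ψ_injective.comp g.injective
  have hr : f.range = K0 := by
    ext x
    rw [MonoidHom.mem_range, mem_K0_iff]
    constructor
    · rintro ⟨z, rfl⟩
      exact ⟨g z, rfl⟩
    · rintro ⟨z, rfl⟩
      exact ⟨g.symm z, congrArg ψ (g.apply_symm_apply z)⟩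
  have hnc : ¬ IsMulCommutative G := by
    intro hc
    obtain ⟨t, ht⟩ := exists_prime_orderOf_dvd_card' (G := G) 2 (by rw [hcard]; norm_num)
    exact hna y t hy ht (hc.is_comm.comm _ _)
  -- an element of the model
  have key : ∀ (w : List (Fin 7)) (p : ℕ), p.Prime → ((w.map σ).prod) ^ p = 1 →
      Nat.card (fx ((w.map σ).prod)) ≠ 275 → ∃ z : G, orderOf z = p ∧ f z = (w.map σ).prod := by
    intro w p hp h1 h2
    have h3 : (w.map σ).prod ∈ f.range := by
      rw [hr]
      exact word_mem_K0 w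
    obtain ⟨z, hz⟩ := h3
    refine ⟨z, ?_, hz⟩
    have := Fact.mk hp
    rw [← orderOf_injective f hf, hz]
    refine orderOf_eq_prime h1 fun h4 => h2 ?_
    rw [h4, card_one]
  -- `y` has no fixed point
  have hy0 : fx (f y) = ∅ := by
    obtain ⟨z, hz, hfz⟩ := key [3, 4, 6, 5] 11 (by norm_num) eleven_pow (by rw [eleven_fix]; norm_num)
    have h1 := fix_const f (p := 11) (by norm_num) (by rw [hcard]; norm_num) hy hz
    rw [hfz, eleven_fix, Nat.card_eq_zero] at h1
    rcases h1 with h1 | h1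
    · exact Set.isEmpty_coe_sort.1 h1
    · exact absurd h1 (not_infinite_iff_finite.2 inferInstance)
  have hy11 : (f y) ^ 11 = 1 := by rw [← map_pow, ← hy, pow_orderOf_eq_one, map_one]
  have hdvd : ∀ u : G, y * u = u * y → 11 ∣ Nat.card (fx (f u)) := by
    intro u hu
    refine dvd_fix (by norm_num) hy11 hy0 ?_
    rw [← map_mul, hu, map_mul]
  set c := Nat.card (centralizer ({y} : Set G)) with hc
  have hpr : ∀ q : ℕ, q.Prime → q ∣ c → ∃ u : G, orderOf u = q ∧ y * u = u * y := by
    intro q hq hqc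
    have := Fact.mk hq
    obtain ⟨u, hu⟩ := exists_prime_orderOf_dvd_card' (G := centralizer ({y} : Set G)) q hqc
    refine ⟨u, by rw [← hu]; exact Subgroup.orderOf_coe u, ?_⟩
    exact (Subgroup.mem_centralizer_singleton_iff.1 u.2).symm
  have h2 : ¬ 2 ∣ c := by
    intro h2
    obtain ⟨u, hu, huy⟩ := hpr 2 Nat.prime_two h2
    exact hna y u hy hu huy
  have h3 : ¬ 3 ∣ c := by
    intro h3
    obtain ⟨u, hu, huy⟩ := hpr 3 Nat.prime_three h3
    have hP : IsPGroup 3 (zpowers u) := IsPGroup.of_card (n := 1) (by rw [Nat.card_zpowers, hu, pow_one])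
    obtain ⟨k, hk⟩ := conj_P f hf hr hcard hP
    have h4 := hk u (mem_zpowers u)
    have h5 := hdvd u huy
    obtain ⟨N, hN, hN'⟩ := exists_nf6 h4
    have h6 : Nat.card (fx (f (k * u * k⁻¹))) = Nat.card (fx (f u)) := by
      rw [map_mul, map_mul, map_inv, fx_conj]
    rw [← h6, hN'] at h5
    have hou : orderOf (k * u * k⁻¹) = 3 := by
      rw [← hu]
      exact orderOf_injective (MulAut.conj k).toMonoidHom (MulAut.conj k).injective u
    refine fix_of_nf hN ?_ ?_ h5
    · intro h7
      rw [← hN', ← map_one f] at h7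
      rw [hf h7, orderOf_one] at hou
      norm_num at hou
    · rw [← hN', ← map_pow, ← hou, pow_orderOf_eq_one, map_one]
  have h7 : ¬ 7 ∣ c := by
    intro h7
    obtain ⟨u, hu, huy⟩ := hpr 7 (by norm_num) h7
    obtain ⟨z, hz, hfz⟩ := key [0, 1, 4, 3] 7 (by norm_num) seven_pow (by rw [seven_fix]; norm_num)
    have h1 := fix_const f (p := 7) (by norm_num) (by rw [hcard]; norm_num) hu hz
    have h5 := hdvd u huy
    rw [h1, hfz, seven_fix] at h5
    norm_num at h5
  have hcG : c ∣ 11 * 125 * 653184 := by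
    have := Subgroup.card_subgroup_dvd_card (centralizer ({y} : Set G))
    rw [hcard] at this
    exact this
  have hcop : Nat.Coprime c 653184 := by
    rw [show 653184 = 2 ^ 7 * 3 ^ 6 * 7 by norm_num]
    refine Nat.Coprime.mul_right (Nat.Coprime.mul_right (Nat.Coprime.pow_right _ ?_) (Nat.Coprime.pow_right _ ?_)) ?_
    · exact ((Nat.Prime.coprime_iff_not_dvd Nat.prime_two).2 h2).symm
    · exact ((Nat.Prime.coprime_iff_not_dvd Nat.prime_three).2 h3).symm
    · exact ((Nat.Prime.coprime_iff_not_dvd (by norm_num : Nat.Prime 7)).2 h7).symm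
  have hc2 : c ∣ 1375 := hcop.dvd_of_dvd_mul_right hcG
  have h11 : 11 ∣ c := by
    have h8 : y ∈ centralizer ({y} : Set G) := Subgroup.mem_centralizer_singleton_iff.2 rfl
    have h9 := orderOf_dvd_natCard (⟨y, h8⟩ : centralizer ({y} : Set G))
    rwa [Subgroup.orderOf_mk, hy] at h9
  obtain ⟨e1, he1, -, he3, he4⟩ := norm_arith (s := 11) (by norm_num) hy (by rw [hcard]; norm_num)
  rw [← hc, hcard] at he3
  have he5 := he4 hsimp hnc
  have h12 : e1 ∈ Nat.divisors 10 := Nat.mem_divisors.2 ⟨he1, by norm_num⟩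
  have h13 : c ∈ Nat.divisors 1375 := Nat.mem_divisors.2 ⟨hc2, by norm_num⟩
  have key2 : ∀ c ∈ Nat.divisors 1375, 11 ∣ c → ∀ e ∈ Nat.divisors 10, e ≠ 1 → 898128000 / (c * e) % 11 = 1 % 11 → c = 11 := by
    (rewrite [Cfsg.Agent.Lib.DivFast.divisors_eq]; decide +kernel)
  exact key2 c h13 h11 e1 h12 he5 he3

theorem mcl (h : Spor.IsoMcL G) : H465.SU.HasSU1 G := by
  obtain ⟨-, hsimp, hcard, -⟩ := TypeM.FactsMcL.facts h
  have := Fact.mk (show Nat.Prime 11 by norm_num)
  obtain ⟨y, hy⟩ := exists_prime_orderOf_dvd_card' (G := G) 11 (by rw [hcard]; norm_num)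
  have hcy := card_cent_eleven h hy
  refine ⟨11, y, by norm_num, by norm_num, hy, by rw [hcard]; norm_num,
    H465.SU.SUel.of_elem (by norm_num) (by rw [hcard]; norm_num) hy ?_ ?_⟩
  · intro u hu hu11 huy
    have h8 : u ∈ centralizer ({y} : Set G) := Subgroup.mem_centralizer_singleton_iff.2 huy.symm
    have h9 := orderOf_dvd_natCard (⟨u, h8⟩ : centralizer ({y} : Set G))
    rw [Subgroup.orderOf_mk, hcy] at h9
    exact hu11 ((Nat.prime_dvd_prime_iff_eq hu (by norm_num)).1 h9)
  · intro t k E ht ht11 hk hE hdvd h11 hexp hcomm _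
    rw [hcard] at hdvd
    -- `t ^ k = 3 ^ 5`
    have h1 : t = 3 ∧ k = 5 := by
      have htd : t ∣ 898128000 := (dvd_pow_self t hk.ne').trans hdvd
      have h2 : t ∣ 2 ^ 7 * (3 ^ 6 * (5 ^ 3 * (7 * 11))) := htd
      have h3 : t = 2 ∨ t = 3 ∨ t = 5 ∨ t = 7 := by
        rcases (Nat.Prime.dvd_mul ht).1 h2 with h | h
        · left
          exact (Nat.prime_dvd_prime_iff_eq ht Nat.prime_two).1 (ht.dvd_of_dvd_pow h)
        rcases (Nat.Prime.dvd_mul ht).1 h with h | h
        · right; left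
          exact (Nat.prime_dvd_prime_iff_eq ht Nat.prime_three).1 (ht.dvd_of_dvd_pow h)
        rcases (Nat.Prime.dvd_mul ht).1 h with h | h
        · right; right; left
          exact (Nat.prime_dvd_prime_iff_eq ht Nat.prime_five).1 (ht.dvd_of_dvd_pow h)
        rcases (Nat.Prime.dvd_mul ht).1 h with h | h
        · right; right; right
          exact (Nat.prime_dvd_prime_iff_eq ht (by norm_num)).1 h
        · exact absurd ((Nat.prime_dvd_prime_iff_eq ht (by norm_num)).1 h) ht11
      have hb : ∀ m : ℕ, ¬ t ^ (m + 1) ∣ 898128000 → k ≤ m := by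
        intro m hm
        by_contra hlt
        exact hm ((pow_dvd_pow t (by omega)).trans hdvd)
      rcases h3 with rfl | rfl | rfl | rfl
      · have := hb 7 (by norm_num)
        exfalso
        interval_cases k <;> revert h11 <;> decide
      · have := hb 6 (by norm_num)
        refine ⟨rfl, ?_⟩
        interval_cases k
        any_goals rfl
        all_goals exact absurd h11 (by decide)
      · have := hb 3 (by norm_num)
        exfalso
        interval_cases k <;> revert h11 <;> decide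
      · have := hb 1 (by norm_num)
        exfalso
        interval_cases k <;> revert h11 <;> decide
    obtain ⟨rfl, rfl⟩ := h1
    obtain ⟨e⟩ := h
    obtain ⟨e'⟩ := isoMcL_G1
    let g : G ≃* G1 := e.trans e'.symm
    let f : G →* Equiv.Perm (Fin 275) := ψ.comp g.toMonoidHom
    have hf : Function.Injective f := ψ_injective.comp g.injective
    have hr : f.range = K0 := by
      ext x
      rw [MonoidHom.mem_range, mem_K0_iff]
      constructor
      · rintro ⟨z, rfl⟩
        exact ⟨g z, rfl⟩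
      · rintro ⟨z, rfl⟩
        exact ⟨g.symm z, congrArg ψ (g.apply_symm_apply z)⟩
    have hEp : IsPGroup 3 E := IsPGroup.of_card hE
    obtain ⟨k, hk⟩ := conj_P f hf hr hcard hEp
    let F : G →* Equiv.Perm (Fin 275) := f.comp (MulAut.conj k).toMonoidHom
    have hF : Function.Injective F := hf.comp (MulAut.conj k).injective
    refine no_243 (E := E.map F) ?_ ?_ ?_
    · rintro _ ⟨x, hx, rfl⟩
      exact hk x hx
    · rintro _ ⟨x, hx, rfl⟩ _ ⟨z, hz, rfl⟩
      rw [← map_mul, hcomm x hx z hz, map_mul]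
    · rw [Subgroup.card_map_of_injective hF, hE]
      norm_num

end Main

end Cfsg.Agent.H60.SpMcL
end

private theorem dce_fb8fb1b5d683 : _root_.True := by
  try have : _root_.True := by simp only [_root_.Cfsg.Agent.H60.SpMcL.comB.eq_1]
  try have : _root_.True := by simp only [_root_.Cfsg.Agent.H60.SpMcL.cnt.eq_def]
  try have : _root_.True := by simp only [_root_.Cfsg.Agent.H60.SylTool.fx.eq_1]
  try have : _root_.True := by simp only [_root_.Cfsg.Agent.H60.SpMcL.cnt.eq_1]
  try have : _root_.True := by simp only [_root_.Cfsg.Agent.H60.SpMcL.cnt.eq_2]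
  exact _root_.True.intro
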