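import Cfsg.Agent.H488.ThreeHalf
import Cfsg.Agent.H57.TTL28
import Cfsg.Agent.H57.TTOut
import Cfsg.Agent.S2602
import Cfsg.Agent.FastGrp
import Cfsg.Agent.Prune
set_option linter.all false

section
prune_inst 0x7f00000000000000000000000000000000000000000000000000000000000000000000000000000000000000000000000000000000000000000000000000000000000000000000000000000000000000003fffffffffffffffffffffffffffbeffbdffffffff

-- part: H386/HalfTwo/Base
section
set_option linter.all false
open scoped Cfsg.Agent.FastGrp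

/-!
# `(2+1/2)`-transitive groups (S3576): general part (helper386)

* `GG a b` : the stabiliser of two points;
* `Half G Ω m` : all the orbits of `GG a b` (`a ≠ b`) on the other points have length `m`.
-/

set_option autoImplicit false

namespace Cfsg.Agent.H386.HalfTwo

open MulAction Cfsg.Agent.H392.MultTrans Cfsg.Agent.H384.TwoTrans Cfsg.Agent.H488.ThreeHalf

universe u v

variable {G : Type u} {Ω : Type v} [Group G] [MulAction G Ω] {T : Subgroup G}

/-- the stabiliser of two points -/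
def GG (G : Type u) {Ω : Type v} [Group G] [MulAction G Ω] (a b : Ω) : Subgroup G := stabilizer G a ⊓ stabilizer G b

theorem mem_GG {a b : Ω} {g : G} : g ∈ GG G a b ↔ g • a = a ∧ g • b = b := by
  unfold GG
  rw [Subgroup.mem_inf, mem_stabilizer_iff, mem_stabilizer_iff]

/-- all the orbits of the stabilisers of two points on the other points have length `m` -/
structure Half (G : Type u) (Ω : Type v) [Group G] [MulAction G Ω] (m : ℕ) : Prop where
  orb : ∀ a b c : Ω, a ≠ b → c ≠ a → c ≠ b → Nat.card (orbit (GG G a b) c) = m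

/-- a pair of points -/
def pair (a b : Ω) (hab : a ≠ b) : Fin 2 ↪ Ω :=
  ⟨![a, b], by
    intro i j hij
    fin_cases i <;> fin_cases j <;> simp_all⟩

theorem iInf_pair (s : Fin 2 ↪ Ω) : (⨅ i, stabilizer G (s i)) = GG G (s 0) (s 1) := by
  ext g
  rw [Subgroup.mem_iInf, mem_GG]
  constructor
  · intro h
    exact ⟨h 0, h 1⟩
  · rintro ⟨h0, h1⟩ i
    fin_cases i
    · exact h0
    · exact h1

theorem GG_conj {a b : Ω} (g : G) (n : G) : n ∈ GG G a b ↔ g * n * g⁻¹ ∈ GG G (g • a) (g • b) := by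
  rw [mem_GG, mem_GG, mul_smul, mul_smul, inv_smul_smul, mul_smul, mul_smul, inv_smul_smul]
  constructor
  · rintro ⟨h1, h2⟩
    rw [h1, h2]
    exact ⟨rfl, rfl⟩
  · rintro ⟨h1, h2⟩
    exact ⟨smul_left_cancel g h1, smul_left_cancel g h2⟩

theorem card_orbit_conj {a b : Ω} (g : G) (c : Ω) :
    Nat.card (orbit (GG G (g • a) (g • b)) (g • c)) = Nat.card (orbit (GG G a b) c) := by
  have h1 : (fun x : Ω => g • x) '' (orbit (GG G a b) c) = orbit (GG G (g • a) (g • b)) (g • c) := by
    ext x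
    constructor
    · rintro ⟨_, ⟨u, rfl⟩, rfl⟩
      refine ⟨⟨g * u * g⁻¹, (GG_conj g _).1 u.2⟩, ?_⟩
      show (g * u * g⁻¹) • (g • c) = g • ((u : G) • c)
      rw [mul_smul, mul_smul, inv_smul_smul]
    · rintro ⟨u, rfl⟩
      have h2 : g⁻¹ * u * g ∈ GG G a b := by
        rw [GG_conj g]
        have : g * (g⁻¹ * u * g) * g⁻¹ = u := by group
        rw [this]
        exact u.2
      refine ⟨(g⁻¹ * u * g) • c, ⟨⟨g⁻¹ * u * g, h2⟩, rfl⟩, ?_⟩
      show g • (g⁻¹ * u * g) • c = (u : G) • (g • c)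
      rw [mul_smul, mul_smul, smul_inv_smul]
  rw [← h1]
  exact Nat.card_image_of_injective (fun x y h => smul_left_cancel g h) _

/-- the hypothesis of S3576 -/
theorem exists_half [Finite Ω] (hn : 3 ≤ Nat.card Ω) (htrans : IsMultiplyPretransitive G Ω 2)
    (hhalf : ∀ s : Fin 2 ↪ Ω, ∀ b c : Ω, b ∉ Set.range s → c ∉ Set.range s →
      Nat.card (MulAction.orbit (↥(⨅ i, MulAction.stabilizer G (s i))) b) =
        Nat.card (MulAction.orbit (↥(⨅ i, MulAction.stabilizer G (s i))) c)) : ∃ m, Half G Ω m := by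
  have hnt : Nontrivial Ω := Finite.one_lt_card_iff_nontrivial.1 (by omega)
  obtain ⟨a, b, hab⟩ := exists_pair_ne Ω
  obtain ⟨c, hc⟩ : ∃ c : Ω, c ≠ a ∧ c ≠ b := by
    by_contra hcon
    push Not at hcon
    have h1 := ncard_compl_pair hab
    have h2 : ({x : Ω | x ≠ a ∧ x ≠ b} : Set Ω) = ∅ := by
      ext x
      simp only [Set.mem_ofPred_eq, Set.mem_empty_iff_false, iff_false, not_and, not_not]
      exact hcon x
    rw [h2, Set.ncard_empty] at h1
    omega
  refine ⟨Nat.card (orbit (GG G a b) c), ⟨fun a' b' c' hab' hca' hcb' => ?_⟩⟩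
  obtain ⟨g, g1, g2⟩ := two_pts htrans a b a' b' hab hab'
  subst g1 g2
  obtain ⟨c', rfl⟩ : ∃ d, g • d = c' := ⟨g⁻¹ • c', smul_inv_smul g c'⟩
  rw [card_orbit_conj]
  have h := hhalf (pair a b hab) c' c (by
    rintro ⟨i, hi⟩
    fin_cases i
    · exact hca' (congrArg (fun x => g • x) hi.symm)
    · exact hcb' (congrArg (fun x => g • x) hi.symm)) (by
    rintro ⟨i, hi⟩
    fin_cases i
    · exact hc.1 hi.symm
    · exact hc.2 hi.symm)
  have h2 : (⨅ i, stabilizer G (pair a b hab i)) = GG G a b := iInf_pair _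
  rw [h2] at h
  exact h

theorem GG_fix_a {a b : Ω} : Nat.card (orbit (GG G a b) a) = 1 ∧ Nat.card (orbit (GG G a b) b) = 1 := by
  constructor
  · have : orbit (GG G a b) a = {a} := by
      ext x
      constructor
      · rintro ⟨g, rfl⟩
        exact (mem_GG.1 g.2).1
      · rintro rfl
        exact mem_orbit_self _
    rw [this]; simp
  · have : orbit (GG G a b) b = {b} := by
      ext x
      constructor
      · rintro ⟨g, rfl⟩
        exact (mem_GG.1 g.2).2
      · rintro rfl
        exact mem_orbit_self _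
    rw [this]; simp

theorem ne_of_smul {a c : Ω} {g : G} (hg : g • a = a) (hc : c ≠ a) : g • c ≠ a := by
  intro h
  apply hc
  rw [← hg] at h
  exact smul_left_cancel g h

/-- `|G| = n (n - 1) |G_ab|` -/
theorem card_eq [Finite G] [Finite Ω] (h2 : IsMultiplyPretransitive G Ω 2) {a b : Ω} (hab : a ≠ b) :
    Nat.card G = Nat.card Ω * (Nat.card Ω - 1) * Nat.card (GG G a b) := by
  have h4 := card_eq_descFactorial h2 (pair a b hab)
  have h5 : stabilizer G (pair a b hab) = GG G a b := by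
    rw [← iInf_stab]
    exact iInf_pair _
  have h6 : (Nat.card Ω).descFactorial 2 = Nat.card Ω * (Nat.card Ω - 1) := by
    rw [Nat.descFactorial_succ, Nat.descFactorial_one, mul_comm]
  rw [h6, h5] at h4
  exact h4

namespace Half

variable {m : ℕ} (H : Half G Ω m)
include H

/-- `m` divides `n - 2` -/
theorem dvd [Finite Ω] [Nontrivial Ω] : m ∣ Nat.card Ω - 2 := by
  obtain ⟨a, b, hab⟩ := exists_pair_ne Ω
  rw [← ncard_compl_pair hab]
  refine dvd_ncard_of_orbits (GG G a b) _ ?_ ?_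
  · rintro g hg x ⟨hx1, hx2⟩
    rw [mem_GG] at hg
    exact ⟨ne_of_smul hg.1 hx1, ne_of_smul hg.2 hx2⟩
  · intro x hx
    exact H.orb a b x hab hx.1 hx.2

theorem pos [Finite Ω] (hn : 3 ≤ Nat.card Ω) : 0 < m := by
  have hnt : Nontrivial Ω := Finite.one_lt_card_iff_nontrivial.1 (by omega)
  have h := H.dvd
  rcases Nat.eq_zero_or_pos m with rfl | h0
  · rw [zero_dvd_iff] at h
    omega
  · exact h0

/-- `m = 1`: the stabilisers of two points are trivial -/
theorem eq_bot_of_one [FaithfulSMul G Ω] (h : m = 1) {a b : Ω} (hab : a ≠ b) : GG G a b = ⊥ := by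
  apply eq_bot_of_orbit_one (Ω := Ω)
  intro x
  by_cases h1 : x = a
  · rw [h1]; exact GG_fix_a.1
  by_cases h2 : x = b
  · rw [h2]; exact GG_fix_a.2
  · rw [H.orb a b x hab h1 h2, h]

theorem concl_of_one [FaithfulSMul G Ω] (h : m = 1) : ∀ s : Fin 2 ↪ Ω, (⨅ i, stabilizer G (s i)) = ⊥ := by
  intro s
  rw [iInf_pair]
  exact H.eq_bot_of_one h (fun h => by simpa using s.injective h)

/-- **`m > (n - 2) / 2`: `G` is 3-transitive.** -/
theorem three_of_lt [Finite Ω] (hn : 3 ≤ Nat.card Ω) (h2 : IsMultiplyPretransitive G Ω 2)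
    (h : Nat.card Ω - 2 < 2 * m) : IsMultiplyPretransitive G Ω 3 := by
  have hnt : Nontrivial Ω := Finite.one_lt_card_iff_nontrivial.1 (by omega)
  have hd := H.dvd
  have hm : m = Nat.card Ω - 2 := by
    obtain ⟨k, hk⟩ := hd
    rcases k with - | - | k
    · omega
    · omega
    · exfalso
      have : m * (k + 1 + 1) = 2 * m + m * k := by ring
      omega
  apply of_exists_map
  intro s t
  have hs : s 0 ≠ s 1 := fun h => by simpa using s.injective h
  have ht : t 0 ≠ t 1 := fun h => by simpa using t.injective h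
  have hs2 : s 2 ≠ s 0 ∧ s 2 ≠ s 1 := ⟨fun h => by simpa using s.injective h, fun h => by simpa using s.injective h⟩
  have ht2 : t 2 ≠ t 0 ∧ t 2 ≠ t 1 := ⟨fun h => by simpa using t.injective h, fun h => by simpa using t.injective h⟩
  obtain ⟨g, g1, g2⟩ := two_pts h2 (s 0) (s 1) (t 0) (t 1) hs ht
  have hsub : orbit (GG G (t 0) (t 1)) (g • s 2) ⊆ {x : Ω | x ≠ t 0 ∧ x ≠ t 1} := by
    rintro _ ⟨u, rfl⟩
    have hu := mem_GG.1 u.2
    refine ⟨ne_of_smul hu.1 ?_, ne_of_smul hu.2 ?_⟩
    · rw [← g1]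
      exact fun h => hs2.1 (smul_left_cancel g h)
    · rw [← g2]
      exact fun h => hs2.2 (smul_left_cancel g h)
  have heq : orbit (GG G (t 0) (t 1)) (g • s 2) = {x : Ω | x ≠ t 0 ∧ x ≠ t 1} := by
    apply Set.eq_of_subset_of_ncard_le hsub
    · rw [ncard_compl_pair ht, ← Nat.card_coe_set_eq, H.orb (t 0) (t 1) _ ht ?_ ?_, hm]
      · rw [← g1]
        exact fun h => hs2.1 (smul_left_cancel g h)
      · rw [← g2]
        exact fun h => hs2.2 (smul_left_cancel g h)
  have hmem : t 2 ∈ orbit (GG G (t 0) (t 1)) (g • s 2) := by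
    rw [heq]
    exact ht2
  obtain ⟨u, hu⟩ := hmem
  have hu' := mem_GG.1 u.2
  refine ⟨(u : G) * g, fun i => ?_⟩
  rw [mul_smul]
  fin_cases i
  · show (u : G) • g • s 0 = t 0
    rw [g1, hu'.1]
  · show (u : G) • g • s 1 = t 1
    rw [g2, hu'.2]
  · exact hu

/-- `m` divides the order of the stabiliser of two points -/
theorem dvd_GG [Finite Ω] (hn : 3 ≤ Nat.card Ω) {a b : Ω} (hab : a ≠ b) : m ∣ Nat.card (GG G a b) := by
  obtain ⟨c, hc⟩ : ∃ c : Ω, c ≠ a ∧ c ≠ b := by
    by_contra hcon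
    push Not at hcon
    have h1 := ncard_compl_pair hab
    have h2 : ({x : Ω | x ≠ a ∧ x ≠ b} : Set Ω) = ∅ := by
      ext x
      simp only [Set.mem_ofPred_eq, Set.mem_empty_iff_false, iff_false, not_and, not_not]
      exact hcon x
    rw [h2, Set.ncard_empty] at h1
    omega
  rw [← H.orb a b c hab hc.1 hc.2]
  exact card_orbit_dvd_card _ _

/-- an invariant set of points other than `a, b` has cardinality divisible by `m` -/
theorem dvd_ncard [Finite Ω] {a b : Ω} (hab : a ≠ b) (S : Set Ω) (hS : ∀ x ∈ S, x ≠ a ∧ x ≠ b)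
    (hinv : ∀ g : G, g • a = a → g • b = b → ∀ x ∈ S, g • x ∈ S) : m ∣ S.ncard :=
  dvd_ncard_of_orbits (GG G a b) S (fun g hg => hinv g (mem_GG.1 hg).1 (mem_GG.1 hg).2)
    (fun x hx => H.orb a b x hab (hS x hx).1 (hS x hx).2)

/-- the orbits of a subgroup of `G_ab` have length at most `m` -/
theorem le_of_le [Finite Ω] {a b c : Ω} (hab : a ≠ b) (hca : c ≠ a) (hcb : c ≠ b) {N : Subgroup G} (hN : N ≤ GG G a b) :
    Nat.card (orbit N c) ≤ m := by
  rw [← H.orb a b c hab hca hcb]
  refine Nat.card_mono (Set.toFinite _) ?_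
  rintro _ ⟨n, rfl⟩
  exact ⟨⟨n, hN n.2⟩, rfl⟩

/-- the orbits of a normal subgroup of `G_ab` have length dividing `m` -/
theorem dvd_of_normal [Finite Ω] {a b c : Ω} (hab : a ≠ b) (hca : c ≠ a) (hcb : c ≠ b) {N : Subgroup G} (hN : N ≤ GG G a b)
    (hn : ∀ g ∈ GG G a b, ∀ n, n ∈ N ↔ g * n * g⁻¹ ∈ N) : Nat.card (orbit N c) ∣ m := by
  rw [← H.orb a b c hab hca hcb, Nat.card_coe_set_eq (orbit (GG G a b) c)]
  refine dvd_ncard_of_orbits N (orbit (GG G a b) c) ?_ ?_
  · rintro g hg _ ⟨u, rfl⟩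
    exact ⟨⟨g, hN hg⟩ * u, mul_smul _ _ _⟩
  · rintro _ ⟨u, rfl⟩
    exact card_orbit_smul (hn u u.2) c

/-- prime divisors of `|G_ab|` are at most `m` -/
theorem prime_le [Finite G] [Finite Ω] [FaithfulSMul G Ω] {a b : Ω} (hab : a ≠ b) {p : ℕ} (hp : p.Prime)
    (hd : p ∣ Nat.card (GG G a b)) : p ≤ m := by
  classical
  have := Fact.mk hp
  obtain ⟨x, hx⟩ := exists_prime_orderOf_dvd_card' p hd
  by_contra hcon
  push Not at hcon
  have h1 : (x : G) = 1 := by
    apply FaithfulSMul.eq_of_smul_eq_smul (α := Ω)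
    intro c
    rw [one_smul]
    by_cases hca : c = a
    · rw [hca]; exact (mem_GG.1 x.2).1
    by_cases hcb : c = b
    · rw [hcb]; exact (mem_GG.1 x.2).2
    have hz : Nat.card (orbit (Subgroup.zpowers (x : G)) c) ≤ m :=
      H.le_of_le hab hca hcb (by rw [Subgroup.zpowers_le]; exact x.2)
    have hdv : Nat.card (orbit (Subgroup.zpowers (x : G)) c) ∣ p := by
      have := card_orbit_dvd_card (Subgroup.zpowers (x : G)) c
      rwa [Nat.card_zpowers, Subgroup.orderOf_coe, hx] at this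
    rcases (Nat.dvd_prime hp).1 hdv with h | h
    · rw [Nat.card_eq_one_iff_unique] at h
      have h2 : (⟨(x : G) • c, ⟨⟨x, Subgroup.mem_zpowers _⟩, rfl⟩⟩ : orbit (Subgroup.zpowers (x : G)) c) =
          ⟨c, mem_orbit_self c⟩ := h.1.elim _ _
      exact congrArg Subtype.val h2
    · omega
  have h2 : x = 1 := Subtype.ext h1
  rw [h2, orderOf_one] at hx
  exact hp.one_lt.ne hx

/-- if `m` is prime to `p`, a `p`-subgroup of `G_ab` has at least `(n - 2) / m` more fixed points: every invariant set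
`S` avoiding `a, b` with `l m` points contains at least `l` of them; here in the form: every orbit contains one -/
theorem exists_fix [Finite G] [Finite Ω] {a b c : Ω} (hab : a ≠ b) (hca : c ≠ a) (hcb : c ≠ b) {p : ℕ} (hp : p.Prime)
    (hm : ¬ p ∣ m) {P : Subgroup G} (hP : IsPGroup p P) (hle : P ≤ GG G a b) :
    ∃ d ∈ orbit (GG G a b) c, ∀ x ∈ P, x • d = d := by
  classical
  have := Fact.mk hp
  let C : SubMulAction P Ω :=
    { carrier := orbit (GG G a b) c
      smul_mem' := by
        rintro g _ ⟨u, rfl⟩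
        exact ⟨⟨g, hle g.2⟩ * u, mul_smul _ _ _⟩ }
  have hC : Nat.card C = m := H.orb a b c hab hca hcb
  have h1 := hP.card_modEq_card_fixedPoints C
  have h2 : Nonempty (fixedPoints P C) := by
    by_contra hcon
    rw [not_nonempty_iff] at hcon
    rw [Nat.card_of_isEmpty (α := fixedPoints P C), hC] at h1
    exact hm ((Nat.modEq_zero_iff_dvd).1 h1)
  obtain ⟨⟨d, hd⟩, hdf⟩ := h2
  refine ⟨d, hd, fun x hx => ?_⟩
  exact congrArg Subtype.val (hdf ⟨x, hx⟩)

end Half

end Cfsg.Agent.H386.HalfTwo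
end

-- part: H386/HalfTwo/Count
section
set_option linter.all false
open scoped Cfsg.Agent.FastGrp

/-!
# Counting the fixed pairs of the elements of a class in a 2-transitive group (helper386)
-/

set_option autoImplicit false

namespace Cfsg.Agent.H386.HalfTwo

open MulAction

universe u v

variable {X : Type u} {Ω : Type v} [Group X] [MulAction X Ω]

/-- **the number of elements of a class fixing `a` and `b`** (`a ≠ b`), for a 2-transitive action: `C` is closed under
conjugation and all its elements have `φ` fixed points -/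
theorem fix_count [Finite X] [Finite Ω] (h2 : ∀ a b c d : Ω, a ≠ b → c ≠ d → ∃ g : X, g • a = c ∧ g • b = d) (C : Set X)
    (hC : ∀ t ∈ C, ∀ g : X, g * t * g⁻¹ ∈ C) {φ : ℕ} (hφ : ∀ t ∈ C, {x : Ω | t • x = x}.ncard = φ)
    {a b : Ω} (hab : a ≠ b) :
    C.ncard * (φ * (φ - 1)) = Nat.card Ω * (Nat.card Ω - 1) * {t : X | t ∈ C ∧ t • a = a ∧ t • b = b}.ncard := by
  classical
  have : Fintype X := Fintype.ofFinite X
  have : Fintype Ω := Fintype.ofFinite Ω
  set k := {t : X | t ∈ C ∧ t • a = a ∧ t • b = b}.ncard with hk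
  have hk' : ∀ c d : Ω, c ≠ d → {t : X | t ∈ C ∧ t • c = c ∧ t • d = d}.ncard = k := by
    intro c d hcd
    obtain ⟨g, hg1, hg2⟩ := h2 a b c d hab hcd
    have h1 : {t : X | t ∈ C ∧ t • c = c ∧ t • d = d} =
        (fun t => g * t * g⁻¹) '' {t : X | t ∈ C ∧ t • a = a ∧ t • b = b} := by
      ext t
      constructor
      · rintro ⟨h3, h4, h5⟩
        refine ⟨g⁻¹ * t * g, ⟨by simpa using hC t h3 g⁻¹, ?_, ?_⟩, by group⟩
        · rw [mul_smul, mul_smul, hg1, h4, ← hg1, inv_smul_smul]
        · rw [mul_smul, mul_smul, hg2, h5, ← hg2, inv_smul_smul]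
      · rintro ⟨s, ⟨h3, h4, h5⟩, rfl⟩
        refine ⟨hC s h3 g, ?_, ?_⟩
        · show (g * s * g⁻¹) • c = c
          rw [mul_smul, mul_smul, ← hg1, inv_smul_smul, h4]
        · show (g * s * g⁻¹) • d = d
          rw [mul_smul, mul_smul, ← hg2, inv_smul_smul, h5]
    rw [h1, Set.ncard_image_of_injective]
    intro x y hxy
    simpa using hxy
  let D : Finset (Ω × Ω) := Finset.univ.filter fun x => x.1 ≠ x.2
  have hD : D.card = Nat.card Ω * (Nat.card Ω - 1) := by
    have : D = Finset.univ.offDiag := by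
      ext x; simp [D]
    rw [this, Finset.offDiag_card, Finset.card_univ, Nat.card_eq_fintype_card, Nat.mul_sub, mul_one]
  have e1 : ∀ t ∈ C.toFinset, ∑ x ∈ D, (if t • x.1 = x.1 ∧ t • x.2 = x.2 then 1 else 0) = φ * (φ - 1) := by
    intro t ht
    have hφ' := hφ t (Set.mem_toFinset.1 ht)
    rw [Set.ncard_eq_toFinset_card', Set.toFinset_ofPred] at hφ'
    rw [Finset.sum_boole]
    have h1 : (D.filter fun x => t • x.1 = x.1 ∧ t • x.2 = x.2) = (Finset.univ.filter fun x : Ω => t • x = x).offDiag := by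
      ext x
      simp only [D, Finset.mem_filter, Finset.mem_univ, true_and, Finset.mem_offDiag]
      tauto
    rw [h1, Finset.offDiag_card, hφ', Nat.mul_sub, mul_one]
    simp
  have e2 : ∀ x ∈ D, ∑ t ∈ C.toFinset, (if t • x.1 = x.1 ∧ t • x.2 = x.2 then 1 else 0) = k := by
    intro x hx
    rw [← hk' x.1 x.2 (by simpa [D] using hx), Finset.sum_boole, Set.ncard_eq_toFinset_card']
    simp only [Nat.cast_id]
    congr 1
    ext t
    simp
    tauto
  have e3 : ∑ t ∈ C.toFinset, ∑ x ∈ D, (if t • x.1 = x.1 ∧ t • x.2 = x.2 then 1 else 0) =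
      ∑ x ∈ D, ∑ t ∈ C.toFinset, (if t • x.1 = x.1 ∧ t • x.2 = x.2 then 1 else 0) := Finset.sum_comm
  rw [Finset.sum_congr rfl e1, Finset.sum_congr rfl e2, Finset.sum_const, Finset.sum_const,
    smul_eq_mul, smul_eq_mul, hD] at e3
  rw [Set.ncard_eq_toFinset_card', e3]

end Cfsg.Agent.H386.HalfTwo
end

-- part: H60/HalfPsl
section
set_option linter.all false
open scoped Cfsg.Agent.FastGrp

/-!
# `(2+1/2)`-transitive groups (S3576): the rows `PSL₂(8)` (degree 28) and `PSL₂(11)` (degree 11)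
(helper60, task of helper386)
-/

set_option autoImplicit false

namespace Cfsg.Agent.H60.HalfPsl

open MulAction Cfsg.Agent.H384.TwoTrans Cfsg.Agent.H386.HalfTwo Cfsg.Agent.H57 Cfsg.Agent.H488.ThreeHalf

universe u v

variable {G : Type u} {Ω : Type v} [Group G] [MulAction G Ω] {T : Subgroup G} {m : ℕ}

theorem card_out {F : Type} [Field F] [Fintype F] {p f : ℕ} [Fact p.Prime] (hf : 1 ≤ f)
    (hF : Fintype.card F = p ^ f) (h4 : 4 ≤ p ^ f) :
    Nat.card (Cfsg.Out (Matrix.ProjectiveSpecialLinearGroup (Fin 2) F)) = Nat.gcd 2 (p ^ f - 1) * f := by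
  obtain ⟨φ, hφ, -, hker⟩ := Cfsg.Agent.S2602.result (F := F) (p := p) (f := f) hf hF h4
  have h1 := Subgroup.card_mul_index φ.ker
  rw [Subgroup.index_ker, MonoidHom.range_eq_top.2 hφ, Subgroup.card_top, hker,
    Nat.card_congr Multiplicative.toAdd, Nat.card_zmod] at h1
  exact h1.symm

/-- **The row `PSL₂(8)`, degree 28** -/
theorem psl2_8 (A : AS G Ω T) (H : Half G Ω m) {F : Type} [Field F] [Fintype F] (hF : Fintype.card F = 8)
    (e : Nonempty (T ≃* Matrix.ProjectiveSpecialLinearGroup (Fin 2) F)) (hn : Nat.card Ω = 28) :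
    m = 1 ∨ IsMultiplyPretransitive G Ω 3 := by
  left
  obtain ⟨e⟩ := e
  have := A.finG
  have := A.finΩ
  have := A.faithful
  have := A.finT
  obtain ⟨hT, -, hcent⟩ := TTL28.psl_facts hF e
  have h2 : Fact (Nat.Prime 2) := ⟨Nat.prime_two⟩
  have h4 := TTOut.AS.card_dvd A e
  rw [card_out (p := 2) (f := 3) (by norm_num) (by rw [hF]; norm_num) (by norm_num), hT] at h4
  norm_num at h4
  have hTd : Nat.card T ∣ Nat.card G := Subgroup.card_subgroup_dvd_card T
  rw [hT] at hTd
  -- an involution `u` and `P = C_T(u)`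
  obtain ⟨u, hu⟩ := exists_prime_orderOf_dvd_card' (G := T) 2 (by rw [hT]; norm_num)
  obtain ⟨hP, hexp⟩ := hcent u hu
  set P := Subgroup.centralizer ({u} : Set T) with hPdef
  have hPe : ∀ x : P, x * x = 1 := by
    intro x
    apply Subtype.ext
    exact hexp x (by
      have := Subgroup.mem_centralizer_iff.1 x.2 u rfl
      exact this)
  have hcomm : ∀ x y : P, x * y = y * x := by
    intro x y
    have h1 : (x * y)⁻¹ = x * y := inv_eq_of_mul_eq_one_right (hPe _)
    rw [mul_inv_rev, inv_eq_of_mul_eq_one_right (hPe x), inv_eq_of_mul_eq_one_right (hPe y)] at h1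
    exact h1.symm
  -- a point with a nontrivial stabiliser in `P`
  have hex : ∃ x : Ω, Nat.card (orbit P x) ≠ 8 := by
    by_contra hcon
    push Not at hcon
    have h5 := dvd_ncard_of_orbits (G := T) P (Set.univ : Set Ω) (fun _ _ _ _ => Set.mem_univ _) (l := 8)
      (fun x _ => hcon x)
    rw [Set.ncard_univ, hn] at h5
    omega
  obtain ⟨x, hx⟩ := hex
  have horb : Nat.card (orbit P x) * Nat.card (stabilizer P x) = 8 := by
    rw [← hP, ← Subgroup.index_mul_card (stabilizer P x), MulAction.index_stabilizer, Nat.card_coe_set_eq]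
  have hst : Nat.card (stabilizer P x) ∣ 18 := by
    have h5 := A.card_mul x
    rw [hn, hT] at h5
    have h6 : Nat.card (stabilizer T x) = 18 := by omega
    rw [← h6]
    let ψ : stabilizer P x →* stabilizer T x :=
      { toFun := fun y => ⟨y.1.1, y.2⟩
        map_one' := rfl
        map_mul' := fun _ _ => rfl }
    refine Subgroup.card_dvd_of_injective ψ ?_
    intro a b hab
    apply Subtype.ext
    apply Subtype.ext
    exact congrArg (fun y : stabilizer T x => (y : T)) hab
  have hst2 : Nat.card (stabilizer P x) ∣ 2 := by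
    have h5 : Nat.card (stabilizer P x) ∣ Nat.gcd 8 18 := Nat.dvd_gcd (Dvd.intro_left _ horb) hst
    exact h5
  have hst' : Nat.card (stabilizer P x) = 2 := by
    rcases (Nat.dvd_prime Nat.prime_two).1 hst2 with h5 | h5
    · rw [h5, mul_one] at horb
      exact absurd horb hx
    · exact h5
  have horb4 : Nat.card (orbit P x) = 4 := by
    rw [hst'] at horb
    omega
  obtain ⟨s, hs⟩ : ∃ s : stabilizer P x, s ≠ 1 := by
    have : Nontrivial (stabilizer P x) := Finite.one_lt_card_iff_nontrivial.1 (by omega)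
    exact exists_ne 1
  have hfix : ∀ y ∈ orbit P x, ((s.1.1 : T) : G) • y = y := by
    rintro _ ⟨g, rfl⟩
    have h5 : s.1 • (g • x) = g • x := by
      rw [← mul_smul, hcomm, mul_smul, s.2]
    exact h5
  have h3 : 2 < (orbit P x).ncard := by
    rw [← Nat.card_coe_set_eq, horb4]; norm_num
  obtain ⟨a, ha, b, hb, c, hc, hab, hac, hbc⟩ := (Set.two_lt_ncard (Set.toFinite _)).1 h3
  have hGG : Nat.card (GG G a b) = 2 := by
    have h5 := card_eq A.two hab
    rw [hn] at h5
    have hGd : Nat.card G = 1512 := by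
      obtain ⟨k, hk⟩ := hTd
      have h6 := Nat.le_of_dvd (by norm_num) h4
      have h7 : 0 < Nat.card G := Nat.card_pos
      have h8 : 28 * (28 - 1) ∣ Nat.card G := by rw [h5]; exact Dvd.intro _ rfl
      omega
    omega
  have hsG : ((s.1.1 : T) : G) ∈ GG G a b := mem_GG.2 ⟨hfix a ha, hfix b hb⟩
  have hs1 : ((s.1.1 : T) : G) ≠ 1 := by
    intro h
    apply hs
    apply Subtype.ext
    apply Subtype.ext
    apply Subtype.ext
    exact h
  have hall : ∀ g ∈ GG G a b, g • c = c := by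
    have h5 : Subgroup.zpowers ((s.1.1 : T) : G) = GG G a b := by
      apply Subgroup.eq_of_le_of_card_ge
      · rw [Subgroup.zpowers_le]; exact hsG
      · rw [hGG]
        by_contra hlt
        have h6 : Nat.card (Subgroup.zpowers ((s.1.1 : T) : G)) = 1 := by
          have : 0 < Nat.card (Subgroup.zpowers ((s.1.1 : T) : G)) := Nat.card_pos
          omega
        rw [Nat.card_zpowers, orderOf_eq_one_iff] at h6
        exact hs1 h6
    intro g hg
    rw [← h5] at hg
    have h6 : Subgroup.zpowers ((s.1.1 : T) : G) ≤ stabilizer G c := by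
      rw [Subgroup.zpowers_le]
      exact hfix c hc
    exact h6 hg
  rw [← H.orb a b c hab hac.symm hbc.symm]
  have h7 : orbit (GG G a b) c = {c} := by
    ext y
    constructor
    · rintro ⟨g, rfl⟩
      exact hall g g.2
    · rintro rfl
      exact mem_orbit_self _
  rw [h7]
  simp

/-- the elements of `T` are even permutations -/
theorem sign_eq (A : AS G Ω T) [Fintype Ω] [DecidableEq Ω] (t : T) :
    Equiv.Perm.sign (MulAction.toPermHom T Ω t) = 1 := by
  have hs := A.simple
  rcases hs.eq_bot_or_eq_top_of_normal (Equiv.Perm.sign.comp (MulAction.toPermHom T Ω)).ker inferInstance with h | h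
  · exfalso
    apply A.nonab
    refine ⟨⟨fun x y => ?_⟩⟩
    apply (MonoidHom.ker_eq_bot_iff _).1 h
    rw [map_mul, map_mul, mul_comm]
  · have h1 : t ∈ (Equiv.Perm.sign.comp (MulAction.toPermHom T Ω)).ker := h ▸ Subgroup.mem_top t
    exact h1

/-- an even involution on 11 points has 7 or 3 fixed points -/
theorem fix_even (A : AS G Ω T) (hn : Nat.card Ω = 11) (t : T) (ht : orderOf t = 2) :
    {x : Ω | (t : G) • x = x}.ncard = 7 ∨ {x : Ω | (t : G) • x = x}.ncard = 3 := by
  classical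
  have := A.finΩ
  have := A.faithfulT
  have : Fintype Ω := Fintype.ofFinite Ω
  have hs := sign_eq A t
  set σ := MulAction.toPermHom T Ω t with hσ
  have hσ2 : orderOf σ = 2 := by
    rw [hσ, orderOf_injective _ MulAction.toPerm_injective, ht]
  obtain ⟨k, hk⟩ := Equiv.Perm.cycleType_prime_order (σ := σ) (by rw [hσ2]; exact Nat.prime_two)
  rw [hσ2] at hk
  have h1 := Equiv.Perm.card_fixedPoints σ
  have h2 := Equiv.Perm.sum_cycleType_le σ
  rw [Equiv.Perm.sign_of_cycleType] at hs
  rw [hk, Multiset.sum_replicate, smul_eq_mul] at h1 h2 hs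
  rw [Multiset.card_replicate] at hs
  rw [← Nat.card_eq_fintype_card, hn] at h2
  rw [← Nat.card_eq_fintype_card (α := Ω), hn, ← Nat.card_eq_fintype_card] at h1
  have h3 : Nat.card (Function.fixedPoints σ) = {x : Ω | (t : G) • x = x}.ncard := by
    rw [← Nat.card_coe_set_eq]
    rfl
  rw [h3] at h1
  have h4 : Even ((k + 1) * 2 + (k + 1)) := by
    by_contra hodd
    rw [Nat.not_even_iff_odd] at hodd
    rw [Odd.neg_one_pow hodd] at hs
    exact absurd hs (by decide)
  rw [Nat.even_iff] at h4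
  omega

/-- **The row `PSL₂(11)`, degree 11** -/
theorem psl2_11 (A : AS G Ω T) (H : Half G Ω m) {F : Type} [Field F] [Fintype F] (hF : Fintype.card F = 11)
    (e : Nonempty (T ≃* Matrix.ProjectiveSpecialLinearGroup (Fin 2) F)) (hn : Nat.card Ω = 11) :
    m = 1 ∨ IsMultiplyPretransitive G Ω 3 := by
  classical
  left
  obtain ⟨e⟩ := e
  have := A.finG
  have := A.finΩ
  have := A.faithful
  have := A.finT
  have := A.nontrivialΩ
  have hT : Nat.card T = 660 := by
    have h1 := Cfsg.Agent.ClassicalGeometry.PSL2Basic.card_PSL2_odd (F := F) (by rw [hF]; decide)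
    rw [hF, ← Nat.card_congr e.toEquiv] at h1
    omega
  have h11 : Fact (Nat.Prime 11) := ⟨by norm_num⟩
  have h2 : Fact (Nat.Prime 2) := ⟨Nat.prime_two⟩
  have h4 := TTOut.AS.card_dvd A e
  rw [card_out (p := 11) (f := 1) (by norm_num) (by rw [hF]; norm_num) (by norm_num), hT] at h4
  norm_num at h4
  have hGG : ∀ a b : Ω, a ≠ b → Nat.card (GG G a b) ∣ 12 := by
    intro a b hab
    have h5 := card_eq A.two hab
    rw [hn] at h5
    rw [h5, show 1320 = 11 * (11 - 1) * 12 by norm_num] at h4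
    exact Nat.dvd_of_mul_dvd_mul_left (by norm_num) h4
  have hm9 : m ∣ 9 := by
    have := H.dvd
    rwa [hn] at this
  obtain ⟨a, b, hab⟩ := exists_pair_ne Ω
  have hm12 : m ∣ 12 := (H.dvd_GG (by omega) hab).trans (hGG a b hab)
  have hm3 : m ∣ 3 := by
    have : m ∣ Nat.gcd 9 12 := Nat.dvd_gcd hm9 hm12
    exact this
  rcases (Nat.dvd_prime Nat.prime_three).1 hm3 with h | h
  · exact h
  exfalso
  -- the involutions of `T` have 7 fixed points
  have hseven : ∀ t : T, orderOf t = 2 → {x : Ω | (t : G) • x = x}.ncard = 7 := by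
    intro t ht
    rcases fix_even A hn t ht with h5 | h5
    · exact h5
    exfalso
    obtain ⟨x, y, z, hxy, hxz, hyz, hset⟩ := Set.ncard_eq_three.1 h5
    have hmem : ∀ w : Ω, (t : G) • w = w ↔ w = x ∨ w = y ∨ w = z := by
      intro w
      have : w ∈ {x : Ω | (t : G) • x = x} ↔ w ∈ ({x, y, z} : Set Ω) := by rw [hset]
      simpa using this
    have hx := (hmem x).2 (Or.inl rfl)
    have hy := (hmem y).2 (Or.inr (Or.inl rfl))
    -- a point `c` outside of `x`, `y` and the orbit of `z`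
    have hoz := H.orb x y z hxy hxz.symm hyz.symm
    obtain ⟨c, hc⟩ : ∃ c : Ω, c ∉ ({x, y} ∪ orbit (GG G x y) z : Set Ω) := by
      by_contra hcon
      push Not at hcon
      have h6 : ({x, y} ∪ orbit (GG G x y) z : Set Ω) = Set.univ := Set.eq_univ_of_forall hcon
      have h7 := Set.ncard_union_le ({x, y} : Set Ω) (orbit (GG G x y) z)
      rw [h6, Set.ncard_univ, hn, Set.ncard_pair hxy, ← Nat.card_coe_set_eq, hoz] at h7
      omega
    have hcx : c ≠ x := fun h => hc (Or.inl (Or.inl h))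
    have hcy : c ≠ y := fun h => hc (Or.inl (Or.inr h))
    have hP : IsPGroup 2 (Subgroup.zpowers (t : G)) := by
      apply IsPGroup.of_card (n := 1)
      rw [Nat.card_zpowers, Subgroup.orderOf_coe, ht, pow_one]
    obtain ⟨d, hd, hdf⟩ := H.exists_fix hxy hcx hcy Nat.prime_two (by rw [h]; norm_num) hP
      (by rw [Subgroup.zpowers_le]; exact mem_GG.2 ⟨hx, hy⟩)
    have hdt := hdf t (Subgroup.mem_zpowers _)
    obtain ⟨g, hg⟩ := hd
    have hg' : (g : G) • c = d := hg
    have hgx := mem_GG.1 g.2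
    rcases (hmem d).1 hdt with h6 | h6 | h6
    · apply hcx
      exact smul_left_cancel (g : G) ((hg'.trans h6).trans hgx.1.symm)
    · apply hcy
      exact smul_left_cancel (g : G) ((hg'.trans h6).trans hgx.2.symm)
    · apply hc
      right
      refine ⟨g⁻¹, ?_⟩
      show ((g⁻¹ : GG G x y) : G) • z = c
      rw [Subgroup.coe_inv, inv_smul_eq_iff, ← h6, hg']
  -- the count
  let C : Set G := {g | g ∈ T ∧ orderOf g = 2}
  have hC1 : ∀ t ∈ C, ∀ g : G, g * t * g⁻¹ ∈ C := by
    rintro t ⟨h5, h6⟩ g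
    refine ⟨A.normal.conj_mem _ h5 g, ?_⟩
    rw [← h6, ← MulAut.conj_apply]
    exact MulEquiv.orderOf_eq (MulAut.conj g) t
  have hC2 : ∀ t ∈ C, {x : Ω | t • x = x}.ncard = 7 := by
    rintro t ⟨h5, h6⟩
    exact hseven ⟨t, h5⟩ (by rw [Subgroup.orderOf_mk]; exact h6)
  have hcount := fix_count (X := G) A.two' C hC1 hC2 hab
  rw [hn] at hcount
  have hi : {t : G | t ∈ C ∧ t • a = a ∧ t • b = b}.ncard ≤ 12 := by
    have h5 : {t : G | t ∈ C ∧ t • a = a ∧ t • b = b} ⊆ (GG G a b : Set G) := by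
      rintro t ⟨-, h6, h7⟩
      exact mem_GG.2 ⟨h6, h7⟩
    have h6 := Set.ncard_le_ncard h5 (Set.toFinite _)
    have h7 := Nat.le_of_dvd (by norm_num) (hGG a b hab)
    have h8 : (GG G a b : Set G).ncard = Nat.card (GG G a b) := rfl
    omega
  have hCpos : 0 < C.ncard := by
    obtain ⟨u, hu⟩ := exists_prime_orderOf_dvd_card' (G := T) 2 (by rw [hT]; norm_num)
    rw [Set.ncard_pos (Set.toFinite _)]
    exact ⟨u, u.2, by rw [Subgroup.orderOf_coe, hu]⟩
  omega

end Cfsg.Agent.H60.HalfPsl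
end
end
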